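import Groth.Agent.L03.PlaneProj.Push
import Groth.Agent.L03.SurfLeray.EulerTwist
import Groth.Agent.L03.BlowPt.CurveSeq
import Groth.Agent.L07.BoxSurj.Basic
import Groth.Agent.L17.Approx.Extend
import Groth.Agent.L22.Big.Support
import Groth.Agent.L22.CurveDeg.NonSpecial
import Groth.Agent.L03.SurfAdj.Tools

/-!
# Modules containing a curve of the same degree on the fibres
-/

set_option autoImplicit false
set_option linter.style.haveILetI false
set_option backward.isDefEq.respectTransparency false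
set_option linter.unusedSectionVars false

universe u

open CategoryTheory CategoryTheory.Limits AlgebraicGeometry TopologicalSpace
open Groth.L22.Inter Groth.L22.Nef Groth.L22.Big Groth.L03.Euler Groth.L03.SurfNum Groth.L03.BlowPt
open Groth.L00.Tensor (tensorIso tensorComm tensorUnitLeft tensorUnitRight tensorAssoc tensorMap)
open Groth.L18.GenLoc (secOf)
open Groth.L16.CohLinear (hmap exact_hmap_hmap)

noncomputable section

namespace Groth.L03.PlaneProj

variable (k : Type u) [Field k] [IsAlgClosed k] {X : Scheme.{u}} [X.Over (Spec (CommRingCat.of k))]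
  [IsIntegral X] [IsProper (X ↘ (Spec (CommRingCat.of k)))]

/-- A pulled back ample module has nonnegative degree on curves, zero only on contracted ones. -/
theorem degree_ample_pullback {Y : Scheme.{u}} [Y.Over (Spec (CommRingCat.of k))]
    [IsProper (Y ↘ Spec (CommRingCat.of k))] [IsIntegral Y] (φ : X ⟶ Y) [IsProper φ]
    (hd : topologicalKrullDim X = (2 : ℕ)) {A : Y.Modules} (hA : CohB1.IsAmple A)
    {y : X} (hy : topologicalKrullDim (closure ({y} : Set X)) = (1 : ℕ))
    (hI : PicF.IsInvertible (ClSub.idealMod (pt y))) :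
    ii k (ClSub.idealMod (pt y)) ((Scheme.Modules.pullback φ).obj A) ≤ 0 ∧
      (ii k (ClSub.idealMod (pt y)) ((Scheme.Modules.pullback φ).obj A) = 0 → IsClosed ({φ y} : Set Y)) := by
  haveI := Groth.L21.RR.isNoetherian_of_proper (X := X) k
  by_cases hc : IsClosed ({φ y} : Set Y)
  · refine ⟨le_of_eq (ii_pullback_contracted k hd φ hA.1 hy hI (φ y) fun w hw => ?_), fun _ => hc⟩
    exact hc.closure_eq.subset (specializes_iff_mem_closure.1 ((specializes_iff_mem_closure.2 hw).map φ.continuous))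
  suffices hlt : ii k (ClSub.idealMod (pt y)) ((Scheme.Modules.pullback φ).obj A) < 0 from
    ⟨hlt.le, fun h => absurd h hlt.ne⟩
  obtain ⟨n, s, hs, hsA⟩ := hA.2.2 (φ y)
  obtain ⟨w, hw, hws⟩ := Set.not_subset.1 fun h => hc (isClosed_of_closure_subset_affine k hsA h)
  have hcl : φ '' closure ({y} : Set X) = closure {φ y} := by
    rw [← Set.image_singleton]
    exact (φ.isClosedMap.closure_image_eq_of_continuous φ.continuous _).symm
  obtain ⟨z, hz, rfl⟩ := hcl.ge hw
  have hT := Groth.L18.Ample.isInvertible_tensorPow hA.1 (n + 1)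
  let N := (Scheme.Modules.pullback φ).obj (CohB1.tensorPow A (n + 1))
  have hN : PicF.IsInvertible N := Groth.L18.Ample.isInvertible_pullback φ hT
  let t : Coh.structureModule X ⟶ N :=
    (Groth.L29.LocFree.pullbackUnitIso φ).symm.hom ≫ (Scheme.Modules.pullback φ).map s
  have ht : ∀ v, v ∈ CohB1.genLocus N t ↔ φ v ∈ CohB1.genLocus _ s := fun v => by
    rw [Groth.L18.Ample.genLocus_iso_pullback (u := φ) hT s (Groth.L29.LocFree.pullbackUnitIso φ).symm]
    exact Iff.rfl
  have h := Groth.L03.SurfAmple.altT_pt_pos k hd hN t hy ((ht y).2 hs) hz (fun hv => hws ((ht z).1 hv))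
  rw [altT_quotMod_eq k hN (pt y) hI, ii_comm, ii_congr k (Groth.L18.Ample.pullPow φ _ (n + 1))] at h
  rw [ii_comm]
  rw [ii_pow k hd.le (Groth.L18.Ample.isInvertible_pullback φ hA.1) hI] at h
  push_cast at h
  nlinarith

variable [Smooth (X ↘ (Spec (CommRingCat.of k)))] (π : X ⟶ CohB1.ProjSpace 1 k) [π.IsOver (Spec (CommRingCat.of k))]
  [Surjective π] [HasInjectiveResolutions X.Modules]

/-- A module containing another one, equal to it over an open set of the line, inherits vanishing. -/
theorem h1_of_sub [IsIntegral (CohB1.ProjSpace 1 k)] (hdim : topologicalKrullDim X = 2) {N L : X.Modules} (hN : PicF.IsInvertible N)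
    (hL : PicF.IsInvertible L) (f : N ⟶ L) [Mono f] {U : (CohB1.ProjSpace 1 k).Opens}
    (hU : genericPoint (CohB1.ProjSpace 1 k) ∈ U)
    [hf : IsIso ((Scheme.Modules.restrictFunctor (π ⁻¹ᵁ U).ι).map f)]
    (h1 : Subsingleton (Coh.HH X N 1)) (hR1 : IsZero ((Coh.Rpush π 1).obj L)) :
    Subsingleton (Coh.HH X L 1) := by
  haveI : IsProper (CohB1.ProjSpace 1 k ↘ Spec (CommRingCat.of k)) := Groth.L16.ProjSpace.isProper_toSpec 1 k
  haveI : Smooth (CohB1.ProjSpace 1 k ↘ Spec (CommRingCat.of k)) :=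
    inferInstanceAs (Smooth (CohB1.ProjSpace.toSpec 1 k))
  haveI := Groth.L21.RR.isNoetherian_of_proper (X := X) k
  haveI := Groth.L21.RR.isNoetherian_of_proper (X := CohB1.ProjSpace 1 k) k
  haveI : (CohB1.ProjSpace 1 k).IsSeparated :=
    ⟨by rw [← terminal.comp_from (CohB1.ProjSpace 1 k ↘ Spec (CommRingCat.of k))]; infer_instance⟩
  haveI : IsProper π := by
    haveI : IsProper (π ≫ (CohB1.ProjSpace 1 k ↘ Spec (CommRingCat.of k))) := by rw [comp_over]; infer_instance
    exact IsProper.of_comp π (CohB1.ProjSpace 1 k ↘ Spec (CommRingCat.of k))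
  have hdC : topologicalKrullDim (CohB1.ProjSpace 1 k) = 1 :=
    (Groth.L16.ProjSpace.topologicalKrullDim_eq_of_field 1 k).trans Nat.cast_one
  let G := (Scheme.Modules.pushforward π).obj N
  let G' := (Scheme.Modules.pushforward π).obj L
  let g : G ⟶ G' := (Scheme.Modules.pushforward π).map f
  haveI : (Scheme.Modules.pushforward π).IsRightAdjoint :=
    (Scheme.Modules.pullbackPushforwardAdjunction π).isRightAdjoint
  haveI : Mono g := inferInstanceAs (Mono ((Scheme.Modules.pushforward π).map f))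
  have hG : Subsingleton (Coh.HH (CohB1.ProjSpace 1 k) G 1) := by
    have h := Groth.L03.SurfLeray.h1_eq k hdC π hN
    rw [Module.finrank_zero_of_subsingleton (M := Coh.HH X N 1)] at h
    have hcG : Coh.IsCoh G :=
      Groth.L16.Exist.isCoh_pushforward π (Groth.L16.ProperFinite.isCoh_of_isInvertible hN)
    haveI := Groth.L16.ProperFinite.finite_HH k hcG 1
    rw [← Module.finrank_zero_iff (R := k)]
    show Module.finrank k (Coh.HH (CohB1.ProjSpace 1 k) ((Scheme.Modules.pushforward π).obj N) 1) = 0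
    omega
  have hS : (ShortComplex.mk g (cokernel.π g) (cokernel.condition g)).ShortExact :=
    { exact := ShortComplex.exact_cokernel g }
  have hQ : Coh.IsCoh (cokernel g) := (Groth.L16.CohKernel.isCoh_kernel_cokernel
    (Groth.L16.Exist.isCoh_pushforward π (Groth.L16.ProperFinite.isCoh_of_isInvertible hN))
    (Groth.L16.Exist.isCoh_pushforward π (Groth.L16.ProperFinite.isCoh_of_isInvertible hL)) g).2
  set η := genericPoint (CohB1.ProjSpace 1 k)
  have hη : η ∉ CohB1.support (cokernel g) := by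
    intro hne
    refine hne (subsingleton_of_forall_eq 0 fun v => ?_)
    obtain ⟨w, rfl⟩ := (ModuleCat.epi_iff_surjective
      ((Groth.L00.Stk.F (CohB1.ProjSpace 1 k) η).map (cokernel.π g))).1 inferInstance v
    obtain ⟨V, hηV, a, rfl⟩ := TopCat.Presheaf.exists_germ_eq G'.presheaf w
    obtain ⟨b, hb⟩ := (Groth.L17.Approx.bijective_app_of_isIso_restrict f
      (V := π ⁻¹ᵁ U) (O := π ⁻¹ᵁ (V ⊓ U)) (π.preimage_mono inf_le_right)).2
      (Groth.L18.Frame.rs L (π.preimage_mono inf_le_left) a)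
    have hgerm : G'.presheaf.germ V η hηV a =
        ((Groth.L00.Stk.F (CohB1.ProjSpace 1 k) η).map g) (G.presheaf.germ (V ⊓ U) η ⟨hηV, hU⟩ b) := by
      refine Eq.trans ?_ (TopCat.Presheaf.stalkFunctor_map_germ_apply (V ⊓ U) η ⟨hηV, hU⟩
        ((Scheme.Modules.toPresheaf _).map g) b).symm
      refine Eq.trans ?_ (congrArg (G'.presheaf.germ (V ⊓ U) η ⟨hηV, hU⟩) hb).symm
      exact (TopCat.Presheaf.germ_res_apply G'.presheaf (homOfLE inf_le_left) η ⟨hηV, hU⟩ a).symm
    erw [hgerm]
    rw [← ModuleCat.comp_apply, ← Functor.map_comp, cokernel.condition, Functor.map_zero]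
    rfl
  have hQ1 : Subsingleton (Coh.HH (CohB1.ProjSpace 1 k) (cokernel g) 1) := by
    refine Groth.L22.Big.subsingleton_HH_of_support k hQ ?_ one_pos
    exact dim_le_of_generic_notMem (n := 0) (Groth.L16.CohSupport.isClosed_support _ hQ.2) hη
      (hdC.le.trans Nat.cast_one.ge)
  have hG' : Subsingleton (Coh.HH (CohB1.ProjSpace 1 k) G' 1) := subsingleton_of_forall_eq 0 fun x => by
    obtain ⟨c, hc⟩ := (exact_hmap_hmap hS 1 x).1 (hQ1.elim _ _)
    rw [← hc, hG.elim c 0]
    exact map_zero _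
  obtain ⟨E⟩ := Groth.L03.SurfFib.finrank_HH_eq hdim π hL hR1 1
  exact E.symm.toEquiv.subsingleton

omit π in
/-- An ideal of genus zero and square minus one has inverse without first cohomology. -/
theorem h1_inverse_zero {σ : X ⟶ CohB1.ProjSpace 2 k} {r : ℕ} {P : Fin r → CohB1.ProjSpace 2 k}
    (hPc : ∀ i, IsClosed ({P i} : Set (CohB1.ProjSpace 2 k))) {hZ : IsClosed (Set.range P)}
    (hσk : σ ≫ CohB1.ProjSpace.toSpec 2 k = X ↘ (Spec (CommRingCat.of k)))
    (hσ : BlowUp.IsBlowUp σ (Scheme.IdealSheafData.vanishingIdeal ⟨Set.range P, hZ⟩))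
    (hdim : topologicalKrullDim X = 2) (E : X.IdealSheafData) [IsIntegral E.subscheme]
    (hE1 : topologicalKrullDim (E.support : Set X) = 1)
    (hEg : Subsingleton (Coh.HH E.subscheme (Coh.structureModule E.subscheme) 1))
    (hEE : ii k (ClSub.idealMod E) (ClSub.idealMod E) = -1)
    {N : X.Modules} (hN : PicF.IsInvertible N) (eN : CohB1.tensorMod N (ClSub.idealMod E) ≅ Coh.structureModule X) :
    Subsingleton (Coh.HH X N 1) := by
  have hd : topologicalKrullDim X = (2 : ℕ) := hdim.trans Nat.cast_ofNat.symm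
  have hreg := Groth.L03.SurfAdj.reg_of_smooth k (X := X)
  haveI := Groth.L21.RR.isNoetherian_of_proper (X := X) k
  haveI : SmoothOfRelativeDimension 2 (X ↘ Spec (CommRingCat.of k)) :=
    Groth.L16.SmoothSection.smoothOfRelativeDimension_dim _ 2 hd
  have hI := isInvertible_idealMod k hd hreg E hE1
  obtain ⟨W, hW, -⟩ := Groth.L22.Adjunction.exists_isExtPow
    (Groth.L02.Canon.isFinLocFreeOfRank_omega (f := X ↘ Spec (CommRingCat.of k)) 2)
  obtain ⟨h0, hWH⟩ := plane_invariants k hPc hσk hσ hdim hW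
  have hS1 : Subsingleton (Coh.HH X (Coh.structureModule X) 1) := by
    haveI := h2_zero k hPc hσk hσ hdim (Groth.L18.Ample.isInvertible_structureModule X)
      (by rw [show ii k (Coh.structureModule X) _ = 0 from altT_unit k _]; norm_num)
    haveI := Groth.L16.ProperFinite.finite_HH k (X := X) Groth.L16.CohClosedPush.isCoh_structure 1
    have h3 := Groth.L03.SurfAdj.euler_three k hd (Coh.structureModule X)
    have hh := Groth.L22.CurveDeg.h0_structure_eq_one (k := k) (X := X)
    rw [Groth.L21.RR.h] at hh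
    rw [h0, hh, Module.finrank_zero_of_subsingleton (M := Coh.HH X (Coh.structureModule X) 2)] at h3
    rw [← Module.finrank_zero_iff (R := k)]
    omega
  obtain ⟨f, g, w, hS⟩ := shortExact_restrict E hN
  have h3 : Subsingleton (Coh.HH X (CohB1.tensorMod N (ClSub.quotMod E)) 1) := by
    have hpt := eq_pt E
    have hyd : topologicalKrullDim (closure ({E.subschemeι (genericPoint E.subscheme)} : Set X)) = (1 : ℕ) := by
      rw [← dim_support E, hE1, Nat.cast_one]
    have hχ : Curv2.euler k X (ClSub.quotMod E) = 1 := (Groth.L03.SurfAdj.curve_euler k E hE1).2.2 hEg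
    have hdeg : degOn k E N = -1 := by
      have : (degOn k E N : ℚ) = ((-1 : ℤ) : ℚ) := by
        rw [degOn_cast k hI hN, ii_comm, Gram.ii_inverse k hd.le hI hN hI (tensorComm _ _ ≪≫ eN), hEE]
        norm_num
      exact_mod_cast this
    rw [hpt] at hχ hdeg ⊢
    refine Groth.L03.SurfFib.FibreH1.subsingleton_h1_curve k hdim hyd hN ?_
    rw [hχ, hdeg]
    norm_num
  have h1' : Subsingleton (Coh.HH X (CohB1.tensorMod N (ClSub.idealMod E)) 1) :=
    (Groth.L03.SurfAdj.hhEquiv k eN 1).toEquiv.subsingleton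
  refine subsingleton_of_forall_eq 0 fun x => ?_
  obtain ⟨c, hc⟩ := (exact_hmap_hmap hS 1 x).1 (h3.elim _ _)
  rw [← hc, h1'.elim c 0]
  exact map_zero _

/-- A module containing a curve of the same fibre degree has no first cohomology, if the curve's module has none. -/
theorem h1_of_contains (hdim : topologicalKrullDim X = 2) {N L I : X.Modules} (hN : PicF.IsInvertible N)
    (hL : PicF.IsInvertible L) (hI : PicF.IsInvertible I) (eN : CohB1.tensorMod N I ≅ Coh.structureModule X)
    (hcont : Nontrivial (Coh.HH X (CohB1.tensorMod L I) 0))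
    (hdeg : ii k (CohB1.tensorMod L I) ((Scheme.Modules.pullback π).obj (Twist.twistProjSpace 1 k 1)) = 0)
    (h1 : Subsingleton (Coh.HH X N 1)) (hR1 : IsZero ((Coh.Rpush π 1).obj L)) :
    Subsingleton (Coh.HH X L 1) := by
  classical
  haveI : IsIntegral (CohB1.ProjSpace 1 k) := Groth.L16.ProjSpace.isIntegral 1 k
  letI : (CohB1.ProjSpace 1 k).Over (Spec (CommRingCat.of k)) := ⟨CohB1.ProjSpace.toSpec 1 k⟩
  haveI : IsProper (CohB1.ProjSpace 1 k ↘ Spec (CommRingCat.of k)) := Groth.L16.ProjSpace.isProper_toSpec 1 k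
  haveI := Groth.L21.RR.isNoetherian_of_proper (X := X) k
  haveI : (CohB1.ProjSpace 1 k).IsSeparated :=
    ⟨by rw [← terminal.comp_from (CohB1.ProjSpace 1 k ↘ Spec (CommRingCat.of k))]; infer_instance⟩
  haveI : IsProper π := by
    haveI : IsProper (π ≫ (CohB1.ProjSpace 1 k ↘ Spec (CommRingCat.of k))) := by rw [comp_over]; infer_instance
    exact IsProper.of_comp π (CohB1.ProjSpace 1 k ↘ Spec (CommRingCat.of k))
  have hd : topologicalKrullDim X = (2 : ℕ) := hdim.trans Nat.cast_ofNat.symm
  have hreg := Groth.L03.SurfAdj.reg_of_smooth k (X := X)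
  have hM := Groth.L18.GenLoc.isInvertible_tensor hL hI
  set M := CohB1.tensorMod L I
  haveI := hcont
  obtain ⟨s, hs⟩ := Groth.L21.RR.exists_hom_ne_zero (L := M)
  have hη := Groth.L22.CurveAmple.genericPoint_mem_genLocus hM hs
  haveI : Mono s := Groth.L22.Nakai.mono_of_injective (Groth.L18.Ample.isInvertible_structureModule X) s
    (bijective_stalk_section s hη).1
  have hA : CohB1.IsAmple (Twist.twistProjSpace 1 k 1) :=
    (Groth.L16.ProjSpace.isAmple_twistProjSpace_iff (n := 1) (R := k) le_rfl 1).2 one_pos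
  have hO := Groth.L18.Ample.isInvertible_pullback π hA.1
  -- the components of the divisor are vertical
  obtain ⟨eD⟩ := Groth.L03.SurfAmple.nonempty_tensor_zeroScheme hM s hη
  let D := PicF2.zeroScheme M s
  have hDc : BlowUp.IsEffCartierIdeal D := Groth.L03.SurfAmple.isEffCartierIdeal_zeroScheme hM s hη
  have hfin := finite_curves k hd hreg hDc
  obtain ⟨e, he⟩ := exists_factor k hd hreg hDc (T := hfin.toFinset)
    (fun y hy => ((Set.Finite.mem_toFinset hfin).1 hy).2) (fun y hy h => (Set.Finite.mem_toFinset hfin).2 ⟨hy, h⟩)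
  set T := hfin.toFinset
  have hT : ∀ y ∈ T, topologicalKrullDim (closure ({y} : Set X)) = (1 : ℕ) :=
    fun y hy => ((Set.Finite.mem_toFinset hfin).1 hy).2
  have hdy := fun y hy => degree_ample_pullback k π hd hA (hT y hy)
    (Groth.L03.BlowPt.inv_curve (k := k) hd hreg (hT y hy))
  have hsum : ∑ y ∈ T, (e y : ℚ) * ii k (ClSub.idealMod (pt y))
      ((Scheme.Modules.pullback π).obj (Twist.twistProjSpace 1 k 1)) = 0 := by
    rw [← Groth.L03.SurfFib.Zariski.ii_prod_pt k hd hT e hO, ← he]
    have h := Gram.ii_inverse k hd.le ((Groth.Agent.L19.IdealInvertible.isEffCartier_iff D).2 hDc) hM hO eD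
    rw [hdeg] at h
    linarith
  let V : Finset X := T.filter fun y => e y ≠ 0
  have hVc : ∀ y ∈ V, IsClosed ({π y} : Set (CohB1.ProjSpace 1 k)) := fun y hy => by
    obtain ⟨hyT, hey⟩ := Finset.mem_filter.1 hy
    refine (hdy y hyT).2 ?_
    have h := (Finset.sum_eq_zero_iff_of_nonpos (fun z hz =>
      mul_nonpos_of_nonneg_of_nonpos (Nat.cast_nonneg _) (hdy z hz).1)).1 hsum y hyT
    exact (mul_eq_zero.1 h).resolve_left (Nat.cast_ne_zero.2 hey)
  let C : Set (CohB1.ProjSpace 1 k) := ⋃ y ∈ V, {π y}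
  have hC : IsClosed C := V.finite_toSet.isClosed_biUnion hVc
  let U : (CohB1.ProjSpace 1 k).Opens := ⟨Cᶜ, hC.isOpen_compl⟩
  have hU : genericPoint (CohB1.ProjSpace 1 k) ∈ U := fun h => by
    obtain ⟨y, hy, hgy⟩ := Set.mem_iUnion₂.1 h
    haveI : Smooth (CohB1.ProjSpace 1 k ↘ Spec (CommRingCat.of k)) :=
      inferInstanceAs (Smooth (CohB1.ProjSpace.toSpec 1 k))
    exact Groth.L03.SurfNum.genericPoint_notMem_point k
      ((Groth.L16.ProjSpace.topologicalKrullDim_eq_of_field 1 k).trans Nat.cast_one) (hVc y hy) hgy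
  have hle : π ⁻¹ᵁ U ≤ CohB1.genLocus M s := by
    intro x hx
    by_contra hxs
    have hxD : x ∈ (D.support : Set X) := by
      rw [Groth.L22.ZeroScheme.support_zeroScheme hM s]; exact hxs
    rw [he, mem_support_prod] at hxD
    obtain ⟨y, hy, hxy⟩ := hxD
    have hey : e y ≠ 0 := fun h => by
      rw [h, pow_zero, Scheme.IdealSheafData.one_eq_top] at hxy
      simp at hxy
    rw [Scheme.IdealSheafData.support_pow (pt y) (e y) hey, Groth.L18.support_vanishingIdeal] at hxy
    have hyV : y ∈ V := Finset.mem_filter.2 ⟨hy, hey⟩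
    refine hx (Set.mem_iUnion₂.2 ⟨y, hyV, ?_⟩)
    exact (hVc y hyV).closure_eq.subset (specializes_iff_mem_closure.1
      ((specializes_iff_mem_closure.2 hxy).map π.continuous))
  haveI : IsIso ((Scheme.Modules.restrictFunctor (π ⁻¹ᵁ U).ι).map s) :=
    (Groth.L18.GenLoc.isIso_restrict_iff_isFrame s _).2 (by
      have h := (Groth.L18.GenLoc.isFrame_genLocus s).mono hle
      rwa [Groth.L18.Frame.rs_rs] at h)
  haveI := Groth.L07.BoxSurj.isIso_restrict_tensorMap s N (π ⁻¹ᵁ U)
  haveI : Mono (tensorMap s (𝟙 N)) := by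
    have hS : (ShortComplex.mk s (cokernel.π s) (cokernel.condition s)).ShortExact :=
      { exact := ShortComplex.exact_cokernel s }
    exact (Groth.L03.Euler.shortExact_tensor hN hS).mono_f
  let θ : CohB1.tensorMod M N ≅ L :=
    tensorAssoc _ _ _ ≪≫ tensorIso (Iso.refl _) (tensorComm _ _ ≪≫ eN) ≪≫ tensorUnitRight L
  let f : N ⟶ L := (tensorUnitLeft N).inv ≫ tensorMap s (𝟙 N) ≫ θ.hom
  haveI : IsIso ((Scheme.Modules.restrictFunctor (π ⁻¹ᵁ U).ι).map f) := by
    simp only [f, Functor.map_comp]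
    infer_instance
  exact h1_of_sub k π hdim hN hL f hU h1 hR1

end Groth.L03.PlaneProj
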