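import Groth.Agent.L03.PlaneProj.Push
import Groth.Agent.L03.PlaneProj.Contain
import Groth.Agent.L03.SurfFib.Zariski

/-!
# Modules of degree zero on the fibres
-/

set_option autoImplicit false
set_option linter.style.haveILetI false
set_option backward.isDefEq.respectTransparency false
set_option linter.unusedSectionVars false

universe u

open CategoryTheory CategoryTheory.Limits AlgebraicGeometry TopologicalSpace
open Groth.L22.Inter Groth.L22.Nef Groth.L22.Big Groth.L03.Euler Groth.L03.SurfNum Groth.L03.BlowPt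
open Groth.L00.Tensor (tensorIso tensorComm tensorUnitLeft tensorUnitRight tensorAssoc)
open Groth.L16.CohLinear (hmap exact_hmap_hmap exact_hmap_delta)

noncomputable section

namespace Groth.L03.PlaneProj

variable (k : Type u) [Field k] [IsAlgClosed k] {X : Scheme.{u}} [X.Over (Spec (CommRingCat.of k))]
  [IsIntegral X] [IsProper (X ↘ (Spec (CommRingCat.of k)))]

/-- Dimensions along a short exact sequence whose kernel has no first cohomology. -/
theorem seq_step {S : ShortComplex X.Modules} (hS : S.ShortExact) (h₂ : Coh.IsCoh S.X₂)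
    (h1 : Subsingleton (Coh.HH X S.X₁ 1)) :
    Module.finrank k (Coh.HH X S.X₂ 0) =
        Module.finrank k (Coh.HH X S.X₁ 0) + Module.finrank k (Coh.HH X S.X₃ 0) ∧
      (Subsingleton (Coh.HH X S.X₃ 1) → Subsingleton (Coh.HH X S.X₂ 1)) := by
  haveI := Groth.L21.RR.isNoetherian_of_proper (X := X) k
  haveI := Groth.L16.ProperFinite.finite_HH k h₂ 0
  refine ⟨?_, fun h3 => ?_⟩
  · let f := Groth.L21.RR.hk k S.f 0
    let g := Groth.L21.RR.hk k S.g 0
    have hadd := Groth.L03.Euler.finrank_eq_add f g (exact_hmap_hmap hS 0)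
    haveI := hS.mono_f
    have hf : Function.Injective f := Groth.L21.RR.injective_hmap_zero S.f
    have hg : Function.Surjective g := fun x => (exact_hmap_delta hS 0 x).1 (h1.elim _ _)
    rw [LinearMap.finrank_range_of_inj hf, LinearMap.range_eq_top.2 hg, finrank_top] at hadd
    exact hadd
  · refine subsingleton_of_forall_eq 0 fun x => ?_
    obtain ⟨c, hc⟩ := (exact_hmap_hmap hS 1 x).1 (h3.elim _ _)
    rw [← hc, h1.elim c 0]
    exact map_zero _

variable [Smooth (X ↘ (Spec (CommRingCat.of k)))]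
  {σ : X ⟶ CohB1.ProjSpace 2 k} {r : ℕ} {P : Fin r → CohB1.ProjSpace 2 k}
  (hP : Function.Injective P) (hPc : ∀ i, IsClosed ({P i} : Set (CohB1.ProjSpace 2 k)))
  {hZ : IsClosed (Set.range P)}
  (hσk : σ ≫ CohB1.ProjSpace.toSpec 2 k = X ↘ (Spec (CommRingCat.of k)))
  (hσ : BlowUp.IsBlowUp σ (Scheme.IdealSheafData.vanishingIdeal ⟨Set.range P, hZ⟩))
  (hdim : topologicalKrullDim X = 2)
  (j : Fin r) (π : X ⟶ CohB1.ProjSpace 1 k) [π.IsOver (Spec (CommRingCat.of k))] [Surjective π]
  (hπ : Nonempty (((Scheme.Modules.pullback π).obj (Twist.twistProjSpace 1 k 1)) ≅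
    CohB1.tensorMod (Hl k σ) (ClSub.idealMod (excI k σ hPc j))))

include hP hσk hσ hdim hπ in
/-- The structure sheaf of a fibre has Euler characteristic one. -/
theorem euler_fibre {q : CohB1.ProjSpace 1 k} (hq : IsClosed ({q} : Set (CohB1.ProjSpace 1 k))) :
    Curv2.euler k X (ClSub.quotMod (π.fiberι q).ker) = 1 := by
  have hd : topologicalKrullDim X = (2 : ℕ) := hdim.trans Nat.cast_ofNat.symm
  have hreg := Groth.L03.SurfAdj.reg_of_smooth k (X := X)
  haveI := Groth.L21.RR.isNoetherian_of_proper (X := X) k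
  haveI : SmoothOfRelativeDimension 2 (X ↘ Spec (CommRingCat.of k)) :=
    Groth.L16.SmoothSection.smoothOfRelativeDimension_dim _ 2 hd
  have hH : PicF.IsInvertible (Hl k σ) :=
    Groth.L18.Ample.isInvertible_pullback σ (Groth.L16.ProjTwist.isInvertible_twistProjSpace 2 k 1)
  obtain ⟨W, hW, -⟩ := Groth.L22.Adjunction.exists_isExtPow
    (Groth.L02.Canon.isFinLocFreeOfRank_omega (f := X ↘ Spec (CommRingCat.of k)) 2)
  obtain ⟨-, hWH⟩ := plane_invariants k hPc hσk hσ hdim hW
  obtain ⟨hWi, -⟩ := Groth.L03.SurfAdj.canonical k hdim hreg hW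
  obtain ⟨hIF, -, -⟩ := fibre_ideal_facts k π hq
  obtain ⟨yj, -, eyj, -, hIj, hχj, hjH, hjj⟩ := exc_facts k hP hPc hσk hσ hdim j
  have hjI : PicF.IsInvertible (ClSub.idealMod (excI k σ hPc j)) := eyj ▸ hIj
  have h := Groth.L03.SurfAdj.adj_num k hdim hreg hW _ hIF
  have hjW := Groth.L03.SurfAdj.adj_num k hdim hreg hW _ hIj
  rw [hχj, hjj] at hjW
  push_cast at hjW
  have a1 := ii_fibre k hP hPc hσk hσ hdim j π hπ hq hIF
  have a2 := ii_fibre k hP hPc hσk hσ hdim j π hπ hq hH
  have a3 := ii_fibre k hP hPc hσk hσ hdim j π hπ hq hjI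
  have a4 := ii_fibre k hP hPc hσk hσ hdim j π hπ hq hWi
  rw [ii_comm k (Hl k σ) (ClSub.idealMod (π.fiberι q).ker),
    ii_comm k (ClSub.idealMod (excI k σ hPc j)) (ClSub.idealMod (π.fiberι q).ker), a2, a3,
    ii_line_line k hPc hσk hσ hdim, ii_comm k (Hl k σ) (ClSub.idealMod (excI k σ hPc j)), eyj, hjH, hjj] at a1
  rw [ii_comm k (Hl k σ), hWH, eyj] at a4
  have h' : ((Curv2.euler k X (ClSub.quotMod (π.fiberι q).ker) : ℤ) : ℚ) = ((1 : ℤ) : ℚ) := by
    push_cast; linarith
  exact_mod_cast h'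

include hP hσk hσ hdim hπ in
/-- Degree zero on every curve of a fibre: one section, no first cohomology. -/
theorem zero_deg_fibre {q : CohB1.ProjSpace 1 k} (hq : IsClosed ({q} : Set (CohB1.ProjSpace 1 k)))
    {L : X.Modules} (hL : PicF.IsInvertible L)
    (h0 : ∀ y : X, topologicalKrullDim (closure ({y} : Set X)) = (1 : ℕ) → π y = q →
      ii k (ClSub.idealMod (pt y)) L = 0) :
    Subsingleton (Coh.HH X (CohB1.tensorMod L (ClSub.quotMod (π.fiberι q).ker)) 1) ∧
      Module.finrank k (Coh.HH X (CohB1.tensorMod L (ClSub.quotMod (π.fiberι q).ker)) 0) = 1 := by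
  classical
  have hd : topologicalKrullDim X = (2 : ℕ) := hdim.trans Nat.cast_ofNat.symm
  have hreg := Groth.L03.SurfAdj.reg_of_smooth k (X := X)
  haveI := Groth.L21.RR.isNoetherian_of_proper (X := X) k
  obtain ⟨hIF, hsupp, -⟩ := fibre_ideal_facts k π hq
  have hFc := (Groth.Agent.L19.IdealInvertible.isEffCartier_iff (π.fiberι q).ker).1 hIF
  obtain ⟨y₀, S, n, hy, -, -, hF, ha⟩ := fibre_numeric k hP hPc hσk hσ hdim j π hπ hq
  choose g hg eg hmg hIg hχg hgH hgg using fun i => exc_facts k hP hPc hσk hσ hdim i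
  have hy0I := Groth.L03.BlowPt.inv_curve (k := k) hd hreg hy.dim
  have hy0c := (Groth.Agent.L19.IdealInvertible.isEffCartier_iff (pt y₀)).1 hy0I
  have hgc : ∀ i, BlowUp.IsEffCartierIdeal (excI k σ hPc i) := fun i => by
    rw [eg i]; exact (Groth.Agent.L19.IdealInvertible.isEffCartier_iff _).1 (hIg i)
  have hmem : ∀ z : X, z ∈ ((π.fiberι q).ker.support : Set X) → π z = q := fun z hz => by
    rw [hsupp] at hz; exact hz
  have hy0L : ii k (ClSub.idealMod (pt y₀)) L = 0 := by
    refine h0 y₀ hy.dim (hmem _ ?_)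
    rw [hF, Scheme.IdealSheafData.support_mul]
    exact Or.inl ((Groth.L18.support_vanishingIdeal _).ge (subset_closure rfl))
  have hgL : ∀ i ∈ S, ii k (ClSub.idealMod (pt (g i))) L = 0 := fun i hi => by
    refine h0 (g i) (hg i) (hmem _ ?_)
    rw [hF, Scheme.IdealSheafData.support_mul]
    refine Or.inr ((mem_support_prod S _ _).2 ⟨i, hi, ?_⟩)
    rw [eg i]
    exact (Groth.L18.support_vanishingIdeal _).ge (subset_closure rfl)
  have hprodc : ∀ T : Finset (Fin r), BlowUp.IsEffCartierIdeal (∏ i ∈ T, excI k σ hPc i) :=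
    fun T => Groth.L03.BlowPt.isEffCartier_prod T fun i _ => hgc i
  have key : ∀ T : Finset (Fin r), T ⊆ S →
      Subsingleton (Coh.HH X (CohB1.tensorMod L (ClSub.quotMod (pt y₀ * ∏ i ∈ T, excI k σ hPc i))) 1) := by
    intro T
    induction T using Finset.induction_on with
    | empty =>
      intro _
      rw [Finset.prod_empty, mul_one]
      refine Groth.L03.SurfFib.FibreH1.subsingleton_h1_curve k hdim hy.dim hL ?_
      have : (degOn k (pt y₀) L : ℚ) = ((0 : ℤ) : ℚ) := by rw [degOn_cast k hy0I hL, hy0L]; simp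
      rw [hy.euler, (show degOn k (pt y₀) L = 0 by exact_mod_cast this)]
      norm_num
    | insert a T haT ih =>
      intro hTS
      obtain ⟨haS, hTS'⟩ := Finset.insert_subset_iff.1 hTS
      have hD : BlowUp.IsEffCartierIdeal (pt y₀ * ∏ i ∈ T, excI k σ hPc i) :=
        Groth.L22.Ideals.isEffCartier_mul hy0c (hprodc T)
      rw [Finset.prod_insert haT, mul_comm (excI k σ hPc a), ← mul_assoc]
      refine Groth.L03.BlowPt.Rational.step k hd hreg hD hL ?_ (ih hTS')
      rw [eg a]
      refine Groth.L03.SurfFib.FibreH1.subsingleton_h1_curve k hdim (hg a)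
        (Groth.L18.GenLoc.isInvertible_tensor hL ((Groth.Agent.L19.IdealInvertible.isEffCartier_iff _).2 hD)) ?_
      have hac := (Groth.Agent.L19.IdealInvertible.isEffCartier_iff (pt (g a))).1 (hIg a)
      have hDa : ii k (ClSub.idealMod (pt y₀ * ∏ i ∈ T, excI k σ hPc i)) (ClSub.idealMod (pt (g a))) = 1 := by
        rw [Groth.L03.SurfAmple.ii_ideal_mul k hd.le hy0c (hprodc T) (hIg a),
          Groth.L03.SurfFib.Zariski.ii_ideal_prod k hd.le T (fun i _ => hgc i) (hIg a), ← eg a, ha a haS,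
          Finset.sum_eq_zero fun i hi => exc_disjoint k hP hPc hσk hσ hdim fun h => haT (by rw [← h]; exact hi)]
        norm_num
      have : (degOn k (pt (g a)) (CohB1.tensorMod L (ClSub.idealMod (pt y₀ * ∏ i ∈ T, excI k σ hPc i))) : ℚ) =
          ((-1 : ℤ) : ℚ) := by
        rw [Groth.L03.BlowPt.Rational.degOn_eq k hd hreg hac hL hD, degOn_cast k (hIg a) hL, hgL a haS, hDa]
        norm_num
      rw [hχg a, (show degOn k (pt (g a)) (CohB1.tensorMod L
        (ClSub.idealMod (pt y₀ * ∏ i ∈ T, excI k σ hPc i))) = -1 by exact_mod_cast this)]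
      norm_num
  have h1 : Subsingleton (Coh.HH X (CohB1.tensorMod L (ClSub.quotMod (π.fiberι q).ker)) 1) := by
    rw [hF]; exact key S subset_rfl
  refine ⟨h1, ?_⟩
  have hFL : ii k (ClSub.idealMod (π.fiberι q).ker) L = 0 := by
    rw [hF, Groth.L03.SurfAmple.ii_ideal_mul k hd.le hy0c (hprodc S) hL,
      Groth.L03.SurfFib.Zariski.ii_ideal_prod k hd.le S (fun i _ => hgc i) hL, hy0L,
      Finset.sum_eq_zero fun i hi => by rw [eg i]; exact hgL i hi]
    norm_num
  have hdeg : degOn k (π.fiberι q).ker L = 0 := by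
    have : (degOn k (π.fiberι q).ker L : ℚ) = ((0 : ℤ) : ℚ) := by rw [degOn_cast k hIF hL, hFL]; simp
    exact_mod_cast this
  have h := Groth.L03.BlowPt.Rational.euler_twist k hd hreg hFc hL
  rw [euler_fibre k hP hPc hσk hσ hdim j π hπ hq, hdeg, Module.finrank_zero_of_subsingleton
    (M := Coh.HH X (CohB1.tensorMod L (ClSub.quotMod (π.fiberι q).ker)) 1)] at h
  push_cast at h
  omega

include hP hσk hσ hdim hπ in
/-- Outside finitely many closed points the fibres are integral, and avoid given curves. -/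
theorem exists_good_fibre (w : X) :
    ∃ (q : CohB1.ProjSpace 1 k) (y₀ : X), IsClosed ({q} : Set (CohB1.ProjSpace 1 k)) ∧
      MainCurve k hPc j (σ := σ) y₀ ∧ (π.fiberι q).ker = pt y₀ ∧ π w ≠ q := by
  classical
  haveI : IsIntegral (CohB1.ProjSpace 1 k) := Groth.L16.ProjSpace.isIntegral 1 k
  haveI : JacobsonSpace (CohB1.ProjSpace 1 k) :=
    LocallyOfFiniteType.jacobsonSpace (CohB1.ProjSpace.toSpec 1 k)
  choose g hg eg hmg hIg hχg hgH hgg using fun i => exc_facts k hP hPc hσk hσ hdim i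
  let B : Set (CohB1.ProjSpace 1 k) :=
    {p | (p = π w ∨ ∃ i, p = π (g i)) ∧ IsClosed ({p} : Set (CohB1.ProjSpace 1 k))}
  have hBfin : B.Finite := ((Set.finite_range fun i => π (g i)).insert (π w)).subset fun p hp => by
    rcases hp.1 with h | ⟨i, h⟩
    · exact Or.inl h
    · exact Or.inr ⟨i, h.symm⟩
  have hBc : IsClosed B := by
    rw [← Set.biUnion_of_singleton B]
    exact hBfin.isClosed_biUnion fun p hp => hp.2
  have hne : (Bᶜ : Set (CohB1.ProjSpace 1 k)).Nonempty := ⟨genericPoint _, fun h => by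
    haveI : Smooth (CohB1.ProjSpace 1 k ↘ Spec (CommRingCat.of k)) :=
      inferInstanceAs (Smooth (CohB1.ProjSpace.toSpec 1 k))
    haveI : IsProper (CohB1.ProjSpace 1 k ↘ Spec (CommRingCat.of k)) := Groth.L16.ProjSpace.isProper_toSpec 1 k
    exact Groth.L03.SurfNum.genericPoint_notMem_point k
      ((Groth.L16.ProjSpace.topologicalKrullDim_eq_of_field 1 k).trans Nat.cast_one) h.2 rfl⟩
  obtain ⟨q, hqB, hq⟩ := nonempty_inter_closedPoints hne hBc.isOpen_compl.isLocallyClosed
  obtain ⟨y₀, S, n, hy, -, -, hF, -⟩ := fibre_numeric k hP hPc hσk hσ hdim j π hπ hq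
  refine ⟨q, y₀, hq, hy, ?_, fun h => hqB ⟨Or.inl h.symm, hq⟩⟩
  rcases S.eq_empty_or_nonempty with rfl | ⟨i, hi⟩
  · rw [hF, Finset.prod_empty, mul_one]
  refine absurd ⟨Or.inr ⟨i, ?_⟩, hq⟩ hqB
  obtain ⟨-, hsupp, -⟩ := fibre_ideal_facts k π hq
  have h : g i ∈ ((π.fiberι q).ker.support : Set X) := by
    rw [hF, Scheme.IdealSheafData.support_mul]
    refine Or.inr ((mem_support_prod S _ _).2 ⟨i, hi, ?_⟩)
    rw [eg i]
    exact (Groth.L18.support_vanishingIdeal _).ge (subset_closure rfl)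
  rw [hsupp] at h
  exact (Set.mem_singleton_iff.1 h).symm

/-- The multiples of the fibre class. -/
abbrev Pn (n : ℕ) : X.Modules := (Scheme.Modules.pullback π).obj (Twist.twistProjSpace 1 k (n : ℤ))

include hP hσk hσ hdim hπ in
/-- Multiples of the fibre class have `n + 1` sections and no first cohomology. -/
theorem pn_cohomology (n : ℕ) : Subsingleton (Coh.HH X (Pn k π n) 1) ∧
    Module.finrank k (Coh.HH X (Pn k π n) 0) = n + 1 := by
  have hd : topologicalKrullDim X = (2 : ℕ) := hdim.trans Nat.cast_ofNat.symm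
  haveI := Groth.L21.RR.isNoetherian_of_proper (X := X) k
  haveI : IsIntegral (CohB1.ProjSpace 1 k) := Groth.L16.ProjSpace.isIntegral 1 k
  haveI : IsProper (CohB1.ProjSpace 1 k ↘ Spec (CommRingCat.of k)) := Groth.L16.ProjSpace.isProper_toSpec 1 k
  haveI : SmoothOfRelativeDimension 2 (X ↘ Spec (CommRingCat.of k)) :=
    Groth.L16.SmoothSection.smoothOfRelativeDimension_dim _ 2 hd
  have hi : ∀ m : ℕ, PicF.IsInvertible (Pn k π m) := fun m =>
    Groth.L18.Ample.isInvertible_pullback π (Groth.L16.ProjTwist.isInvertible_twistProjSpace 1 k _)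
  induction n with
  | zero =>
    obtain ⟨z⟩ := Groth.L22.Reg.nonempty_O_zero 1 k
    let e : Pn k π 0 ≅ Coh.structureModule X :=
      (Scheme.Modules.pullback π).mapIso z ≪≫ Groth.L29.LocFree.pullbackUnitIso π
    obtain ⟨W, hW, -⟩ := Groth.L22.Adjunction.exists_isExtPow
      (Groth.L02.Canon.isFinLocFreeOfRank_omega (f := X ↘ Spec (CommRingCat.of k)) 2)
    obtain ⟨h0, -⟩ := plane_invariants k hPc hσk hσ hdim hW
    haveI := h2_zero k hPc hσk hσ hdim (Groth.L18.Ample.isInvertible_structureModule X)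
      (by rw [show ii k (Coh.structureModule X) _ = 0 from altT_unit k _]; norm_num)
    haveI := Groth.L16.ProperFinite.finite_HH k (X := X) Groth.L16.CohClosedPush.isCoh_structure 1
    have h3 := Groth.L03.SurfAdj.euler_three k hd (Coh.structureModule X)
    have hh := Groth.L22.CurveDeg.h0_structure_eq_one (k := k) (X := X)
    rw [Groth.L21.RR.h] at hh
    rw [h0, hh, Module.finrank_zero_of_subsingleton (M := Coh.HH X (Coh.structureModule X) 2)] at h3
    haveI hs : Subsingleton (Coh.HH X (Coh.structureModule X) 1) := by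
      rw [← Module.finrank_zero_iff (R := k)]; omega
    exact ⟨(Groth.L03.SurfAdj.hhEquiv k e 1).toEquiv.subsingleton,
      by rw [(Groth.L03.SurfAdj.hhEquiv k e 0).finrank_eq, hh]⟩
  | succ n ih =>
    obtain ⟨q, hq, -⟩ := Groth.L21.RR.exists_closed_specialization (genericPoint (CohB1.ProjSpace 1 k))
    obtain ⟨hIF, -, ⟨eF⟩⟩ := fibre_ideal_facts k π hq
    obtain ⟨a⟩ := Groth.L22.Reg.nonempty_O_add (n := 1) (R := k)
      (show ((n : ℤ)) + 1 = ((n + 1 : ℕ) : ℤ) by push_cast; ring)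
    let e1 : CohB1.tensorMod (Pn k π (n + 1)) (ClSub.idealMod (π.fiberι q).ker) ≅ Pn k π n :=
      tensorIso ((Scheme.Modules.pullback π).mapIso a.symm ≪≫ (Groth.L29.DC.PullTensor.pullTensor π _ _).symm)
        (Iso.refl _) ≪≫ tensorAssoc _ _ _ ≪≫ tensorIso (Iso.refl _) (tensorComm _ _ ≪≫ eF) ≪≫ tensorUnitRight _
    obtain ⟨f, g, w, hS⟩ := shortExact_restrict (π.fiberι q).ker (hi (n + 1))
    have hz := zero_deg_fibre k hP hPc hσk hσ hdim j π hπ hq (hi (n + 1)) (fun y hy hyq => by
      refine ii_pullback_contracted k hd π (Groth.L16.ProjTwist.isInvertible_twistProjSpace 1 k _) hy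
        (Groth.L03.BlowPt.inv_curve (k := k) hd (Groth.L03.SurfAdj.reg_of_smooth k (X := X)) hy) q fun v hv => ?_
      have h := (specializes_iff_mem_closure.2 hv).map π.continuous
      rw [hyq] at h
      exact hq.closure_eq.subset (specializes_iff_mem_closure.1 h))
    obtain ⟨s0, s1⟩ := seq_step k hS (Groth.L18.Ample.isCoh_of_isInvertible (hi (n + 1)))
      (by haveI := ih.1; exact (Groth.L03.SurfAdj.hhEquiv k e1 1).toEquiv.subsingleton)
    refine ⟨s1 hz.1, ?_⟩
    rw [s0, (Groth.L03.SurfAdj.hhEquiv k e1 0).finrank_eq, ih.2, hz.2]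

end Groth.L03.PlaneProj
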