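import Groth.Agent.L03.PlaneProj.TwoPoints
import Groth.Agent.L03.BlowPt.Rational
import Groth.Agent.L03.SurfAmple.Hodge
import Mathlib.Algebra.Order.Chebyshev

/-!
# Lines on the anticanonically embedded plane blown up at points
-/

set_option autoImplicit false
set_option linter.style.haveILetI false
set_option backward.isDefEq.respectTransparency false
set_option linter.unusedSectionVars false

universe u

open CategoryTheory CategoryTheory.Limits AlgebraicGeometry TopologicalSpace
open Groth.L22.Inter Groth.L22.Nef Groth.L22.Big Groth.L03.Euler Groth.L03.SurfNum Groth.L03.BlowPt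
open Groth.L00.Tensor (tensorIso tensorComm tensorUnitLeft tensorUnitRight tensorAssoc)

noncomputable section

namespace Groth.L03.PlaneProj

/-- Multiplicities of a curve with one anticanonical degree on at most six points. -/
theorem line_class_cases {r : ℕ} (hr : r ≤ 6) (a : ℤ) (b : Fin r → ℤ) (ha : 0 < a)
    (hb : ∀ l, 0 ≤ b l) (h1 : ∑ l, b l = 3 * a - 1) (h2 : ∑ l, b l ^ 2 = a ^ 2 + 1) :
    (a = 1 ∨ a = 2) ∧ ∀ l, b l = 0 ∨ b l = 1 := by
  have hcs := sq_sum_le_card_mul_sum_sq (s := Finset.univ) (f := b)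
  rw [h1, h2, Finset.card_univ, Fintype.card_fin] at hcs
  have hr' : (r : ℤ) ≤ 6 := by exact_mod_cast hr
  have ha2 : a ≤ 2 := by nlinarith
  refine ⟨by omega, fun l => ?_⟩
  have hsum : ∑ x, (b x ^ 2 - b x) = 0 := by
    rw [Finset.sum_sub_distrib, h1, h2]
    obtain rfl | rfl : a = 1 ∨ a = 2 := by omega
    · norm_num
    · norm_num
  have := (Finset.sum_eq_zero_iff_of_nonneg fun x _ => sub_nonneg.2 (Int.le_self_sq (b x))).1 hsum l
    (Finset.mem_univ l)
  have h : b l * (b l - 1) = 0 := by rw [← this]; ring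
  rcases mul_eq_zero.1 h with h | h
  · exact Or.inl h
  · exact Or.inr (by omega)

variable (k : Type u) [Field k] [IsAlgClosed k] {X : Scheme.{u}} [X.Over (Spec (CommRingCat.of k))]
  [IsIntegral X] [IsProper (X ↘ (Spec (CommRingCat.of k)))] [Smooth (X ↘ (Spec (CommRingCat.of k)))]
  {σ : X ⟶ CohB1.ProjSpace 2 k} {r : ℕ} {P : Fin r → CohB1.ProjSpace 2 k}
  (hP : Function.Injective P) (hPc : ∀ i, IsClosed ({P i} : Set (CohB1.ProjSpace 2 k)))
  {hZ : IsClosed (Set.range P)}
  (hσk : σ ≫ CohB1.ProjSpace.toSpec 2 k = X ↘ (Spec (CommRingCat.of k)))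
  (hσ : BlowUp.IsBlowUp σ (Scheme.IdealSheafData.vanishingIdeal ⟨Set.range P, hZ⟩))
  (hdim : topologicalKrullDim X = 2)
  {W : X.Modules} (hW : ExtPow.IsExtPow 2 (Omega.sheaf (X ↘ (Spec (CommRingCat.of k)))) W)
  {D : X.Modules} (eD : CohB1.tensorMod D W ≅ Coh.structureModule X) (hA : CohB1.IsAmple D)

include hP hPc hσk hσ hdim hW

/-- The canonical class. -/
theorem canonical_num :
    PicF.IsInvertible W ∧ ii k (Hl k σ) W = -3 ∧ (∀ l, ii k (ClSub.idealMod (excI k σ hPc l)) W = 1) ∧
      ∀ A : X.Modules, PicF.IsInvertible A →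
        ii k A W = -3 * ii k A (Hl k σ) - ∑ l, ii k A (ClSub.idealMod (excI k σ hPc l)) := by
  have hd : topologicalKrullDim X = (2 : ℕ) := hdim.trans Nat.cast_ofNat.symm
  have hreg := Groth.L03.SurfAdj.reg_of_smooth k (X := X)
  haveI := Groth.L21.RR.isNoetherian_of_proper (X := X) k
  obtain ⟨hχ, hWH⟩ := plane_invariants k hPc hσk hσ hdim hW
  obtain ⟨hWi, -⟩ := Groth.L03.SurfAdj.canonical k hdim hreg hW
  have hIW : ∀ l, ii k (ClSub.idealMod (excI k σ hPc l)) W = 1 := fun l => by
    obtain ⟨y, -, ey, -, hI, hχl, -, hyy⟩ := exc_facts k hP hPc hσk hσ hdim l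
    have h := Groth.L03.SurfAdj.adj_num k hdim hreg hW _ hI
    rw [hχl, hyy] at h
    push_cast at h
    rw [ey]
    linarith
  have hHW : ii k (Hl k σ) W = -3 := (ii_comm k _ _).trans hWH
  refine ⟨hWi, hHW, hIW, fun A hA => ?_⟩
  rw [ii_span k hP hPc hσk hσ hdim hA hWi, hHW, Finset.sum_congr rfl fun l _ => by rw [hIW l, mul_one]]
  ring

include eD hA

/-- The anticanonical module, numerically. -/
theorem anticanonical_num (A : X.Modules) (hAi : PicF.IsInvertible A) : ii k D A = -ii k W A := by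
  have hd : topologicalKrullDim X = (2 : ℕ) := hdim.trans Nat.cast_ofNat.symm
  obtain ⟨hWi, -⟩ := canonical_num k hP hPc hσk hσ hdim hW
  exact Gram.ii_inverse k hd.le hWi hA.1 hAi (tensorComm _ _ ≪≫ eD)

/-- Anticanonical degrees of curves are positive. -/
theorem one_le_degree {y : X} (hy : topologicalKrullDim (closure ({y} : Set X)) = (1 : ℕ)) :
    1 ≤ ii k (ClSub.idealMod (pt y)) W := by
  have hd : topologicalKrullDim X = (2 : ℕ) := hdim.trans Nat.cast_ofNat.symm
  have hreg := Groth.L03.SurfAdj.reg_of_smooth k (X := X)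
  have hyI := Groth.L03.BlowPt.inv_curve (k := k) hd hreg hy
  obtain ⟨h2, h3⟩ := degree_ample_pullback k (𝟙 X) hd hA hy hyI
  rw [ii_comm, ii_congr k ((Scheme.Modules.pullbackId X).app D), ii_comm] at h2 h3
  simp only [Functor.id_obj] at h2 h3
  have hlt : ii k (ClSub.idealMod (pt y)) D < 0 := by
    refine lt_of_le_of_ne h2 fun h => ?_
    have hc := h3 h
    rw [show (𝟙 X : X ⟶ X) y = y from rfl] at hc
    rw [hc.closure_eq] at hy
    have h4 := topologicalKrullDim_zero_of_discreteTopology ({y} : Set X)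
    rw [hy] at h4
    norm_num at h4
  rw [ii_comm, anticanonical_num k hP hPc hσk hσ hdim hW eD hA _ hyI, ii_comm] at hlt
  exact Groth.L03.BlowPt.Rational.one_le_ii_of_pos k hd (Groth.L03.SurfAdj.reg_of_smooth k) (neg_lt_zero.1 hlt)

variable (hr : r ≤ 6)
include hr

/-- A curve of anticanonical degree one which is not exceptional: its class. -/
theorem line_class {y : X} (hy : topologicalKrullDim (closure ({y} : Set X)) = (1 : ℕ))
    (h1 : ii k (ClSub.idealMod (pt y)) W = 1) :
    ii k (ClSub.idealMod (pt y)) (ClSub.idealMod (pt y)) = -1 ∧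
      ((∃ l, excI k σ hPc l = pt y) ∨
        ∃ (a : ℕ) (s : Finset (Fin r)), (a = 1 ∧ s.card = 2 ∨ a = 2 ∧ s.card = 5) ∧
          ii k (ClSub.idealMod (pt y)) (Hl k σ) = -(a : ℚ) ∧
          ∀ l, ii k (ClSub.idealMod (pt y)) (ClSub.idealMod (excI k σ hPc l)) = if l ∈ s then 1 else 0) := by
  classical
  have hd : topologicalKrullDim X = (2 : ℕ) := hdim.trans Nat.cast_ofNat.symm
  have hreg := Groth.L03.SurfAdj.reg_of_smooth k (X := X)
  haveI := Groth.L21.RR.isNoetherian_of_proper (X := X) k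
  obtain ⟨hWi, hHW, hIW, hspanW⟩ := canonical_num k hP hPc hσk hσ hdim hW
  have hyI := Groth.L03.BlowPt.inv_curve (k := k) hd hreg hy
  have hD := fun (A : X.Modules) (hAi : PicF.IsInvertible A) => anticanonical_num k hP hPc hσk hσ hdim hW eD hA A hAi
  have hH : PicF.IsInvertible (Hl k σ) :=
    Groth.L18.Ample.isInvertible_pullback σ (Groth.L16.ProjTwist.isInvertible_twistProjSpace 2 k 1)
  have hexcI := inv_exc k hP hPc hσk hσ hdim
  -- the self-intersection
  have hDD : ii k D D = 9 - (r : ℚ) := by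
    rw [hD D hA.1, ii_comm, hD W hWi, neg_neg, hspanW W hWi, ii_comm k W (Hl k σ), hHW,
      Finset.sum_congr rfl fun l _ => by rw [ii_comm k W, hIW l]]
    simp
    norm_num
  have hyD : ii k (ClSub.idealMod (pt y)) D = -1 := by
    rw [ii_comm, hD _ hyI, ii_comm, h1]
  have hr6 : (r : ℚ) ≤ 6 := by exact_mod_cast hr
  have hself : ii k (ClSub.idealMod (pt y)) (ClSub.idealMod (pt y)) = -1 := by
    have hadj := Groth.L03.SurfAdj.adj_num k hdim hreg hW _ hyI
    rw [h1] at hadj
    have hχ := Groth.L03.BlowPt.Rational.euler_pt_le_one k hd hreg hy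
    have hh := Groth.L03.SurfAmple.hodge_comb k hd.le hyI hA.1 hA ((9 : ℤ) - r) 1 (by
      rw [hyD, hDD]; push_cast; ring)
    push_cast at hh
    rw [hyD, hDD] at hh
    have hle : ii k (ClSub.idealMod (pt y)) (ClSub.idealMod (pt y)) ≤ 1 / 3 := by
      set x := ii k (ClSub.idealMod (pt y)) (ClSub.idealMod (pt y))
      have hq : ((9 : ℚ) - r) * (((9 : ℚ) - r) * x - 1) ≤ 0 := by linear_combination hh
      have hq1 : ((9 : ℚ) - r) * x - 1 ≤ 0 := nonpos_of_mul_nonpos_right hq (by linarith) |> id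
      by_contra hx
      nlinarith
    have h' : (0 : ℚ) < Curv2.euler k X (ClSub.quotMod (pt y)) := by linarith
    have h'' : (0 : ℤ) < Curv2.euler k X (ClSub.quotMod (pt y)) := by exact_mod_cast h'
    rw [show Curv2.euler k X (ClSub.quotMod (pt y)) = 1 by omega] at hadj
    push_cast at hadj
    linarith
  refine ⟨hself, or_iff_not_imp_left.2 fun hne => ?_⟩
  obtain ⟨hle, hzero⟩ := degree_line k hP hPc hσk hσ hdim hy
  have hlt : ii k (ClSub.idealMod (pt y)) (Hl k σ) < 0 := lt_of_le_of_ne hle fun h => hne (hzero h)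
  set a := -FGA.intNum k X 2 ![ClSub.idealMod (pt y), Hl k σ] (Coh.structureModule X) with hadef
  set b := fun l => FGA.intNum k X 2 ![ClSub.idealMod (pt y), ClSub.idealMod (excI k σ hPc l)] (Coh.structureModule X)
    with hbdef
  have ha' : (a : ℚ) = -ii k (ClSub.idealMod (pt y)) (Hl k σ) := by
    rw [hadef, Int.cast_neg, intNum_eq_ii k hd.le]
  have hb' : ∀ l, (b l : ℚ) = ii k (ClSub.idealMod (pt y)) (ClSub.idealMod (excI k σ hPc l)) := fun l =>
    intNum_eq_ii k hd.le _ _
  have hbnn : ∀ l, 0 ≤ b l := fun l => by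
    obtain ⟨z, hz, ez, -, hzI, -⟩ := exc_facts k hP hPc hσk hσ hdim l
    haveI := isIntegral_pt y
    haveI := isIntegral_pt z
    have h : (0 : ℚ) ≤ (b l : ℚ) := by
      rw [hb', ez]
      refine Gram.curve_pair_nonneg k hd.le (pt y) (pt z) ?_ ?_ hyI hzI fun h => hne ⟨l, ez.trans h.symm⟩
      · rw [Groth.L18.support_vanishingIdeal]; exact hy.trans Nat.cast_one
      · rw [Groth.L18.support_vanishingIdeal]; exact hz.trans Nat.cast_one
    exact_mod_cast h
  have hapos : 0 < a := by
    have h : (0 : ℚ) < (a : ℚ) := by rw [ha']; linarith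
    exact_mod_cast h
  have e1 : ∑ l, b l = 3 * a - 1 := by
    have h : ((∑ l, b l : ℤ) : ℚ) = ((3 * a - 1 : ℤ) : ℚ) := by
      push_cast
      rw [ha', Finset.sum_congr rfl fun l _ => hb' l]
      have := hspanW _ hyI
      rw [h1] at this
      linarith
    exact_mod_cast h
  have e2 : ∑ l, b l ^ 2 = a ^ 2 + 1 := by
    have h : ((∑ l, b l ^ 2 : ℤ) : ℚ) = ((a ^ 2 + 1 : ℤ) : ℚ) := by
      push_cast
      rw [ha', Finset.sum_congr rfl fun l _ => by rw [hb' l, pow_two]]
      have := ii_span k hP hPc hσk hσ hdim hyI hyI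
      rw [hself, ii_comm k (Hl k σ), Finset.sum_congr rfl fun l _ => by
        rw [ii_comm k (ClSub.idealMod (excI k σ hPc l)) (ClSub.idealMod (pt y))]] at this
      linarith
    exact_mod_cast h
  obtain ⟨hA12, hB⟩ := line_class_cases hr a b hapos hbnn e1 e2
  let s : Finset (Fin r) := Finset.univ.filter fun l => b l = 1
  have hbs : ∀ l, b l = if l ∈ s then 1 else 0 := fun l => by
    rcases hB l with h | h <;> simp [s, h]
  have hcard : (s.card : ℤ) = ∑ l, b l := by
    rw [Finset.sum_congr rfl fun l _ => hbs l, Finset.sum_boole]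
    simp
  refine ⟨a.toNat, s, ?_, ?_, fun l => ?_⟩
  · omega
  · have : ((a.toNat : ℤ) : ℚ) = (a : ℚ) := by rw [Int.toNat_of_nonneg hapos.le]
    push_cast at this
    rw [this, ha', neg_neg]
  · rw [← hb' l, hbs l]
    split_ifs <;> norm_num

omit hr in
/-- A curve in the class of degree `a` through a set of the points. -/
theorem exists_line {a : ℕ} {s : Finset (Fin r)} (has : a = 1 ∧ s.card = 2 ∨ a = 2 ∧ s.card = 5) :
    ∃ y : X, topologicalKrullDim (closure ({y} : Set X)) = (1 : ℕ) ∧ ii k (ClSub.idealMod (pt y)) W = 1 ∧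
      ii k (ClSub.idealMod (pt y)) (Hl k σ) = -(a : ℚ) ∧
      ∀ l, ii k (ClSub.idealMod (pt y)) (ClSub.idealMod (excI k σ hPc l)) = if l ∈ s then 1 else 0 := by
  classical
  have hd : topologicalKrullDim X = (2 : ℕ) := hdim.trans Nat.cast_ofNat.symm
  have hreg := Groth.L03.SurfAdj.reg_of_smooth k (X := X)
  haveI := Groth.L21.RR.isNoetherian_of_proper (X := X) k
  obtain ⟨hWi, hHW, hIW, hspanW⟩ := canonical_num k hP hPc hσk hσ hdim hW
  have hH : PicF.IsInvertible (Hl k σ) :=
    Groth.L18.Ample.isInvertible_pullback σ (Groth.L16.ProjTwist.isInvertible_twistProjSpace 2 k 1)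
  have hexcI := inv_exc k hP hPc hσk hσ hdim
  have hprod : ∀ t : Finset (Fin r), BlowUp.IsEffCartierIdeal (∏ l ∈ t, excI k σ hPc l) ∧
      ∀ A : X.Modules, PicF.IsInvertible A →
        ii k (ClSub.idealMod (∏ l ∈ t, excI k σ hPc l)) A = ∑ l ∈ t, ii k (ClSub.idealMod (excI k σ hPc l)) A := by
    intro t
    induction t using Finset.induction_on with
    | empty =>
      refine ⟨by rw [Finset.prod_empty]; exact Groth.L22.Ideals.isEffCartier_top, fun A hA => ?_⟩
      obtain ⟨e⟩ := Groth.L03.BlowPt.nonempty_idealMod_one (X := X)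
      rw [Finset.prod_empty, Finset.sum_empty, ii_congr k e A]
      exact altT_unit k _
    | insert w t hw ih =>
      have hp := (Groth.Agent.L19.IdealInvertible.isEffCartier_iff _).1 (hexcI w)
      rw [Finset.prod_insert hw]
      refine ⟨Groth.L22.Ideals.isEffCartier_mul hp ih.1, fun A hA => ?_⟩
      rw [Groth.L03.SurfAmple.ii_ideal_mul k hd.le hp ih.1 hA, ih.2 A hA, Finset.sum_insert hw]
  obtain ⟨hJ, hJii⟩ := hprod s
  have hJi := (Groth.Agent.L19.IdealInvertible.isEffCartier_iff _).2 hJ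
  set N := CohB1.tensorMod ((Scheme.Modules.pullback σ).obj (Twist.twistProjSpace 2 k (a : ℤ)))
    (ClSub.idealMod (∏ l ∈ s, excI k σ hPc l)) with hNdef
  have hPi := Groth.L18.Ample.isInvertible_pullback σ (Groth.L16.ProjTwist.isInvertible_twistProjSpace 2 k (a : ℤ))
  have hN : PicF.IsInvertible N := Groth.L18.GenLoc.isInvertible_tensor hPi hJi
  have hNA : ∀ A : X.Modules, PicF.IsInvertible A →
      ii k N A = (a : ℚ) * ii k (Hl k σ) A + ∑ l ∈ s, ii k (ClSub.idealMod (excI k σ hPc l)) A := fun A hA => by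
    rw [hNdef, ii_tensor k hd.le hPi hJi hA, ii_pull_twist k hσk hdim hA, hJii A hA]
    push_cast
    ring
  have hNH : ii k N (Hl k σ) = (a : ℚ) := by
    rw [hNA _ hH, ii_line_line k hPc hσk hσ hdim, Finset.sum_eq_zero fun l _ => by
      obtain ⟨z, -, ez, -, -, -, hzH, -⟩ := exc_facts k hP hPc hσk hσ hdim l
      rw [ez]; exact hzH]
    ring
  have hNI : ∀ l, ii k N (ClSub.idealMod (excI k σ hPc l)) = -(if l ∈ s then 1 else 0 : ℚ) := fun l => by
    obtain ⟨z, -, ez, -, -, -, hzH, hzz⟩ := exc_facts k hP hPc hσk hσ hdim l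
    rw [hNA _ (hexcI l), ii_comm k (Hl k σ), show ii k (ClSub.idealMod (excI k σ hPc l)) (Hl k σ) = 0 by rw [ez]; exact hzH,
      mul_zero, zero_add]
    split_ifs with h
    · rw [Finset.sum_eq_single_of_mem l h fun x _ hx => exc_disjoint k hP hPc hσk hσ hdim hx, ez, hzz]
    · rw [neg_zero]
      exact Finset.sum_eq_zero fun x hx => exc_disjoint k hP hPc hσk hσ hdim fun (hxl : x = l) => h (hxl ▸ hx)
  have hχ := euler_eq k hP hPc hσk hσ hdim hN hNH (c := fun l => if l ∈ s then 1 else 0) hNI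
  have hsum : ∑ l, ((if l ∈ s then (1 : ℚ) else 0) ^ 2 + if l ∈ s then (1 : ℚ) else 0) = 2 * (s.card : ℚ) := by
    rw [← Finset.sum_subset (Finset.subset_univ s) fun x _ hx => by simp [hx],
      Finset.sum_congr rfl fun x hx => by rw [if_pos hx, one_pow, show (1 : ℚ) + 1 = 2 by norm_num],
      Finset.sum_const, nsmul_eq_mul]
    ring
  rw [hsum] at hχ
  have ha0 : (0 : ℚ) ≤ a := Nat.cast_nonneg a
  haveI h2 := h2_zero k hPc hσk hσ hdim hN (by rw [hNH]; linarith)
  have h3 := Groth.L03.SurfAdj.euler_three k hd N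
  rw [Module.finrank_zero_of_subsingleton (M := Coh.HH X N 2)] at h3
  have hχ1 : (Curv2.euler k X N : ℚ) = 1 := by
    rcases has with ⟨rfl, hs⟩ | ⟨rfl, hs⟩ <;> · rw [hs] at hχ; push_cast at hχ; linarith
  have hχ1' : Curv2.euler k X N = 1 := by exact_mod_cast hχ1
  haveI : Nontrivial (Coh.HH X N 0) := by
    refine not_subsingleton_iff_nontrivial.1 fun hs => ?_
    rw [Module.finrank_zero_of_subsingleton (M := Coh.HH X N 0)] at h3
    omega
  obtain ⟨φ, hφ⟩ := Groth.L21.RR.exists_hom_ne_zero (L := N)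
  obtain ⟨T, hT1, hT⟩ := ii_eq_sum_len k hd.le hN φ (Groth.L22.CurveAmple.genericPoint_mem_genLocus hN hφ)
  let n : X → ℕ := fun y => (Groth.L16.CohSupport.len y (cokernel φ)).toNat
  have hTB : ∀ B : X.Modules, PicF.IsInvertible B →
      ii k N B = ∑ y ∈ T, -((n y : ℚ) * ii k (ClSub.idealMod (pt y)) B) := fun B hB => by
    rw [hT T subset_rfl hT1 B hB]
    refine Finset.sum_congr rfl fun y hy => ?_
    rw [altT_quotMod_eq k hB (pt y) (Groth.L03.BlowPt.inv_curve (k := k) hd hreg (hT1 y hy)), mul_neg]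
  have hNW : ii k N W = -1 := by
    rw [hspanW N hN, hNH, Finset.sum_congr rfl fun l _ => hNI l, Finset.sum_neg_distrib, Finset.sum_boole]
    rcases has with ⟨rfl, hs⟩ | ⟨rfl, hs⟩ <;> · simp [hs]; norm_num
  have htot : ∑ y ∈ T, (n y : ℚ) * ii k (ClSub.idealMod (pt y)) W = 1 := by
    have := hTB W hWi
    rw [hNW, Finset.sum_neg_distrib] at this
    linarith
  have hn : ∑ y ∈ T, n y ≤ 1 := by
    have : ((∑ y ∈ T, n y : ℕ) : ℚ) ≤ 1 := by
      rw [← htot]
      push_cast
      exact Finset.sum_le_sum fun y hy =>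
        le_mul_of_one_le_right (Nat.cast_nonneg _) (one_le_degree k hP hPc hσk hσ hdim hW eD hA (hT1 y hy))
    exact_mod_cast this
  obtain ⟨y, hy, hny⟩ : ∃ y ∈ T, n y ≠ 0 := by
    by_contra h
    push Not at h
    rw [Finset.sum_eq_zero fun y hy => by rw [h y hy, Nat.cast_zero, zero_mul]] at htot
    norm_num at htot
  have hsplit := Finset.add_sum_erase T n hy
  have hrest : ∀ x ∈ T, x ≠ y → n x = 0 := fun x hx hxy =>
    Finset.sum_eq_zero_iff.1 (show ∑ x ∈ T.erase y, n x = 0 by omega) x (Finset.mem_erase.2 ⟨hxy, hx⟩)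
  have hy1 : n y = 1 := by omega
  have hclass : ∀ B : X.Modules, PicF.IsInvertible B → ii k (ClSub.idealMod (pt y)) B = -ii k N B := fun B hB => by
    rw [hTB B hB, Finset.sum_eq_single_of_mem y hy fun x hx hxy => by rw [hrest x hx hxy]; simp, hy1]
    simp
  refine ⟨y, hT1 y hy, ?_, ?_, fun l => ?_⟩
  · rw [hclass W hWi, hNW, neg_neg]
  · rw [hclass _ hH, hNH]
  · rw [hclass _ (hexcI l), hNI l, neg_neg]

/-- The lines are counted by the exceptional curves, the pairs and the fives. -/
theorem ncard_lines :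
    {C : X.IdealSheafData | IsIntegral C.subscheme ∧ topologicalKrullDim (C.support : Set X) = 1 ∧
        FGA.intNum k X 2 ![ClSub.idealMod C, W] (Coh.structureModule X) = 1}.Finite ∧
      {C : X.IdealSheafData | IsIntegral C.subscheme ∧ topologicalKrullDim (C.support : Set X) = 1 ∧
        FGA.intNum k X 2 ![ClSub.idealMod C, W] (Coh.structureModule X) = 1}.ncard = r + r.choose 2 + r.choose 5 := by
  classical
  have hd : topologicalKrullDim X = (2 : ℕ) := hdim.trans Nat.cast_ofNat.symm
  have hreg := Groth.L03.SurfAdj.reg_of_smooth k (X := X)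
  haveI := Groth.L21.RR.isNoetherian_of_proper (X := X) k
  obtain ⟨hWi, hHW, hIW, hspanW⟩ := canonical_num k hP hPc hσk hσ hdim hW
  have hexcI := inv_exc k hP hPc hσk hσ hdim
  let T := Fin r ⊕ {s : Finset (Fin r) // s.card = 2 ∨ s.card = 5}
  let deg : Finset (Fin r) → ℕ := fun s => if s.card = 2 then 1 else 2
  have hdeg : ∀ s : {s : Finset (Fin r) // s.card = 2 ∨ s.card = 5},
      deg s.1 = 1 ∧ s.1.card = 2 ∨ deg s.1 = 2 ∧ s.1.card = 5 := fun s => by
    rcases s.2 with h | h <;> simp [deg, h]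
  choose ys hys1 hysW hysH hysI using fun s : {s : Finset (Fin r) // s.card = 2 ∨ s.card = 5} =>
    exists_line k hP hPc hσk hσ hdim hW eD hA (hdeg s)
  let f : T → X.IdealSheafData := Sum.elim (fun l => excI k σ hPc l) (fun s => pt (ys s))
  have hne : ∀ l s, excI k σ hPc l ≠ pt (ys s) := fun l s h => by
    obtain ⟨z, -, ez, -, -, -, hzH, -⟩ := exc_facts k hP hPc hσk hσ hdim l
    have h' := hysH s
    rw [← h, ez, hzH] at h'
    rcases hdeg s with ⟨e, -⟩ | ⟨e, -⟩ <;> rw [e] at h' <;> norm_num at h'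
  have hinj : Function.Injective f := by
    rintro (l | s) (l' | s') h
    · refine congrArg Sum.inl ?_
      by_contra hll
      obtain ⟨z, -, ez, -, -, -, -, hzz⟩ := exc_facts k hP hPc hσk hσ hdim l
      have h0 := exc_disjoint k hP hPc hσk hσ hdim hll
      rw [← show excI k σ hPc l = excI k σ hPc l' from h, ez, hzz] at h0
      norm_num at h0
    · exact absurd h (hne l s')
    · exact absurd h.symm (hne l' s)
    · refine congrArg Sum.inr (Subtype.ext (Finset.ext fun l => ?_))
      have h1 := hysI s l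
      rw [show pt (ys s) = pt (ys s') from h, hysI s' l] at h1
      split_ifs at h1 with a b b <;> simp_all
  have hrange : {C : X.IdealSheafData | IsIntegral C.subscheme ∧ topologicalKrullDim (C.support : Set X) = 1 ∧
      FGA.intNum k X 2 ![ClSub.idealMod C, W] (Coh.structureModule X) = 1} = Set.range f := by
    ext C
    constructor
    · rintro ⟨hC, hC1, hCW⟩
      haveI := hC
      set y := C.subschemeι (genericPoint C.subscheme)
      have ey : C = pt y := eq_pt C
      have hy : topologicalKrullDim (closure ({y} : Set X)) = (1 : ℕ) := by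
        rw [← dim_support C, hC1, Nat.cast_one]
      have h1 : ii k (ClSub.idealMod (pt y)) W = 1 := by
        rw [← ey, ← intNum_eq_ii k hd.le, hCW]; norm_num
      obtain ⟨hself, hcase⟩ := line_class k hP hPc hσk hσ hdim hW eD hA hr hy h1
      rcases hcase with ⟨l, hl⟩ | ⟨a, s, has, hsH, hsI⟩
      · exact ⟨Sum.inl l, hl.trans ey.symm⟩
      · let s' : {s : Finset (Fin r) // s.card = 2 ∨ s.card = 5} :=
          ⟨s, by rcases has with ⟨-, h⟩ | ⟨-, h⟩ <;> simp [h]⟩
        refine ⟨Sum.inr s', ?_⟩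
        by_contra hCne
        have hz := hys1 s'
        have hzI := Groth.L03.BlowPt.inv_curve (k := k) hd hreg hz
        have hyI := Groth.L03.BlowPt.inv_curve (k := k) hd hreg hy
        haveI := isIntegral_pt y
        haveI := isIntegral_pt (ys s')
        have h0 : 0 ≤ ii k (ClSub.idealMod (pt y)) (ClSub.idealMod (pt (ys s'))) := by
          refine Gram.curve_pair_nonneg k hd.le (pt y) (pt (ys s')) ?_ ?_ hyI hzI fun h => hCne (h.symm.trans ey.symm)
          · rw [Groth.L18.support_vanishingIdeal]; exact hy.trans Nat.cast_one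
          · rw [Groth.L18.support_vanishingIdeal]; exact hz.trans Nat.cast_one
        have hdega : (deg s : ℚ) = (a : ℚ) := by
          rcases has with ⟨rfl, h⟩ | ⟨rfl, h⟩ <;> simp [deg, h]
        have h2 : ii k (ClSub.idealMod (pt y)) (ClSub.idealMod (pt (ys s'))) =
            ii k (ClSub.idealMod (pt y)) (ClSub.idealMod (pt y)) := by
          rw [ii_span k hP hPc hσk hσ hdim hyI hzI, ii_span k hP hPc hσk hσ hdim hyI hyI, ii_comm k (Hl k σ),
            ii_comm k (Hl k σ), hysH s', hsH, hdega]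
          congr 1
          refine Finset.sum_congr rfl fun l _ => ?_
          rw [ii_comm k (ClSub.idealMod (excI k σ hPc l)), ii_comm k (ClSub.idealMod (excI k σ hPc l)), hysI s' l,
            hsI l]
        rw [h2, hself] at h0
        norm_num at h0
    · rintro ⟨(l | s), rfl⟩
      · obtain ⟨z, hz, ez, -⟩ := exc_facts k hP hPc hσk hσ hdim l
        refine ⟨?_, ?_, ?_⟩
        · show IsIntegral (excI k σ hPc l).subscheme
          rw [ez]; exact isIntegral_pt z
        · show topologicalKrullDim ((excI k σ hPc l).support : Set X) = 1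
          rw [ez, Groth.L18.support_vanishingIdeal]; exact hz.trans Nat.cast_one
        · have h : ((FGA.intNum k X 2 ![ClSub.idealMod (excI k σ hPc l), W] (Coh.structureModule X) : ℤ) : ℚ) =
              ((1 : ℤ) : ℚ) := by rw [intNum_eq_ii k hd.le, hIW l]; norm_num
          exact Int.cast_injective h
      · refine ⟨isIntegral_pt (ys s), ?_, ?_⟩
        · show topologicalKrullDim ((pt (ys s)).support : Set X) = 1
          rw [Groth.L18.support_vanishingIdeal]; exact (hys1 s).trans Nat.cast_one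
        · have h : ((FGA.intNum k X 2 ![ClSub.idealMod (pt (ys s)), W] (Coh.structureModule X) : ℤ) : ℚ) =
              ((1 : ℤ) : ℚ) := by rw [intNum_eq_ii k hd.le, hysW s]; norm_num
          exact Int.cast_injective h
  rw [hrange]
  refine ⟨Set.finite_range f, ?_⟩
  rw [Set.ncard_range_of_injective hinj, Nat.card_eq_fintype_card, Fintype.card_sum, Fintype.card_fin,
    Fintype.card_subtype_or_disjoint _ _ (Pi.disjoint_iff.2 fun s => Prop.disjoint_iff.2 (by omega)),
    Fintype.card_finset_len, Fintype.card_finset_len, Fintype.card_fin]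
  omega

end Groth.L03.PlaneProj
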