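import Groth.Agent.L03.BlowPt.Multi
import Groth.Agent.L03.BlowPt.Rules
import Groth.Agent.L03.BlowPt.PlaneBlow
import Groth.Agent.L03.BlowAcyc.Points
import Groth.Agent.L22.PDual.EnriquesSeveri
import Groth.Agent.L16.ProjSpace.AmpleIff
import Groth.Agent.L03.SurfAmple.Config
import Groth.Agent.L03.SurfAdj.Tools

/-!
# The exceptional curves of a blow-up of the plane at several points
-/

set_option autoImplicit false
set_option linter.style.haveILetI false
set_option backward.isDefEq.respectTransparency false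
set_option linter.unusedSectionVars false

universe u

open CategoryTheory CategoryTheory.Limits AlgebraicGeometry TopologicalSpace
open Groth.L22.Inter Groth.L22.Nef Groth.L22.Big Groth.L03.Euler Groth.L03.SurfNum Groth.L03.BlowPt

noncomputable section

namespace Groth.L03.PlaneProj

variable (k : Type u) [Field k] [IsAlgClosed k] {X : Scheme.{u}} [X.Over (Spec (CommRingCat.of k))]
  [IsIntegral X] [IsProper (X ↘ (Spec (CommRingCat.of k)))] [Smooth (X ↘ (Spec (CommRingCat.of k)))]
  {σ : X ⟶ CohB1.ProjSpace 2 k} {r : ℕ} {P : Fin r → CohB1.ProjSpace 2 k}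
  (hP : Function.Injective P) (hPc : ∀ i, IsClosed ({P i} : Set (CohB1.ProjSpace 2 k)))
  {hZ : IsClosed (Set.range P)}
  (hσk : σ ≫ CohB1.ProjSpace.toSpec 2 k = X ↘ (Spec (CommRingCat.of k)))
  (hσ : BlowUp.IsBlowUp σ (Scheme.IdealSheafData.vanishingIdeal ⟨Set.range P, hZ⟩))
  (hdim : topologicalKrullDim X = 2)

variable (σ) in
/-- The pullback of a line. -/
abbrev Hl : X.Modules := (Scheme.Modules.pullback σ).obj (Twist.twistProjSpace 2 k 1)

variable (σ) in
/-- The ideal of the exceptional curve over one point. -/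
abbrev excI (i : Fin r) : X.IdealSheafData :=
  (Scheme.IdealSheafData.vanishingIdeal (⟨{P i}, hPc i⟩ : Closeds (CohB1.ProjSpace 2 k))).comap σ

include hP hσk hσ hdim in
/-- The basic numbers of an exceptional curve. -/
theorem exc_facts (i : Fin r) :
    ∃ y : X, topologicalKrullDim (closure ({y} : Set X)) = (1 : ℕ) ∧ excI k σ hPc i = pt y ∧
      (∀ w : X, w ∈ closure ({y} : Set X) ↔ σ w = P i) ∧
      PicF.IsInvertible (ClSub.idealMod (pt y)) ∧
      Curv2.euler k X (ClSub.quotMod (pt y)) = 1 ∧
      ii k (ClSub.idealMod (pt y)) (Hl k σ) = 0 ∧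
      ii k (ClSub.idealMod (pt y)) (ClSub.idealMod (pt y)) = -1 := by
  letI : (CohB1.ProjSpace 2 k).Over (Spec (CommRingCat.of k)) := ⟨CohB1.ProjSpace.toSpec 2 k⟩
  haveI : IsProper (CohB1.ProjSpace 2 k ↘ Spec (CommRingCat.of k)) := Groth.L16.ProjSpace.isProper_toSpec 2 k
  haveI := Groth.L21.RR.isNoetherian_of_proper (X := X) k
  haveI := Groth.L21.RR.isNoetherian_of_proper (X := CohB1.ProjSpace 2 k) k
  have hd : topologicalKrullDim X = (2 : ℕ) := hdim.trans Nat.cast_ofNat.symm
  obtain ⟨D, -⟩ := Groth.L03.BlowAcyc.nonempty_pointCharts P hP hPc hZ 1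
    (fun t => Groth.L22.PDual.regular_stalk _) (fun t => Groth.L22.PDual.dim_stalk (hPc t))
    (fun _ => ⊤) (fun _ => trivial)
  obtain ⟨E⟩ := exists_echart_of_chart (hPc i) σ hσ (D.U i) (D.f i) (D.mem i) (D.qreg i) (D.ideal i) (D.pt i)
  have hE : PicF.IsInvertible (ClSub.idealMod (exc (hPc i) σ)) :=
    Groth.L03.BlowAcyc.isInvertible_ptExc hσ D i
  haveI := E.isIntegral
  let C := exc (hPc i) σ
  let y : X := C.subschemeι (genericPoint C.subscheme)
  have hy : C = pt y := eq_pt C
  have hdy : topologicalKrullDim (closure ({y} : Set X)) = (1 : ℕ) := by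
    rw [dim_closure_image C.subschemeι, E.dim_eq, Nat.cast_one]
  have hmem : ∀ w : X, w ∈ closure ({y} : Set X) ↔ σ w = P i := by
    intro w
    rw [← range_eq_closure C.subschemeι, Scheme.IdealSheafData.range_subschemeι,
      show C.support = (ptI (hPc i)).support.preimage σ.continuous from Scheme.IdealSheafData.support_comap _ _]
    show σ w ∈ ((ptI (hPc i)).support : Set _) ↔ _
    simp [ptI]
  have hO := Groth.L16.ProjTwist.isInvertible_twistProjSpace 2 k 1
  obtain ⟨h1, h2⟩ := E.ii_exc k hσk hd hE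
  rw [ptDeg_eq_one] at h2
  push_cast at h2
  have hL : Groth.L03.BlowAcyc.LooksPow D σ ((Scheme.Modules.pullback σ).obj (Coh.structureModule _)) :=
    Groth.L03.BlowAcyc.looksPow_pullback D (Groth.L18.Ample.isInvertible_structureModule _)
      fun t => ⟨Groth.L29.LocFree.pullbackUnitIso _⟩
  have hh1 : Subsingleton (Coh.HH C.subscheme (Coh.structureModule C.subscheme) 1) := by
    have h := Groth.L14.LocHilbLift.subsingleton_HH_of_iso ((Scheme.Modules.pushforward C.subschemeι).mapIso
      ((Scheme.Modules.pullback C.subschemeι).mapIso (Groth.L29.LocFree.pullbackUnitIso σ) ≪≫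
        Groth.L29.LocFree.pullbackUnitIso C.subschemeι)) 1
      (Groth.L03.BlowAcyc.subsingleton_HH_ptExc_part hσ D hL i 1 one_pos)
    obtain ⟨a⟩ := Groth.L17.nonempty_HH_push_of_isClosedImmersion C.subschemeι (Coh.structureModule C.subscheme) 1
    exact @Equiv.subsingleton _ _ a.toEquiv h
  have hsupp : topologicalKrullDim (C.support : Set X) = 1 := by
    rw [dim_support C]; exact hdy.trans Nat.cast_one
  have hχ : Curv2.euler k X (ClSub.quotMod C) = 1 := (Groth.L03.SurfAdj.curve_euler k C hsupp).2.2 hh1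
  exact ⟨y, hdy, hy, hmem, hy ▸ hE, hy ▸ hχ, hy ▸ h1 hO, hy ▸ h2⟩

include hP hσk hσ hdim in
/-- Exceptional curves over different points do not meet. -/
theorem exc_disjoint {i l : Fin r} (hil : i ≠ l) :
    ii k (ClSub.idealMod (excI k σ hPc i)) (ClSub.idealMod (excI k σ hPc l)) = 0 := by
  obtain ⟨y, hy, ey, hmy, hIy, -⟩ := exc_facts k hP hPc hσk hσ hdim i
  obtain ⟨z, hz, ez, hmz, hIz, -⟩ := exc_facts k hP hPc hσk hσ hdim l
  rw [ey, ez]
  refine ii_eq_zero_of_disjoint k (hdim.trans Nat.cast_ofNat.symm).le hIy hz hIz fun w hw hw' => hil (hP ?_)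
  rw [Groth.L18.support_vanishingIdeal] at hw'
  exact ((hmy w).1 hw').symm.trans ((hmz w).1 hw)

omit [IsProper (X ↘ Spec (CommRingCat.of k))] [IsIntegral X] [Smooth (X ↘ Spec (CommRingCat.of k))] in
/-- A point of the plane whose closure lies in an affine open is closed. -/
theorem isClosed_of_closure_subset_affine {Y : Scheme.{u}} [Y.Over (Spec (CommRingCat.of k))]
    [IsProper (Y ↘ Spec (CommRingCat.of k))] {W : Y.Opens} (hW : IsAffineOpen W) {w : Y}
    (hw : closure ({w} : Set Y) ⊆ W) : IsClosed ({w} : Set Y) := by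
  haveI := isIntegral_pt w
  let g := (pt w).subschemeι
  haveI : IsAffineHom g := inferInstance
  have htop : g ⁻¹ᵁ W = ⊤ := top_le_iff.1 fun z _ => hw ((range_pt w).le ⟨z, rfl⟩)
  haveI : IsAffine (pt w).subscheme := by
    have h := hW.preimage g
    rw [htop] at h
    haveI : IsAffine ((⊤ : (pt w).subscheme.Opens) : Scheme.{u}) := h
    exact IsAffine.of_isIso (pt w).subscheme.topIso.inv
  let q := g ≫ (Y ↘ Spec (CommRingCat.of k))
  haveI : IsFinite q := IsFinite.iff_isProper_and_isAffineHom.2 ⟨inferInstance, inferInstance⟩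
  haveI : Finite (pt w).subscheme := Set.finite_univ_iff.1 ((q.finite_preimage_singleton
    (Classical.arbitrary _)).subset fun z _ => Set.mem_singleton_iff.2 (Subsingleton.elim _ _))
  haveI : JacobsonSpace (pt w).subscheme := LocallyOfFiniteType.jacobsonSpace q
  have hpt : IsClosed ({genericPoint (pt w).subscheme} : Set (pt w).subscheme) := isClosed_discrete _
  have h := g.isClosedEmbedding.isClosedMap _ hpt
  rwa [Set.image_singleton, genericPoint_pt] at h

include hP hσk hσ hdim in
/-- A curve has nonnegative degree on lines and degree zero only for exceptional curves. -/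
theorem degree_line {y : X} (hy : topologicalKrullDim (closure ({y} : Set X)) = (1 : ℕ)) :
    ii k (ClSub.idealMod (pt y)) (Hl k σ) ≤ 0 ∧
      (ii k (ClSub.idealMod (pt y)) (Hl k σ) = 0 → ∃ i, excI k σ hPc i = pt y) := by
  classical
  letI : (CohB1.ProjSpace 2 k).Over (Spec (CommRingCat.of k)) := ⟨CohB1.ProjSpace.toSpec 2 k⟩
  haveI : IsProper (CohB1.ProjSpace 2 k ↘ Spec (CommRingCat.of k)) := Groth.L16.ProjSpace.isProper_toSpec 2 k
  haveI := Groth.L21.RR.isNoetherian_of_proper (X := X) k
  have hd : topologicalKrullDim X = (2 : ℕ) := hdim.trans Nat.cast_ofNat.symm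
  have hI : PicF.IsInvertible (ClSub.idealMod (pt y)) := by
    haveI := isIntegral_pt y
    refine Groth.L03.SurfNum.isInvertible_idealMod k hd (Groth.L03.SurfAdj.reg_of_smooth k (X := X)) _ ?_
    rw [dim_support (pt y), genericPoint_pt, hy, Nat.cast_one]
  haveI : IsProper (σ ≫ CohB1.ProjSpace.toSpec 2 k) := by rw [hσk]; infer_instance
  haveI : IsSeparated (CohB1.ProjSpace.toSpec 2 k) := inferInstanceAs (IsSeparated (CohB1.ProjSpace 2 k ↘ Spec (CommRingCat.of k)))
  haveI : IsProper σ := IsProper.of_comp σ (CohB1.ProjSpace.toSpec 2 k)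
  by_cases hc : IsClosed ({σ y} : Set (CohB1.ProjSpace 2 k))
  · have hall : ∀ w ∈ closure ({y} : Set X), σ w = σ y := fun w hw => by
      have h := (specializes_iff_mem_closure.2 hw).map σ.continuous
      exact (hc.closure_eq.subset (specializes_iff_mem_closure.1 h))
    have hmem : σ y ∈ Set.range P := by
      by_contra hn
      let U : (CohB1.ProjSpace 2 k).Opens := (Scheme.IdealSheafData.vanishingIdeal ⟨Set.range P, hZ⟩).support.compl
      haveI : IsIso (σ ∣_ U) := Groth.L22.Ideals.isIso_restrict_compl hσ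
      have hU : σ y ∈ U := by
        show σ y ∉ ((Scheme.IdealSheafData.vanishingIdeal ⟨Set.range P, hZ⟩).support : Set _)
        rw [Groth.L18.support_vanishingIdeal]; exact hn
      have hss : closure ({y} : Set X) = {y} := by
        refine Set.eq_singleton_iff_unique_mem.2 ⟨subset_closure rfl, fun w hw => ?_⟩
        exact congrArg Subtype.val ((σ ∣_ U).homeomorph.injective (a₁ := ⟨w, show σ w ∈ U from (hall w hw).symm ▸ hU⟩)
          (a₂ := ⟨y, hU⟩) (Subtype.ext (by
            simpa [morphismRestrict_base_coe] using hall w hw)))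
      have h0 := topologicalKrullDim_zero_of_discreteTopology ({y} : Set X)
      rw [hss] at hy
      rw [hy] at h0
      exact absurd h0 (by norm_num)
    obtain ⟨i, hi⟩ := hmem
    obtain ⟨z, hz, ez, hmz, hIz, -, hzH, -⟩ := exc_facts k hP hPc hσk hσ hdim i
    have hyz : y = z := (eq_of_specializes_top isClosed_closure hz.le hy (subset_closure (Set.mem_singleton z))
      (specializes_iff_mem_closure.2 ((hmz y).2 hi.symm))).symm
    subst hyz
    exact ⟨hzH.le, fun _ => ⟨i, ez⟩⟩
  · suffices hlt : ii k (ClSub.idealMod (pt y)) (Hl k σ) < 0 from ⟨hlt.le, fun h => absurd h hlt.ne⟩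
    have hA : CohB1.IsAmple (Twist.twistProjSpace 2 k 1) :=
      (Groth.L16.ProjSpace.isAmple_twistProjSpace_iff (n := 2) (R := k) (by norm_num) 1).2 one_pos
    obtain ⟨n, s, hs, hsA⟩ := hA.2.2 (σ y)
    obtain ⟨w, hw, hws⟩ := Set.not_subset.1 fun h => hc (isClosed_of_closure_subset_affine k hsA h)
    have hcl : σ '' closure ({y} : Set X) = closure {σ y} := by
      rw [← Set.image_singleton]
      exact (σ.isClosedMap.closure_image_eq_of_continuous σ.continuous _).symm
    obtain ⟨z, hz, rfl⟩ := hcl.ge hw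
    have hT := Groth.L18.Ample.isInvertible_tensorPow hA.1 (n + 1)
    let N := (Scheme.Modules.pullback σ).obj (CohB1.tensorPow (Twist.twistProjSpace 2 k 1) (n + 1))
    have hN : PicF.IsInvertible N := Groth.L18.Ample.isInvertible_pullback σ hT
    let t : Coh.structureModule X ⟶ N :=
      (Groth.L29.LocFree.pullbackUnitIso σ).symm.hom ≫ (Scheme.Modules.pullback σ).map s
    have ht : ∀ v, v ∈ CohB1.genLocus N t ↔ σ v ∈ CohB1.genLocus _ s := fun v => by
      rw [Groth.L18.Ample.genLocus_iso_pullback (u := σ) hT s (Groth.L29.LocFree.pullbackUnitIso σ).symm]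
      exact Iff.rfl
    have h := Groth.L03.SurfAmple.altT_pt_pos k hd hN t hy ((ht y).2 hs) hz (fun hv => hws ((ht z).1 hv))
    rw [altT_quotMod_eq k hN (pt y) hI, ii_comm,
      ii_congr k (Groth.L18.Ample.pullPow σ _ (n + 1))] at h
    rw [ii_comm]
    have hH : PicF.IsInvertible (Hl k σ) := Groth.L18.Ample.isInvertible_pullback σ hA.1
    rw [ii_pow k hd.le hH hI] at h
    push_cast at h
    nlinarith

end Groth.L03.PlaneProj
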