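import Groth.Agent.L03.SurfFib.H1Main
import Mathlib.CategoryTheory.Limits.Shapes.BinaryProducts

/-!
# Bundles on the line with sections only in degree zero
-/

set_option autoImplicit false
set_option linter.style.haveILetI false
set_option backward.isDefEq.respectTransparency false
set_option linter.unusedSectionVars false

universe u v w

open CategoryTheory CategoryTheory.Limits AlgebraicGeometry TopologicalSpace
open Groth.L21.P1 (sumO h_sumO h_O)
open Groth.L21.RR (h)
open Groth.L22.Reg (O')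

noncomputable section

namespace Groth.L03.PlaneProj

attribute [local instance] preservesBinaryBiproducts_of_preservesBinaryCoproducts

/-- A finite sum with one distinguished summand. -/
def splitOff {C : Type w} [Category.{v} C] [HasZeroMorphisms C] {n : ℕ} (F : Fin (n + 1) → C) [HasBiproduct F]
    [HasColimitsOfShape (Discrete (Fin n)) C] [HasBinaryCoproducts C] (l₀ : Fin (n + 1)) {A B : C}
    (a : F l₀ ≅ A) (b : ∀ i : Fin n, F (l₀.succAbove i) ≅ B) :
    (⨁ F) ≅ (∐ fun _ : Fin n => B) ⨿ A where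
  hom := biproduct.desc (Fin.insertNth (α := fun l => F l ⟶ (∐ fun _ : Fin n => B) ⨿ A) l₀
    (a.hom ≫ coprod.inr) (fun i => (b i).hom ≫ Sigma.ι (fun _ : Fin n => B) i ≫ coprod.inl))
  inv := coprod.desc (Sigma.desc fun i => (b i).inv ≫ biproduct.ι F (l₀.succAbove i)) (a.inv ≫ biproduct.ι F l₀)
  hom_inv_id := by
    refine biproduct.hom_ext' _ _ fun l => ?_
    rw [biproduct.ι_desc_assoc, Category.comp_id]
    refine Fin.succAboveCases l₀ ?_ (fun i => ?_) l
    · rw [Fin.insertNth_apply_same]; simp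
    · rw [Fin.insertNth_apply_succAbove]; simp
  inv_hom_id := by
    refine coprod.hom_ext ?_ ?_
    · refine Sigma.hom_ext _ _ fun i => ?_
      simp
    · simp

variable {k : Type u} [Field k]

/-- Numbers of a bundle on the line without first cohomology. -/
theorem exists_degrees {r : ℕ} {G : (CohB1.ProjSpace 1 k).Modules} (hG : FlatMod.IsFinLocFreeOfRank r G)
    (h1 : h k 1 G = 0) :
    ∃ d : Fin r → ℤ, (∀ l, -1 ≤ d l) ∧ Nonempty (sumO k d ≅ G) ∧ (h k 0 G : ℤ) = ∑ l, (d l + 1) ∧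
      (h k 0 (CohB1.tensorMod G (O' 1 k 1)) : ℤ) = ∑ l, (d l + 2) := by
  obtain ⟨d, -, ⟨e⟩⟩ := Groth.L21.P1.exists_splitting k hG
  have hd : ∀ l, -1 ≤ d l := by
    rw [← Groth.L03.SurfFib.finrank_line_iso (k := k) e 1, h_sumO, Finset.sum_eq_zero_iff] at h1
    intro l
    have := h1 l (Finset.mem_univ l)
    rw [(h_O k _).2] at this
    omega
  obtain ⟨e'⟩ := Groth.L03.SurfFib.nonempty_sumO_tensor (k := k) d 1
  refine ⟨d, hd, ⟨e⟩, ?_, ?_⟩
  · rw [← Groth.L03.SurfFib.finrank_line_iso (k := k) e 0, h_sumO]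
    push_cast
    exact Finset.sum_congr rfl fun l _ => by rw [(h_O k _).1]; have := hd l; omega
  · have eT : CohB1.tensorMod G (O' 1 k 1) ≅ sumO k fun l => d l + 1 :=
      (Groth.L00.Tensor.tensorRightF (O' 1 k 1)).mapIso e.symm ≪≫ e'
    rw [Groth.L03.SurfFib.finrank_line_iso (k := k) eT 0, h_sumO]
    push_cast
    exact Finset.sum_congr rfl fun l _ => by rw [(h_O k _).1]; have := hd l; omega

/-- One section and no first cohomology force a trivial summand and degree minus one elsewhere. -/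
theorem nonempty_iso_neg_one_sum {r : ℕ} {G : (CohB1.ProjSpace 1 k).Modules} (hG : FlatMod.IsFinLocFreeOfRank r G)
    (h1 : h k 1 G = 0) (h0 : h k 0 G = 1) {n : ℕ} (hone : h k 0 (CohB1.tensorMod G (O' 1 k 1)) = n + 2) :
    Nonempty (G ≅ (∐ fun _ : Fin n => Twist.twistProjSpace 1 k (-1)) ⨿ Coh.structureModule (CohB1.ProjSpace 1 k)) := by
  classical
  obtain ⟨d, hd, ⟨e⟩, e0, e1⟩ := exists_degrees hG h1
  rw [h0] at e0
  have hr : r = n + 1 := by
    have : ∑ l, (d l + 2) = (∑ l, (d l + 1)) + (r : ℤ) := by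
      rw [show (r : ℤ) = ∑ _l : Fin r, (1 : ℤ) by simp, ← Finset.sum_add_distrib]
      exact Finset.sum_congr rfl fun l _ => by ring
    rw [hone] at e1
    push_cast at e0 e1
    omega
  subst hr
  obtain ⟨l₀, -, hl₀⟩ := Finset.exists_ne_zero_of_sum_ne_zero (e0.symm.trans_ne one_ne_zero)
  have hsplit := Finset.add_sum_erase Finset.univ (fun l => d l + 1) (Finset.mem_univ l₀)
  have hrest : ∀ l, l ≠ l₀ → d l = -1 := by
    intro l hl
    have hnn : ∀ x ∈ Finset.univ.erase l₀, 0 ≤ d x + 1 := fun x _ => by have := hd x; omega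
    have h2 := Finset.single_le_sum hnn (Finset.mem_erase.2 ⟨hl, Finset.mem_univ l⟩)
    have h3 := Finset.sum_nonneg hnn
    have h4 := hd l₀
    have h5 := hd l
    push_cast at e0
    omega
  have hzero : d l₀ = 0 := by
    have h2 : ∑ x ∈ Finset.univ.erase l₀, (d x + 1) = 0 :=
      Finset.sum_eq_zero fun x hx => by rw [hrest x (Finset.ne_of_mem_erase hx)]; norm_num
    push_cast at e0
    omega
  obtain ⟨z⟩ := Groth.L22.Reg.nonempty_O_zero 1 k
  haveI : HasColimitsOfShape (Discrete (Fin n)) (CohB1.ProjSpace 1 k).Modules := inferInstance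
  exact ⟨e.symm ≪≫ splitOff (fun l => Groth.L21.P1.O k (d l)) l₀ (eqToIso (by rw [hzero]; rfl) ≪≫ z)
    (fun i => eqToIso (by rw [hrest _ (Fin.succAbove_ne l₀ i)]; rfl))⟩

/-- No section and no first cohomology: a bundle of rank equal to the sections of its twist, all of degree minus one. -/
theorem nonempty_iso_neg_one {r : ℕ} {G : (CohB1.ProjSpace 1 k).Modules} (hG : FlatMod.IsFinLocFreeOfRank r G)
    (h1 : h k 1 G = 0) (h0 : h k 0 G = 0) (hone : h k 0 (CohB1.tensorMod G (O' 1 k 1)) = 1) :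
    Nonempty (G ≅ Twist.twistProjSpace 1 k (-1)) := by
  obtain ⟨d, hd, ⟨e⟩, e0, e1⟩ := exists_degrees hG h1
  rw [h0] at e0
  have hall : ∀ l, d l = -1 := fun l => by
    have e0' : ∑ x, (d x + 1) = 0 := by exact_mod_cast e0.symm
    have hnn : ∀ x ∈ (Finset.univ : Finset (Fin r)), 0 ≤ d x + 1 := fun x _ => by have := hd x; omega
    have := (Finset.sum_eq_zero_iff_of_nonneg hnn).1 e0' l (Finset.mem_univ l)
    omega
  have hr : r = 1 := by
    rw [hone, Finset.sum_congr rfl fun l _ => by rw [hall l]] at e1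
    simpa using e1.symm
  subst hr
  exact ⟨e.symm ≪≫ biproductUniqueIso (fun l : Fin 1 => Groth.L21.P1.O k (d l)) ≪≫
    eqToIso (by rw [hall]; rfl)⟩

/-- A bundle with no sections in any positive twist is zero. -/
theorem isZero_of_no_sections {r : ℕ} {G : (CohB1.ProjSpace 1 k).Modules} (hG : FlatMod.IsFinLocFreeOfRank r G)
    (h0 : ∀ n : ℕ, h k 0 (CohB1.tensorMod G (O' 1 k n)) = 0) : IsZero G := by
  obtain ⟨d, -, ⟨e⟩⟩ := Groth.L21.P1.exists_splitting k hG
  haveI : IsEmpty (Fin r) := ⟨fun l => by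
    obtain ⟨e'⟩ := Groth.L03.SurfFib.nonempty_sumO_tensor (k := k) d ((d l).natAbs : ℤ)
    have h2 := h0 (d l).natAbs
    have eT : CohB1.tensorMod G (O' 1 k ((d l).natAbs : ℤ)) ≅ sumO k fun x => d x + ((d l).natAbs : ℤ) :=
      (Groth.L00.Tensor.tensorRightF (O' 1 k ((d l).natAbs : ℤ))).mapIso e.symm ≪≫ e'
    rw [Groth.L03.SurfFib.finrank_line_iso (k := k) eT 0, h_sumO,
      Finset.sum_eq_zero_iff] at h2
    have h3 := h2 l (Finset.mem_univ l)
    rw [(h_O k _).1] at h3
    omega⟩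
  exact IsZero.of_iso ((IsZero.iff_id_eq_zero _).2 (biproduct.hom_ext' _ _ fun l => isEmptyElim l)) e.symm

end Groth.L03.PlaneProj
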