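import Groth.Agent.L03.PlaneProj.Vertical
import Groth.Agent.L03.PlaneProj.Line
import Groth.Agent.L03.SurfLeray.Twists
import Groth.Agent.L03.SurfAmple.Canonical

/-!
# Direct images of the ideal and of the module of an exceptional curve
-/

set_option autoImplicit false
set_option linter.style.haveILetI false
set_option backward.isDefEq.respectTransparency false
set_option linter.unusedSectionVars false

universe u

open CategoryTheory CategoryTheory.Limits AlgebraicGeometry TopologicalSpace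
open Groth.L22.Inter Groth.L22.Nef Groth.L22.Big Groth.L03.Euler Groth.L03.SurfNum Groth.L03.BlowPt
open Groth.L00.Tensor (tensorIso tensorComm tensorUnitLeft tensorUnitRight tensorAssoc)
open Groth.L16.CohLinear (hmap exact_hmap_hmap exact_hmap_delta exact_delta_hmap)
open Groth.L22.Reg (O')

noncomputable section

namespace Groth.L03.PlaneProj

variable (k : Type u) [Field k] [IsAlgClosed k] {X : Scheme.{u}} [X.Over (Spec (CommRingCat.of k))]
  [IsIntegral X] [IsProper (X ↘ (Spec (CommRingCat.of k)))] [Smooth (X ↘ (Spec (CommRingCat.of k)))]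
  {σ : X ⟶ CohB1.ProjSpace 2 k} {r : ℕ} {P : Fin r → CohB1.ProjSpace 2 k}
  (hP : Function.Injective P) (hPc : ∀ i, IsClosed ({P i} : Set (CohB1.ProjSpace 2 k)))
  {hZ : IsClosed (Set.range P)}
  (hσk : σ ≫ CohB1.ProjSpace.toSpec 2 k = X ↘ (Spec (CommRingCat.of k)))
  (hσ : BlowUp.IsBlowUp σ (Scheme.IdealSheafData.vanishingIdeal ⟨Set.range P, hZ⟩))
  (hdim : topologicalKrullDim X = 2)
  (j : Fin r) (π : X ⟶ CohB1.ProjSpace 1 k) [π.IsOver (Spec (CommRingCat.of k))] [Surjective π]
  (hπ : Nonempty (((Scheme.Modules.pullback π).obj (Twist.twistProjSpace 1 k 1)) ≅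
    CohB1.tensorMod (Hl k σ) (ClSub.idealMod (excI k σ hPc j))))

theorem isInvertible_Pn (n : ℕ) : PicF.IsInvertible (Pn k π n) :=
  Groth.L18.Ample.isInvertible_pullback π (Groth.L16.ProjTwist.isInvertible_twistProjSpace 1 k _)

/-- Successive multiples of the fibre class. -/
theorem nonempty_Pn_succ (n : ℕ) :
    Nonempty (CohB1.tensorMod (Pn k π n) (Pn k π 1) ≅ Pn k π (n + 1)) := by
  obtain ⟨a⟩ := Groth.L22.Reg.nonempty_O_add (n := 1) (R := k)
    (show ((n : ℤ)) + ((1 : ℕ) : ℤ) = ((n + 1 : ℕ) : ℤ) by push_cast; ring)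
  exact ⟨Groth.L29.DC.PullTensor.pullTensor π _ _ ≪≫ (Scheme.Modules.pullback π).mapIso a⟩

include hdim in
/-- The multiples of the fibre class, numerically. -/
theorem ii_Pn {A : X.Modules} (hA : PicF.IsInvertible A) (n : ℕ) :
    ii k (Pn k π n) A = (n : ℚ) * ii k ((Scheme.Modules.pullback π).obj (Twist.twistProjSpace 1 k 1)) A := by
  induction n with
  | zero =>
    obtain ⟨z⟩ := Groth.L22.Reg.nonempty_O_zero 1 k
    let e : Pn k π 0 ≅ Coh.structureModule X :=
      (Scheme.Modules.pullback π).mapIso z ≪≫ Groth.L29.LocFree.pullbackUnitIso π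
    rw [ii_congr k e A, Nat.cast_zero, zero_mul]
    exact altT_unit k _
  | succ n ih =>
    obtain ⟨e⟩ := nonempty_Pn_succ k π n
    rw [← ii_congr k e A, ii_tensor k (hdim.trans Nat.cast_ofNat.symm).le (isInvertible_Pn k π n)
      (isInvertible_Pn k π 1) hA, ih]
    show _ + ii k ((Scheme.Modules.pullback π).obj (Twist.twistProjSpace 1 k ((1 : ℕ) : ℤ))) A = _
    rw [Nat.cast_one]
    push_cast
    ring

include hdim in
/-- A fibre subtracts one from the multiple of the fibre class. -/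
theorem nonempty_sub_fibre {q : CohB1.ProjSpace 1 k} (hq : IsClosed ({q} : Set (CohB1.ProjSpace 1 k))) (M : X.Modules)
    (n : ℕ) : Nonempty (CohB1.tensorMod (CohB1.tensorMod M (Pn k π (n + 1))) (ClSub.idealMod (π.fiberι q).ker) ≅
      CohB1.tensorMod M (Pn k π n)) := by
  obtain ⟨-, -, ⟨eF⟩⟩ := fibre_ideal_facts k π hq
  obtain ⟨e⟩ := nonempty_Pn_succ k π n
  exact ⟨tensorAssoc _ _ _ ≪≫ tensorIso (Iso.refl M) (tensorIso e.symm (Iso.refl _) ≪≫ tensorAssoc _ _ _ ≪≫
    tensorIso (Iso.refl _) (tensorComm _ _ ≪≫ eF) ≪≫ tensorUnitRight _)⟩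

variable [HasInjectiveResolutions X.Modules] (E : X.IdealSheafData) [IsIntegral E.subscheme]
  (hE1 : topologicalKrullDim (E.support : Set X) = 1)

include k hdim hE1 in
/-- An integral curve's ideal has no sections. -/
theorem h0_ideal_zero : Subsingleton (Coh.HH X (ClSub.idealMod E) 0) := by
  have hd : topologicalKrullDim X = (2 : ℕ) := hdim.trans Nat.cast_ofNat.symm
  have hreg := Groth.L03.SurfAdj.reg_of_smooth k (X := X)
  haveI := Groth.L21.RR.isNoetherian_of_proper (X := X) k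
  have hI := isInvertible_idealMod k hd hreg E hE1
  obtain ⟨A, hA⟩ := Groth.L03.SurfAmple.exists_ample k X hd hreg
  refine not_nontrivial_iff_subsingleton.1 fun hn => ?_
  have h := (Groth.L03.SurfAdj.section_facts k hd hI hA hn).1
  have hyd : topologicalKrullDim (closure ({E.subschemeι (genericPoint E.subscheme)} : Set X)) = (1 : ℕ) := by
    rw [← dim_support E, hE1, Nat.cast_one]
  obtain ⟨h2, h3⟩ := degree_ample_pullback k (𝟙 X) hd hA hyd
    (Groth.L03.BlowPt.inv_curve (k := k) hd hreg hyd)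
  rw [← eq_pt E] at h2 h3
  rw [ii_comm, ii_congr k ((Scheme.Modules.pullbackId X).app A), ii_comm] at h2 h3
  simp only [Functor.id_obj] at h2 h3
  have hc := h3 (le_antisymm h2 h)
  rw [show (𝟙 X : X ⟶ X) (E.subschemeι (genericPoint E.subscheme)) = E.subschemeι (genericPoint E.subscheme) from rfl] at hc
  rw [hc.closure_eq] at hyd
  have h0 : topologicalKrullDim ({E.subschemeι (genericPoint E.subscheme)} : Set X) ≤ 0 :=
    topologicalKrullDim_zero_of_discreteTopology _
  rw [hyd] at h0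
  norm_num at h0

variable (hEg : Subsingleton (Coh.HH E.subscheme (Coh.structureModule E.subscheme) 1))
  (R : ℕ) (hR : (R : ℤ) = degOn k E ((Scheme.Modules.pullback π).obj (Twist.twistProjSpace 1 k 1)))

include hP hσk hσ hdim hπ hE1 hR in
/-- Twists of the ideal on a good fibre. -/
theorem good_fibre_deg :
    ∃ (q : CohB1.ProjSpace 1 k) (y₀ : X), IsClosed ({q} : Set (CohB1.ProjSpace 1 k)) ∧
      topologicalKrullDim (closure ({y₀} : Set X)) = (1 : ℕ) ∧ (π.fiberι q).ker = pt y₀ ∧
      ∀ n : ℕ, degOn k (pt y₀) (CohB1.tensorMod (ClSub.idealMod E) (Pn k π n)) = -(R : ℤ) := by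
  obtain ⟨q, y₀, hq, hy, hF, -⟩ := exists_good_fibre k hP hPc hσk hσ hdim j π hπ (genericPoint X)
  have hd : topologicalKrullDim X = (2 : ℕ) := hdim.trans Nat.cast_ofNat.symm
  have hreg := Groth.L03.SurfAdj.reg_of_smooth k (X := X)
  haveI := Groth.L21.RR.isNoetherian_of_proper (X := X) k
  refine ⟨q, y₀, hq, hy.dim, hF, fun n => ?_⟩
  have hI := isInvertible_idealMod k hd hreg E hE1
  have hy0 := Groth.L03.BlowPt.inv_curve (k := k) hd hreg hy.dim
  obtain ⟨hIF, hsupp, ⟨eF⟩⟩ := fibre_ideal_facts k π hq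
  have hP1 := Groth.L18.Ample.isInvertible_pullback π (Groth.L16.ProjTwist.isInvertible_twistProjSpace 1 k (1 : ℤ))
  have hself : ii k ((Scheme.Modules.pullback π).obj (Twist.twistProjSpace 1 k 1)) (ClSub.idealMod (pt y₀)) = 0 := by
    rw [ii_comm]
    refine ii_pullback_contracted k hd π (Groth.L16.ProjTwist.isInvertible_twistProjSpace 1 k (1 : ℤ)) hy.dim hy0 q
      fun v hv => ?_
    have h : v ∈ ((π.fiberι q).ker.support : Set X) := by
      rw [hF, Groth.L18.support_vanishingIdeal]; exact hv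
    rw [hsupp] at h
    exact h
  have hEy : ii k (ClSub.idealMod (pt y₀)) (ClSub.idealMod E) = (R : ℚ) := by
    have h := Gram.ii_inverse k hd.le hIF hP1 hI eF
    rw [hF, ii_comm k ((Scheme.Modules.pullback π).obj (Twist.twistProjSpace 1 k 1))] at h
    have h2 := degOn_cast k hI hP1
    rw [← hR] at h2
    push_cast at h2
    linarith
  have : (degOn k (pt y₀) (CohB1.tensorMod (ClSub.idealMod E) (Pn k π n)) : ℚ) = ((-(R : ℤ) : ℤ) : ℚ) := by
    rw [degOn_cast k hy0 (Groth.L18.GenLoc.isInvertible_tensor hI (isInvertible_Pn k π n)),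
      ii_tensor_right k hd.le hy0 hI (isInvertible_Pn k π n), hEy, ii_comm k (ClSub.idealMod (pt y₀)),
      ii_Pn k hdim π hy0 n, hself]
    push_cast
    ring
  exact_mod_cast this

include hP hσk hσ hdim hπ hE1 hR in
/-- A horizontal curve's ideal has no sections in any multiple of the fibre class. -/
theorem h0_ideal_twist (hR0 : 0 < R) (n : ℕ) :
    Module.finrank k (Coh.HH X (CohB1.tensorMod (ClSub.idealMod E) (Pn k π n)) 0) = 0 := by
  have hd : topologicalKrullDim X = (2 : ℕ) := hdim.trans Nat.cast_ofNat.symm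
  haveI := Groth.L21.RR.isNoetherian_of_proper (X := X) k
  have hI := isInvertible_idealMod k hd (Groth.L03.SurfAdj.reg_of_smooth k (X := X)) E hE1
  induction n with
  | zero =>
    haveI := h0_ideal_zero k hdim E hE1
    obtain ⟨z⟩ := Groth.L22.Reg.nonempty_O_zero 1 k
    let e0 : Pn k π 0 ≅ Coh.structureModule X :=
      (Scheme.Modules.pullback π).mapIso z ≪≫ Groth.L29.LocFree.pullbackUnitIso π
    rw [(Groth.L03.SurfAdj.hhEquiv k (tensorIso (Iso.refl (ClSub.idealMod E)) e0 ≪≫ tensorUnitRight _) 0).finrank_eq]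
    exact Module.finrank_zero_of_subsingleton
  | succ n ih =>
    obtain ⟨q, y₀, hq, hy, hF, hdeg⟩ := good_fibre_deg k hP hPc hσk hσ hdim j π hπ E hE1 R hR
    haveI := isIntegral_pt y₀
    have hsupp : topologicalKrullDim ((pt y₀).support : Set X) = 1 := by
      rw [Groth.L18.support_vanishingIdeal]; exact hy.trans Nat.cast_one
    have h := finrank_h0_restrict k (pt y₀) hsupp (Groth.L18.GenLoc.isInvertible_tensor hI (isInvertible_Pn k π (n + 1)))
      (by rw [hdeg]; omega)
    rw [← hF] at h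
    obtain ⟨e⟩ := nonempty_sub_fibre k hdim π hq (ClSub.idealMod E) n
    rw [← h, (Groth.L03.SurfAdj.hhEquiv k e 0).finrank_eq, ih]

include hP hσk hσ hdim hπ hE1 hEg hR in
/-- A vertical curve of genus zero: the ideal has no cohomology and one section after one twist. -/
theorem ideal_vertical (hR0 : R = 0) :
    Subsingleton (Coh.HH X (ClSub.idealMod E) 1) ∧
      Module.finrank k (Coh.HH X (CohB1.tensorMod (ClSub.idealMod E) (Pn k π 1)) 0) = 1 := by
  have hd : topologicalKrullDim X = (2 : ℕ) := hdim.trans Nat.cast_ofNat.symm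
  have hreg := Groth.L03.SurfAdj.reg_of_smooth k (X := X)
  haveI := Groth.L21.RR.isNoetherian_of_proper (X := X) k
  have hI := isInvertible_idealMod k hd hreg E hE1
  have hEc := (Groth.Agent.L19.IdealInvertible.isEffCartier_iff E).1 hI
  haveI h0I := h0_ideal_zero k hdim E hE1
  obtain ⟨hp1, hp0⟩ := pn_cohomology k hP hPc hσk hσ hdim j π hπ 0
  obtain ⟨z⟩ := Groth.L22.Reg.nonempty_O_zero 1 k
  let e0 : Pn k π 0 ≅ Coh.structureModule X :=
    (Scheme.Modules.pullback π).mapIso z ≪≫ Groth.L29.LocFree.pullbackUnitIso π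
  let eI : CohB1.tensorMod (Pn k π 0) (ClSub.idealMod E) ≅ ClSub.idealMod E :=
    tensorIso e0 (Iso.refl _) ≪≫ tensorUnitLeft _
  have h1I : Subsingleton (Coh.HH X (ClSub.idealMod E) 1) := by
    obtain ⟨f, g, w, hS⟩ := shortExact_restrict E (isInvertible_Pn k π 0)
    haveI : Subsingleton (Coh.HH X (CohB1.tensorMod (Pn k π 0) (ClSub.idealMod E)) 0) :=
      (Groth.L03.SurfAdj.hhEquiv k eI 0).toEquiv.subsingleton
    have hχ : Curv2.euler k X (ClSub.quotMod E) = 1 := (Groth.L03.SurfAdj.curve_euler k E hE1).2.2 hEg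
    have hpt := eq_pt E
    have hyd : topologicalKrullDim (closure ({E.subschemeι (genericPoint E.subscheme)} : Set X)) = (1 : ℕ) := by
      rw [← dim_support E, hE1, Nat.cast_one]
    have hdeg : degOn k E (Pn k π 0) = 0 := by
      rw [degOn, euler_iso (tensorIso (Iso.refl _) e0 ≪≫ tensorUnitRight (ClSub.quotMod E)), sub_self]
    haveI h3 : Subsingleton (Coh.HH X (CohB1.tensorMod (Pn k π 0) (ClSub.quotMod E)) 1) := by
      rw [hpt] at hχ hdeg ⊢
      refine Groth.L03.SurfFib.FibreH1.subsingleton_h1_curve k hdim hyd (isInvertible_Pn k π 0) ?_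
      rw [hχ, hdeg]; norm_num
    have h30 := Groth.L03.BlowPt.Rational.euler_twist k hd hreg hEc (isInvertible_Pn k π 0)
    rw [hχ, hdeg, Module.finrank_zero_of_subsingleton (M := Coh.HH X (CohB1.tensorMod (Pn k π 0) (ClSub.quotMod E)) 1)] at h30
    push_cast at h30
    have hfin := Groth.L03.BlowPt.Rational.finite_h k hd hreg (isInvertible_Pn k π 0) E 0
    haveI := Groth.L16.ProperFinite.finite_HH k (Groth.L18.Ample.isCoh_of_isInvertible (isInvertible_Pn k π 0)) 0
    have hginj : Function.Injective (Groth.L21.RR.hk k g 0) := by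
      refine (injective_iff_map_eq_zero _).2 fun x hx => ?_
      obtain ⟨y, rfl⟩ := (exact_hmap_hmap hS 0 x).1 hx
      rw [Subsingleton.elim y 0]
      exact map_zero _
    have hgsur : Function.Surjective (Groth.L21.RR.hk k g 0) :=
      (LinearMap.injective_iff_surjective_of_finrank_eq_finrank (by omega)).1 hginj
    refine @Equiv.subsingleton _ _ (Groth.L03.SurfAdj.hhEquiv k eI 1).symm.toEquiv (subsingleton_of_forall_eq 0 fun x => ?_)
    haveI := hp1
    obtain ⟨c, rfl⟩ := (exact_delta_hmap hS 0 x).1 (Subsingleton.elim _ _)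
    obtain ⟨d, rfl⟩ := hgsur c
    exact (exact_hmap_delta hS 0 _).2 ⟨d, rfl⟩
  refine ⟨h1I, ?_⟩
  obtain ⟨q, y₀, hq, hy, hF, hdeg⟩ := good_fibre_deg k hP hPc hσk hσ hdim j π hπ E hE1 R hR
  have hM := Groth.L18.GenLoc.isInvertible_tensor hI (isInvertible_Pn k π 1)
  obtain ⟨hIF, hsupp, -⟩ := fibre_ideal_facts k π hq
  obtain ⟨hz1, hz0⟩ := zero_deg_fibre k hP hPc hσk hσ hdim j π hπ hq hM fun y hy' hyq => by
    have hys : y ∈ ((π.fiberι q).ker.support : Set X) := by rw [hsupp]; exact hyq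
    rw [hF, Groth.L18.support_vanishingIdeal] at hys
    have hyy : y₀ = y := eq_of_specializes_top isClosed_closure hy.le hy' (subset_closure rfl)
      (specializes_iff_mem_closure.2 hys)
    subst hyy
    have h := degOn_cast k (Groth.L03.BlowPt.inv_curve (k := k) hd hreg hy') hM
    rw [hdeg 1, hR0] at h
    simp at h
    linarith
  obtain ⟨f, g, w, hS⟩ := shortExact_restrict (π.fiberι q).ker hM
  obtain ⟨e⟩ := nonempty_sub_fibre k hdim π hq (ClSub.idealMod E) 0
  let e' : CohB1.tensorMod (CohB1.tensorMod (ClSub.idealMod E) (Pn k π 1)) (ClSub.idealMod (π.fiberι q).ker) ≅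
      ClSub.idealMod E := e ≪≫ tensorIso (Iso.refl _) e0 ≪≫ tensorUnitRight _
  obtain ⟨s0, -⟩ := seq_step k hS (Groth.L18.Ample.isCoh_of_isInvertible hM)
    ((Groth.L03.SurfAdj.hhEquiv k e' 1).toEquiv.subsingleton)
  rw [s0, (Groth.L03.SurfAdj.hhEquiv k e' 0).finrank_eq, hz0, Module.finrank_zero_of_subsingleton]

include hP hσk hσ hdim hπ hE1 hEg hR in
/-- The direct images of the module of a minus one curve and of its ideal. -/
theorem exc_push (hEE : ii k (ClSub.idealMod E) (ClSub.idealMod E) = -1) {N : X.Modules} (hN : PicF.IsInvertible N)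
    (eN : CohB1.tensorMod N (ClSub.idealMod E) ≅ Coh.structureModule X) :
    Nonempty ((Coh.push π).obj N ≅
        (∐ fun _ : Fin R => Twist.twistProjSpace 1 k (-1)) ⨿ Coh.structureModule (CohB1.ProjSpace 1 k)) ∧
      (R = 0 → Nonempty ((Coh.push π).obj (ClSub.idealMod E) ≅ Twist.twistProjSpace 1 k (-1))) ∧
      (0 < R → IsZero ((Coh.push π).obj (ClSub.idealMod E))) := by
  have hd : topologicalKrullDim X = (2 : ℕ) := hdim.trans Nat.cast_ofNat.symm
  have hreg := Groth.L03.SurfAdj.reg_of_smooth k (X := X)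
  haveI := Groth.L21.RR.isNoetherian_of_proper (X := X) k
  letI : (CohB1.ProjSpace 1 k).Over (Spec (CommRingCat.of k)) := ⟨CohB1.ProjSpace.toSpec 1 k⟩
  haveI : IsProper (CohB1.ProjSpace 1 k ↘ Spec (CommRingCat.of k)) := Groth.L16.ProjSpace.isProper_toSpec 1 k
  haveI : Smooth (CohB1.ProjSpace 1 k ↘ Spec (CommRingCat.of k)) :=
    inferInstanceAs (Smooth (CohB1.ProjSpace.toSpec 1 k))
  haveI : IsIntegral (CohB1.ProjSpace 1 k) := Groth.L16.ProjSpace.isIntegral 1 k
  haveI := Groth.L21.RR.isNoetherian_of_proper (X := CohB1.ProjSpace 1 k) k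
  haveI : (CohB1.ProjSpace 1 k).IsSeparated :=
    ⟨by rw [← terminal.comp_from (CohB1.ProjSpace 1 k ↘ Spec (CommRingCat.of k))]; infer_instance⟩
  haveI : IsProper π := by
    haveI : IsProper (π ≫ (CohB1.ProjSpace 1 k ↘ Spec (CommRingCat.of k))) := by rw [comp_over]; infer_instance
    exact IsProper.of_comp π (CohB1.ProjSpace 1 k ↘ Spec (CommRingCat.of k))
  have hdC : topologicalKrullDim (CohB1.ProjSpace 1 k) = 1 :=
    (Groth.L16.ProjSpace.topologicalKrullDim_eq_of_field 1 k).trans Nat.cast_one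
  have hI := isInvertible_idealMod k hd hreg E hE1
  have hEc := (Groth.Agent.L19.IdealInvertible.isEffCartier_iff E).1 hI
  have hQ : PicF.IsInvertible (Twist.twistProjSpace 1 k ((1 : ℕ) : ℤ)) :=
    Groth.L16.ProjTwist.isInvertible_twistProjSpace 1 k _
  have hG : ∀ {M : X.Modules}, PicF.IsInvertible M → ∃ m, FlatMod.IsFinLocFreeOfRank m ((Coh.push π).obj M) :=
    fun {M} hM => ⟨_, Groth.L21.Bundle.locFree_of_torsionFree
      (fun x => Groth.L07.SyntKoszul.isRegularLocalRing_of_smooth (CohB1.ProjSpace 1 k ↘ Spec (CommRingCat.of k)) x)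
      hdC.le (Groth.L16.Exist.isCoh_pushforward π (Groth.L16.ProperFinite.isCoh_of_isInvertible hM))
      (Groth.L03.SurfFib.isTorsionFree_push π hM)⟩
  have hG1 : ∀ {M : X.Modules}, PicF.IsInvertible M → Subsingleton (Coh.HH X M 1) →
      Groth.L21.RR.h k 1 ((Coh.push π).obj M) = 0 := fun {M} hM h1 => by
    have h := Groth.L03.SurfLeray.h1_eq k hdC π hM
    rw [Module.finrank_zero_of_subsingleton (M := Coh.HH X M 1)] at h
    show Module.finrank k (Coh.HH (CohB1.ProjSpace 1 k) ((Scheme.Modules.pushforward π).obj M) 1) = 0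
    omega
  have hG0 : ∀ M : X.Modules,
      Groth.L21.RR.h k 0 ((Coh.push π).obj M) = Module.finrank k (Coh.HH X M 0) := fun M => by
    obtain ⟨q⟩ := Groth.L03.SurfFib.RelCanRank.nonempty_h0_push k π M
    exact q.finrank_eq
  have hGn : ∀ (M : X.Modules) (n : ℕ),
      Groth.L21.RR.h k 0 (CohB1.tensorMod ((Coh.push π).obj M) (O' 1 k (n : ℤ))) =
        Module.finrank k (Coh.HH X (CohB1.tensorMod M (Pn k π n)) 0) := fun M n =>
    (Groth.L03.SurfLeray.h0_twist k hdC π M (Groth.L16.ProjTwist.isInvertible_twistProjSpace 1 k (n : ℤ))).symm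
  have hχ : Curv2.euler k X (ClSub.quotMod E) = 1 := (Groth.L03.SurfAdj.curve_euler k E hE1).2.2 hEg
  have hyd : topologicalKrullDim (closure ({E.subschemeι (genericPoint E.subscheme)} : Set X)) = (1 : ℕ) := by
    rw [← dim_support E, hE1, Nat.cast_one]
  -- the module of the curve
  have hNn : ∀ n : ℕ, Subsingleton (Coh.HH X (CohB1.tensorMod N (Pn k π n)) 1) ∧
      Module.finrank k (Coh.HH X (CohB1.tensorMod N (Pn k π n)) 0) = (n + 1) + n * R := by
    intro n
    have hM := Groth.L18.GenLoc.isInvertible_tensor hN (isInvertible_Pn k π n)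
    have hP1 := Groth.L18.Ample.isInvertible_pullback π (Groth.L16.ProjTwist.isInvertible_twistProjSpace 1 k (1 : ℤ))
    let e : CohB1.tensorMod (CohB1.tensorMod N (Pn k π n)) (ClSub.idealMod E) ≅ Pn k π n :=
      tensorIso (tensorComm _ _) (Iso.refl _) ≪≫ tensorAssoc _ _ _ ≪≫ tensorIso (Iso.refl _) eN ≪≫ tensorUnitRight _
    have hdeg : degOn k E (CohB1.tensorMod N (Pn k π n)) = -1 + n * (R : ℤ) := by
      have h2 := degOn_cast k hI hP1
      rw [← hR] at h2
      push_cast at h2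
      have : (degOn k E (CohB1.tensorMod N (Pn k π n)) : ℚ) = ((-1 + n * (R : ℤ) : ℤ) : ℚ) := by
        rw [degOn_cast k hI hM, ii_tensor_right k hd.le hI hN (isInvertible_Pn k π n), ii_comm k (ClSub.idealMod E) N,
          Gram.ii_inverse k hd.le hI hN hI (tensorComm _ _ ≪≫ eN), hEE, ii_comm k (ClSub.idealMod E) (Pn k π n),
          ii_Pn k hdim π hI n, ii_comm k _ (ClSub.idealMod E)]
        push_cast
        rw [h2]
        ring
      exact_mod_cast this
    haveI h3 : Subsingleton (Coh.HH X (CohB1.tensorMod (CohB1.tensorMod N (Pn k π n)) (ClSub.quotMod E)) 1) := by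
      have hpt := eq_pt E
      have hχ' := hχ
      have hdeg' := hdeg
      rw [hpt] at hχ' hdeg' ⊢
      refine Groth.L03.SurfFib.FibreH1.subsingleton_h1_curve k hdim hyd hM ?_
      rw [hχ', hdeg']
      have : (0 : ℤ) ≤ n * (R : ℤ) := by positivity
      omega
    have h30 := Groth.L03.BlowPt.Rational.euler_twist k hd hreg hEc hM
    rw [hχ, hdeg, Module.finrank_zero_of_subsingleton
      (M := Coh.HH X (CohB1.tensorMod (CohB1.tensorMod N (Pn k π n)) (ClSub.quotMod E)) 1)] at h30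
    push_cast at h30
    obtain ⟨hp1, hp0⟩ := pn_cohomology k hP hPc hσk hσ hdim j π hπ n
    obtain ⟨f, g, w, hS⟩ := shortExact_restrict E hM
    obtain ⟨s0, s1⟩ := seq_step k hS (Groth.L18.Ample.isCoh_of_isInvertible hM)
      ((Groth.L03.SurfAdj.hhEquiv k e 1).toEquiv.subsingleton)
    refine ⟨s1 h3, ?_⟩
    have h30' : (Module.finrank k (Coh.HH X (CohB1.tensorMod (CohB1.tensorMod N (Pn k π n)) (ClSub.quotMod E)) 0) : ℤ) =
        ((n * R : ℕ) : ℤ) := by push_cast; linarith
    rw [s0, (Groth.L03.SurfAdj.hhEquiv k e 0).finrank_eq, hp0, Nat.cast_inj.1 h30']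
  obtain ⟨z⟩ := Groth.L22.Reg.nonempty_O_zero 1 k
  let eN0 : CohB1.tensorMod N (Pn k π 0) ≅ N :=
    tensorIso (Iso.refl N) ((Scheme.Modules.pullback π).mapIso z ≪≫ Groth.L29.LocFree.pullbackUnitIso π) ≪≫
      tensorUnitRight N
  refine ⟨?_, fun hR0 => ?_, fun hR0 => ?_⟩
  · obtain ⟨m, hm⟩ := hG hN
    refine nonempty_iso_neg_one_sum hm (hG1 hN ?_) ?_ ?_
    · haveI := (hNn 0).1
      exact (Groth.L03.SurfAdj.hhEquiv k eN0 1).symm.toEquiv.subsingleton
    · rw [hG0, ← (Groth.L03.SurfAdj.hhEquiv k eN0 0).finrank_eq, (hNn 0).2]; simp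
    · have h := hGn N 1
      rw [(hNn 1).2, Nat.cast_one] at h
      omega
  · obtain ⟨h1I, hI1⟩ := ideal_vertical k hP hPc hσk hσ hdim j π hπ E hE1 hEg R hR hR0
    obtain ⟨m, hm⟩ := hG hI
    haveI := h0_ideal_zero k hdim E hE1
    refine nonempty_iso_neg_one hm (hG1 hI h1I) ((hG0 _).trans Module.finrank_zero_of_subsingleton) ?_
    have h := hGn (ClSub.idealMod E) 1
    rw [hI1, Nat.cast_one] at h
    exact h
  · obtain ⟨m, hm⟩ := hG hI
    exact isZero_of_no_sections hm fun n =>
      (hGn _ n).trans (h0_ideal_twist k hP hPc hσk hσ hdim j π hπ E hE1 R hR hR0 n)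

end Groth.L03.PlaneProj
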