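import Groth.Agent.L03.BlowPt.PtDeg
import Groth.Agent.L03.SurfAdj.Tools
import Groth.Agent.L03.SurfAmple.Zero
import Groth.Agent.L04.KSh.Div.Twisted
import Groth.Agent.L22.ZeroScheme
import Groth.Agent.L22.CurveDeg.NonSpecial
import Groth.Agent.L22.PDual.EnriquesSeveri
import Groth.Agent.L03.PlanePoints
import Groth.Agent.L03.VBPn.Hyper
import Groth.Agent.L03.BlowPt.Rules

/-!
# Lines through two points of the plane
-/

set_option autoImplicit false
set_option linter.style.haveILetI false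
set_option backward.isDefEq.respectTransparency false
set_option linter.unusedSectionVars false

universe u

open CategoryTheory CategoryTheory.Limits AlgebraicGeometry TopologicalSpace
open Groth.L18.GenLoc (secOf)
open Groth.L18.Frame (rs pull IsFrame)
open Groth.L03.BlowPt (ptI)

noncomputable section

namespace Groth.L03.PlaneProj

variable (k : Type u) [Field k] [IsAlgClosed k]

local notation "P2" => CohB1.ProjSpace 2 k
local notation "O1" => Twist.twistProjSpace 2 k 1

/-- The evaluation of linear forms at a closed point has image of dimension at most one. -/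
theorem exists_eval (x : P2) (hx : IsClosed ({x} : Set P2)) :
    letI : (P2).Over (Spec (CommRingCat.of k)) := ⟨CohB1.ProjSpace.toSpec 2 k⟩
    ∃ (V : Type u) (_ : AddCommGroup V) (_ : Module k V) (r : Coh.HH (P2) (O1) 0 →ₗ[k] V),
      Module.Finite k V ∧ Module.finrank k V ≤ 1 ∧
      ∀ z, r z = 0 → x ∉ CohB1.genLocus (O1) (Groth.L16.homOfSection (O1) (Groth.L21.RR.e0 (O1) z)) := by
  letI : (P2).Over (Spec (CommRingCat.of k)) := ⟨CohB1.ProjSpace.toSpec 2 k⟩
  haveI : IsProper ((P2) ↘ Spec (CommRingCat.of k)) := Groth.L16.ProjSpace.isProper_toSpec 2 k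
  haveI := Groth.L21.RR.isNoetherian_of_proper (X := P2) k
  let i := (ptI hx).subschemeι
  letI : (ptI hx).subscheme.Over (Spec (CommRingCat.of k)) := ⟨(ptI hx).subschemeι ≫ ((P2) ↘ Spec (CommRingCat.of k))⟩
  haveI : IsProper ((ptI hx).subscheme ↘ Spec (CommRingCat.of k)) :=
    inferInstanceAs (IsProper (i ≫ ((P2) ↘ Spec (CommRingCat.of k))))
  haveI := Groth.L21.RR.isNoetherian_of_proper (X := (ptI hx).subscheme) k
  have hmem : ∀ z : (ptI hx).subscheme, i z = x := fun z => by
    have h : i z ∈ ((ptI hx).support : Set P2) := by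
      rw [← Scheme.IdealSheafData.range_subschemeι]; exact Set.mem_range_self z
    simpa [ptI] using h
  haveI : Subsingleton (ptI hx).subscheme :=
    ⟨fun a c => i.isClosedEmbedding.injective ((hmem a).trans (hmem c).symm)⟩
  haveI hne : Nonempty (ptI hx).subscheme := by
    obtain ⟨z, -⟩ : x ∈ Set.range i := by
      rw [Scheme.IdealSheafData.range_subschemeι]; simp [ptI]
    exact ⟨z⟩
  have hL : PicF.IsInvertible (O1) := Groth.L16.ProjTwist.isInvertible_twistProjSpace 2 k 1
  obtain ⟨g⟩ := Groth.L14.LocHilbLift.nonempty_HH_pushEquiv (k := k) i rfl ((Scheme.Modules.pullback i).obj (O1)) 0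
  obtain ⟨e⟩ := Groth.L03.BlowPt.nonempty_iso_of_subsingleton (Groth.L18.Ample.isInvertible_pullback i hL)
  let η := (Scheme.Modules.pullbackPushforwardAdjunction i).unit.app (O1)
  have h1 : Module.finrank k (Coh.HH (ptI hx).subscheme (Coh.structureModule (ptI hx).subscheme) 0) = 1 := by
    have h := Groth.L03.BlowPt.ptDeg_eq_one (k := k) (hx := hx)
    rw [Groth.L03.BlowPt.ptDeg, Groth.L03.SurfAdj.euler_subscheme k (ptI hx)] at h
    rw [Groth.L03.Euler.euler_eq_sum (k := k) (N := 1) fun q hq => Groth.L22.Inter.subsingleton_HH_of_dim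
      (topologicalKrullDim_zero_of_discreteTopology _ |>.trans_eq Nat.cast_zero.symm) _ hq, Finset.sum_range_one] at h
    simpa using h
  haveI := Groth.L21.RR.finite_HH' k (X := (ptI hx).subscheme) Groth.L16.CohClosedPush.isCoh_structure 0
  refine ⟨_, inferInstance, inferInstance,
    ((g.trans (Groth.L03.SurfAdj.hhEquiv k e 0)).toLinearMap ∘ₗ Groth.L21.RR.hk k η 0), inferInstance, h1.le,
    fun z hz hmemz => ?_⟩
  have hz0 : Groth.L21.RR.hk k η 0 z = 0 := (g.trans (Groth.L03.SurfAdj.hhEquiv k e 0)).map_eq_zero_iff.1 hz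
  set s := Groth.L16.homOfSection (O1) (Groth.L21.RR.e0 (O1) z) with hs
  have hpull : pull i (O1) ⊤ (secOf s) = 0 := by
    rw [hs, Groth.L18.GenLoc.secOf_homOfSection]
    exact (Groth.L21.RR.e0_hmap η z).symm.trans ((congrArg (Groth.L21.RR.e0 _) hz0).trans (map_zero _))
  have hfr := (Groth.L18.GenLoc.isFrame_genLocus s).pullback i (O1)
  have hzero : pull i (O1) (CohB1.genLocus (O1) s) (rs (O1) le_top (secOf s)) = 0 := by
    refine (Groth.L18.Frame.pull_rs i (O1) (le_top : CohB1.genLocus (O1) s ≤ ⊤) (secOf s)).symm.trans ?_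
    exact (congrArg (rs ((Scheme.Modules.pullback i).obj (O1)) _) hpull).trans (map_zero _)
  rw [hzero] at hfr
  have hsub : Subsingleton Γ((ptI hx).subscheme, i ⁻¹ᵁ CohB1.genLocus (O1) s) :=
    subsingleton_of_zero_eq_one (hfr.inj le_rfl (by simp))
  obtain ⟨w⟩ := hne
  have hw : w ∈ i ⁻¹ᵁ CohB1.genLocus (O1) s := show i w ∈ _ from (hmem w).symm ▸ hmemz
  haveI : Nonempty (i ⁻¹ᵁ CohB1.genLocus (O1) s : (ptI hx).subscheme.Opens) := ⟨⟨w, hw⟩⟩
  exact not_nontrivial_iff_subsingleton.2 hsub inferInstance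

/-- A line through two closed points. -/
theorem exists_section_vanish_two {x₁ x₂ : P2} (h₁ : IsClosed ({x₁} : Set P2)) (h₂ : IsClosed ({x₂} : Set P2)) :
    ∃ s : Coh.structureModule (P2) ⟶ O1, s ≠ 0 ∧ x₁ ∉ CohB1.genLocus (O1) s ∧ x₂ ∉ CohB1.genLocus (O1) s := by
  letI : (P2).Over (Spec (CommRingCat.of k)) := ⟨CohB1.ProjSpace.toSpec 2 k⟩
  haveI : IsProper ((P2) ↘ Spec (CommRingCat.of k)) := Groth.L16.ProjSpace.isProper_toSpec 2 k
  obtain ⟨V₁, _, _, r₁, _, hV₁, hr₁⟩ := exists_eval k x₁ h₁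
  obtain ⟨V₂, _, _, r₂, _, hV₂, hr₂⟩ := exists_eval k x₂ h₂
  obtain ⟨e⟩ := Groth.L16.ProjSpace.nonempty_H0_twist_linearEquiv 2 k 1
  haveI := (Groth.L03.PlanePoints.finrank_homogeneous (F := k) 2 1).1
  have h3 : Module.finrank k (Coh.HH (P2) (O1) 0) = 3 := by
    refine e.finrank_eq.trans ?_
    rw [(Groth.L03.PlanePoints.finrank_homogeneous (F := k) 2 1).2]; rfl
  haveI : Module.Finite k (Coh.HH (P2) (O1) 0) := Module.Finite.equiv e.symm
  have hker : LinearMap.ker (r₁.prod r₂) ≠ ⊥ := fun hbot => by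
    have := LinearMap.finrank_le_finrank_of_injective (LinearMap.ker_eq_bot.1 hbot)
    rw [Module.finrank_prod, h3] at this
    omega
  obtain ⟨z, hz, hz0⟩ := (Submodule.ne_bot_iff _).1 hker
  have hz' : (r₁ z, r₂ z) = 0 := LinearMap.mem_ker.1 hz
  refine ⟨_, fun h => hz0 ((Groth.L21.RR.e0 (O1)).injective ?_), hr₁ z (congrArg Prod.fst hz'),
    hr₂ z (congrArg Prod.snd hz')⟩
  rw [← Groth.L18.GenLoc.secOf_homOfSection (Groth.L21.RR.e0 (O1) z), h, map_zero]
  rfl

/-- A nonzero linear form vanishing on a finite set of closed points gives a section of the twisted ideal. -/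
theorem nontrivial_of_vanish {Z : Set P2} (hZ : IsClosed Z) (s : Coh.structureModule (P2) ⟶ O1) (hs : s ≠ 0)
    (hv : ∀ x ∈ Z, x ∉ CohB1.genLocus (O1) s) :
    Nontrivial (Coh.HH (P2) (CohB1.tensorMod (O1) (ClSub.idealMod (Scheme.IdealSheafData.vanishingIdeal ⟨Z, hZ⟩))) 0) := by
  letI : (P2).Over (Spec (CommRingCat.of k)) := ⟨CohB1.ProjSpace.toSpec 2 k⟩
  haveI : IsProper ((P2) ↘ Spec (CommRingCat.of k)) := Groth.L16.ProjSpace.isProper_toSpec 2 k
  haveI := Groth.L21.RR.isNoetherian_of_proper (X := P2) k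
  haveI : IsIntegral (P2) := Groth.L16.ProjSpace.isIntegral 2 k
  have hL : PicF.IsInvertible (O1) := Groth.L16.ProjTwist.isInvertible_twistProjSpace 2 k 1
  obtain ⟨e⟩ := Groth.L03.SurfAmple.nonempty_tensor_zeroScheme hL s
    (Groth.L22.CurveAmple.genericPoint_mem_genLocus hL hs)
  have hle : PicF2.zeroScheme (O1) s ≤ Scheme.IdealSheafData.vanishingIdeal ⟨Z, hZ⟩ := by
    rw [← Scheme.IdealSheafData.le_support_iff_le_vanishingIdeal]
    intro x hx
    show x ∈ ((PicF2.zeroScheme (O1) s).support : Set P2)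
    rw [Groth.L22.ZeroScheme.support_zeroScheme hL s]
    exact hv x hx
  let m := Groth.L04.KSh.inclMap (J := PicF2.zeroScheme (O1) s)
    (I := Scheme.IdealSheafData.vanishingIdeal ⟨Z, hZ⟩) fun V => hle V
  haveI : Mono (ClSub.idealModι (PicF2.zeroScheme (O1) s)) := inferInstanceAs (Mono (kernel.ι _))
  haveI : Mono m := mono_of_mono_fac (h := ClSub.idealModι (PicF2.zeroScheme (O1) s)) (Groth.L04.KSh.inclMap_ι _)
  have hS : (ShortComplex.mk m (cokernel.π m) (cokernel.condition m)).ShortExact :=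
    { exact := ShortComplex.exact_cokernel m }
  have hT := Groth.L03.Euler.shortExact_tensor hL hS
  haveI := hT.mono_f
  let f : CohB1.tensorMod (ClSub.idealMod (PicF2.zeroScheme (O1) s)) (O1) ⟶
      CohB1.tensorMod (ClSub.idealMod (Scheme.IdealSheafData.vanishingIdeal ⟨Z, hZ⟩)) (O1) :=
    (Groth.L00.Tensor.tensorRightF (O1)).map m
  haveI : Mono f := hT.mono_f
  let f' := e.inv ≫ f ≫ (Groth.L00.Tensor.tensorComm _ _).hom
  haveI : Mono f' := inferInstance
  haveI : Nontrivial (Coh.HH (P2) (Coh.structureModule (P2)) 0) := by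
    refine not_subsingleton_iff_nontrivial.1 fun hsub => ?_
    have h := Groth.L22.CurveDeg.h0_structure_eq_one (k := k) (X := P2)
    rw [Groth.L21.RR.h, Module.finrank_zero_of_subsingleton] at h
    exact zero_ne_one h
  exact (Groth.L21.RR.injective_hmap_zero f').nontrivial

end Groth.L03.PlaneProj
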