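import Groth.Agent.L03.PlaneProj.Proj
import Groth.Agent.L03.PlaneProj.Lines
import Groth.Agent.L16.Blow.Integral
import Groth.Agent.L03.SurfAdj.Tools

/-!
# The fibres of the resolved projection
-/

set_option autoImplicit false
set_option linter.style.haveILetI false
set_option backward.isDefEq.respectTransparency false
set_option linter.unusedSectionVars false

universe u

open CategoryTheory CategoryTheory.Limits AlgebraicGeometry TopologicalSpace
open Groth.L22.Inter Groth.L22.Nef Groth.L22.Big Groth.L03.Euler Groth.L03.SurfNum Groth.L03.BlowPt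
open Groth.L00.Tensor (tensorIso tensorComm tensorUnitLeft tensorUnitRight)

noncomputable section

namespace Groth.L03.PlaneProj

variable (k : Type u) [Field k] [IsAlgClosed k] {X : Scheme.{u}} [X.Over (Spec (CommRingCat.of k))]
  [IsIntegral X] [IsProper (X ↘ (Spec (CommRingCat.of k)))] [Smooth (X ↘ (Spec (CommRingCat.of k)))]
  {σ : X ⟶ CohB1.ProjSpace 2 k} {r : ℕ} {P : Fin r → CohB1.ProjSpace 2 k}
  (hP : Function.Injective P) (hPc : ∀ i, IsClosed ({P i} : Set (CohB1.ProjSpace 2 k)))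
  {hZ : IsClosed (Set.range P)}
  (hσk : σ ≫ CohB1.ProjSpace.toSpec 2 k = X ↘ (Spec (CommRingCat.of k)))
  (hσ : BlowUp.IsBlowUp σ (Scheme.IdealSheafData.vanishingIdeal ⟨Set.range P, hZ⟩))
  (hdim : topologicalKrullDim X = 2)
  (j : Fin r) (π : X ⟶ CohB1.ProjSpace 1 k) [π.IsOver (Spec (CommRingCat.of k))]
  (hπ : Nonempty (((Scheme.Modules.pullback π).obj (Twist.twistProjSpace 1 k 1)) ≅
    CohB1.tensorMod (Hl k σ) (ClSub.idealMod (excI k σ hPc j))))

/-- The data of a curve of a fibre: integral, genus zero, degree one on lines, meeting the centre once. -/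
structure MainCurve (y₀ : X) : Prop where
  dim : topologicalKrullDim (closure ({y₀} : Set X)) = (1 : ℕ)
  euler : Curv2.euler k X (ClSub.quotMod (pt y₀)) = 1
  line : ii k (ClSub.idealMod (pt y₀)) (Hl k σ) = -1
  centre : ii k (ClSub.idealMod (pt y₀)) (ClSub.idealMod (excI k σ hPc j)) = 1

include hP hσk hσ hdim hπ in
/-- Components of a fibre other than the main one are exceptional curves; numerics of the fibre. -/
theorem fibre_numeric [Surjective π] {q : CohB1.ProjSpace 1 k} (hq : IsClosed ({q} : Set (CohB1.ProjSpace 1 k))) :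
    ∃ (y₀ : X) (S : Finset (Fin r)) (n : Fin r → ℕ), MainCurve k hPc j (σ := σ) y₀ ∧
      (∀ i ∈ S, i ≠ j) ∧ (∀ i ∈ S, n i = 1) ∧
      (π.fiberι q).ker = pt y₀ * ∏ i ∈ S, excI k σ hPc i ∧
      (∀ i ∈ S, ii k (ClSub.idealMod (pt y₀)) (ClSub.idealMod (excI k σ hPc i)) = 1) := by
  classical
  have hd : topologicalKrullDim X = (2 : ℕ) := hdim.trans Nat.cast_ofNat.symm
  have hreg := Groth.L03.SurfAdj.reg_of_smooth k (X := X)
  haveI := Groth.L21.RR.isNoetherian_of_proper (X := X) k
  haveI : SmoothOfRelativeDimension 2 (X ↘ Spec (CommRingCat.of k)) :=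
    Groth.L16.SmoothSection.smoothOfRelativeDimension_dim _ 2 hd
  obtain ⟨W, hW, -⟩ := Groth.L22.Adjunction.exists_isExtPow
    (Groth.L02.Canon.isFinLocFreeOfRank_omega (f := X ↘ Spec (CommRingCat.of k)) 2)
  obtain ⟨-, hWH⟩ := plane_invariants k hPc hσk hσ hdim hW
  obtain ⟨hWi, -⟩ := Groth.L03.SurfAdj.canonical k hdim hreg hW
  have hadj := fun I hI => Groth.L03.SurfAdj.adj_num k hdim hreg hW I hI
  have hH : PicF.IsInvertible (Hl k σ) :=
    Groth.L18.Ample.isInvertible_pullback σ (Groth.L16.ProjTwist.isInvertible_twistProjSpace 2 k 1)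
  choose g hg eg hmg hIg hχg hgH hgg using fun i => exc_facts k hP hPc hσk hσ hdim i
  have hgW : ∀ i, ii k (ClSub.idealMod (pt (g i))) W = 1 := fun i => by
    have h := hadj _ (hIg i)
    rw [hχg i, hgg i] at h
    push_cast at h
    linarith
  have hij : ∀ i, i ≠ j → ii k (ClSub.idealMod (pt (g i))) (ClSub.idealMod (pt (g j))) = 0 := fun i h => by
    rw [← eg i, ← eg j]; exact exc_disjoint k hP hPc hσk hσ hdim h
  -- the fibre as a product
  obtain ⟨hIF, hsupp, -⟩ := fibre_ideal_facts k π hq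
  have hFc := (Groth.Agent.L19.IdealInvertible.isEffCartier_iff (π.fiberι q).ker).1 hIF
  have hfin := finite_curves k hd hreg hFc
  obtain ⟨e, he⟩ := exists_factor k hd hreg hFc (T := hfin.toFinset)
    (fun y hy => ((Set.Finite.mem_toFinset hfin).1 hy).2) (fun y hy h => (Set.Finite.mem_toFinset hfin).2 ⟨hy, h⟩)
  set T := hfin.toFinset
  have hT : ∀ y ∈ T, topologicalKrullDim (closure ({y} : Set X)) = (1 : ℕ) :=
    fun y hy => ((Set.Finite.mem_toFinset hfin).1 hy).2
  have hvert : ∀ y ∈ T, ∀ w ∈ closure ({y} : Set X), π w = q := fun y hy w hw => by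
    have h := closure_minimal (Set.singleton_subset_iff.2 ((Set.Finite.mem_toFinset hfin).1 hy).1)
      (π.fiberι q).ker.support.isClosed hw
    rw [hsupp] at h
    exact h
  have hinv : ∀ y ∈ T, PicF.IsInvertible (ClSub.idealMod (pt y)) := fun y hy =>
    Groth.L03.BlowPt.inv_curve (k := k) hd hreg (hT y hy)
  have hse : ∀ {M : X.Modules}, PicF.IsInvertible M → ii k (ClSub.idealMod (π.fiberι q).ker) M =
      ∑ y ∈ T, (e y : ℚ) * ii k (ClSub.idealMod (pt y)) M := fun {M} hM => by
    rw [he]; exact Groth.L03.SurfFib.Zariski.ii_prod_pt k hd hT e hM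
  have hbal : ∀ y ∈ T, ii k (ClSub.idealMod (pt y)) (Hl k σ) +
      ii k (ClSub.idealMod (pt y)) (ClSub.idealMod (pt (g j))) = 0 := fun y hy => by
    rw [← eg j]
    exact vertical_balance k hP hPc hσk hσ hdim j π hπ (hT y hy) (hinv y hy) (hvert y hy)
  have hFA : ∀ {A : X.Modules}, PicF.IsInvertible A → ii k (ClSub.idealMod (π.fiberι q).ker) A =
      -(ii k (Hl k σ) A + ii k (ClSub.idealMod (pt (g j))) A) := fun {A} hA => by
    rw [← eg j]; exact ii_fibre k hP hPc hσk hσ hdim j π hπ hq hA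
  -- the degree on lines
  have hintH : ∀ y ∈ T, ∃ m : ℕ, ii k (ClSub.idealMod (pt y)) (Hl k σ) = -(m : ℚ) := fun y hy => by
    obtain ⟨h0, -⟩ := degree_line k hP hPc hσk hσ hdim (hT y hy)
    rw [← intNum_eq_ii k hd.le] at h0 ⊢
    obtain ⟨m, hm⟩ := Int.exists_eq_neg_ofNat (show FGA.intNum k X 2 ![ClSub.idealMod (pt y), Hl k σ]
      (Coh.structureModule X) ≤ 0 by exact_mod_cast h0)
    exact ⟨m, by rw [hm]; push_cast; rfl⟩
  choose! m hm using hintH
  have hsum1 : ∑ y ∈ T, e y * m y = 1 := by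
    have h := hse hH
    rw [hFA hH, ii_line_line k hPc hσk hσ hdim, hgH j] at h
    have h' : ((∑ y ∈ T, e y * m y : ℕ) : ℚ) = 1 := by
      push_cast
      rw [show ∑ y ∈ T, (e y : ℚ) * (m y : ℚ) = -∑ y ∈ T, (e y : ℚ) * ii k (ClSub.idealMod (pt y)) (Hl k σ) by
        rw [← Finset.sum_neg_distrib]
        exact Finset.sum_congr rfl fun y hy => by rw [hm y hy]; ring]
      linarith
    exact_mod_cast h'
  obtain ⟨y₀, hy₀, hne⟩ : ∃ y ∈ T, e y * m y ≠ 0 :=
    Finset.exists_ne_zero_of_sum_ne_zero (hsum1.trans_ne one_ne_zero)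
  have hsplit := Finset.add_sum_erase T (fun y => e y * m y) hy₀
  rw [hsum1] at hsplit
  have he0 : e y₀ * m y₀ = 1 := by omega
  obtain ⟨he1, hm1⟩ := Nat.eq_one_of_mul_eq_one_right he0, Nat.eq_one_of_mul_eq_one_left he0
  have hrest : ∀ y ∈ T, y ≠ y₀ → e y ≠ 0 → ∃ i, i ≠ j ∧ g i = y := by
    intro y hy hyne hey
    have h0 : ∑ z ∈ T.erase y₀, e z * m z = 0 := by omega
    have hmy : m y = 0 := by
      rcases Nat.mul_eq_zero.1 (Finset.sum_eq_zero_iff.1 h0 y (Finset.mem_erase.2 ⟨hyne, hy⟩)) with h | h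
      · exact absurd h hey
      · exact h
    have h1 : ii k (ClSub.idealMod (pt y)) (Hl k σ) = 0 := by rw [hm y hy, hmy]; simp
    obtain ⟨i, hi⟩ := (degree_line k hP hPc hσk hσ hdim (hT y hy)).2 h1
    have hgy : g i = y := by
      haveI := isIntegral_pt (g i)
      haveI := isIntegral_pt y
      have h := congrArg (fun I : X.IdealSheafData => (I.support : Set X)) ((eg i).symm.trans hi)
      simp only [Groth.L18.support_vanishingIdeal] at h
      exact (show IsGenericPoint y (closure {g i}) from h.symm).eq isGenericPoint_closure |>.symm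
    refine ⟨i, fun hij' => ?_, hgy⟩
    subst hij'
    have h2 := hbal y hy
    rw [h1, ← hgy, hgg i] at h2
    norm_num at h2
  -- reindex
  let S : Finset (Fin r) := Finset.univ.filter fun i => g i ∈ T ∧ g i ≠ y₀ ∧ e (g i) ≠ 0
  have hginj : Function.Injective g := fun a b h => hP (by
    rw [← (hmg a (g a)).1 (subset_closure rfl), h, (hmg b (g b)).1 (subset_closure rfl)])
  have hSj : ∀ i ∈ S, i ≠ j := fun i hi => by
    obtain ⟨h1, h2, h3⟩ := (Finset.mem_filter.1 hi).2
    obtain ⟨i', hi', hgi⟩ := hrest _ h1 h2 h3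
    exact hginj hgi ▸ hi'
  have hprod : ∀ {M : Type u} [CommMonoid M] (f : X → M), ∏ y ∈ T, f y ^ e y = f y₀ * ∏ i ∈ S, f (g i) ^ e (g i) := by
    intro M _ f
    rw [← Finset.mul_prod_erase T _ hy₀, he1, pow_one]
    congr 1
    rw [← Finset.prod_image (f := fun y => f y ^ e y) fun a _ b _ h => hginj h]
    refine (Finset.prod_subset ?_ ?_).symm
    · intro y hy
      obtain ⟨i, hi, rfl⟩ := Finset.mem_image.1 hy
      exact Finset.mem_erase.2 ⟨(Finset.mem_filter.1 hi).2.2.1, (Finset.mem_filter.1 hi).2.1⟩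
    · intro y hy hyi
      obtain ⟨hyne, hyT⟩ := Finset.mem_erase.1 hy
      rw [show e y = 0 by
        by_contra hey
        obtain ⟨i, -, rfl⟩ := hrest y hyT hyne hey
        exact hyi (Finset.mem_image.2 ⟨i, Finset.mem_filter.2 ⟨Finset.mem_univ _, hyT, hyne, hey⟩, rfl⟩), pow_zero]
  have hsum : ∀ {M : X.Modules}, PicF.IsInvertible M → ii k (ClSub.idealMod (π.fiberι q).ker) M =
      ii k (ClSub.idealMod (pt y₀)) M + ∑ i ∈ S, (e (g i) : ℚ) * ii k (ClSub.idealMod (pt (g i))) M := by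
    intro M hM
    rw [hse hM, ← Finset.add_sum_erase T _ hy₀, he1, Nat.cast_one, one_mul]
    congr 1
    rw [← Finset.sum_image (f := fun y => (e y : ℚ) * ii k (ClSub.idealMod (pt y)) M) fun a _ b _ h => hginj h]
    refine (Finset.sum_subset ?_ ?_).symm
    · intro y hy
      obtain ⟨i, hi, rfl⟩ := Finset.mem_image.1 hy
      exact Finset.mem_erase.2 ⟨(Finset.mem_filter.1 hi).2.2.1, (Finset.mem_filter.1 hi).2.1⟩
    · intro y hy hyi
      obtain ⟨hyne, hyT⟩ := Finset.mem_erase.1 hy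
      rw [show e y = 0 by
        by_contra hey
        obtain ⟨i, -, rfl⟩ := hrest y hyT hyne hey
        exact hyi (Finset.mem_image.2 ⟨i, Finset.mem_filter.2 ⟨Finset.mem_univ _, hyT, hyne, hey⟩, rfl⟩),
        Nat.cast_zero, zero_mul]
  have hy₀H : ii k (ClSub.idealMod (pt y₀)) (Hl k σ) = -1 := by rw [hm y₀ hy₀, hm1, Nat.cast_one]
  have hy₀I := hinv y₀ hy₀
  -- multiplicities of the exceptional components
  have ha : ∀ i ∈ S, ii k (ClSub.idealMod (pt y₀)) (ClSub.idealMod (pt (g i))) = (e (g i) : ℚ) := by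
    intro i hi
    have h := hsum (hIg i)
    have hS' : ∑ l ∈ S, (e (g l) : ℚ) * ii k (ClSub.idealMod (pt (g l))) (ClSub.idealMod (pt (g i))) =
        -(e (g i) : ℚ) := by
      rw [Finset.sum_eq_single i, hgg i, mul_neg_one]
      · intro l _ hl
        rw [← eg l, ← eg i, exc_disjoint k hP hPc hσk hσ hdim hl, mul_zero]
      · exact fun h => absurd hi h
    rw [hS', hFA (hIg i), ii_comm k (Hl k σ), hgH i, ii_comm k (ClSub.idealMod (pt (g j))),
      hij i (hSj i hi)] at h
    linarith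
  have hsq : ii k (ClSub.idealMod (pt y₀)) (ClSub.idealMod (pt y₀)) = -∑ i ∈ S, (e (g i) : ℚ) * e (g i) := by
    have h := hsum hy₀I
    rw [Finset.sum_congr rfl fun i hi => by rw [ii_comm k (ClSub.idealMod (pt (g i))), ha i hi]] at h
    have hb := hbal y₀ hy₀
    rw [hFA hy₀I, ii_comm k (Hl k σ), ii_comm k (ClSub.idealMod (pt (g j)))] at h
    linarith
  have hW0 : ii k (ClSub.idealMod (pt y₀)) W = 2 - ∑ i ∈ S, (e (g i) : ℚ) := by
    have h := hsum hWi
    simp only [hgW, mul_one] at h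
    rw [hFA hWi, ii_comm k (Hl k σ), hWH, hgW j] at h
    linarith
  have hχ2 := hadj _ hy₀I
  rw [hW0, hsq] at hχ2
  haveI := isIntegral_pt y₀
  have hsd : topologicalKrullDim ((pt y₀).support : Set X) = 1 := by
    rw [Groth.L18.support_vanishingIdeal]; exact (hT y₀ hy₀).trans Nat.cast_one
  have hle1 := (Groth.L03.SurfAdj.curve_euler k (pt y₀) hsd).1
  have hge : (0 : ℤ) ≤ ∑ i ∈ S, ((e (g i) : ℤ) * e (g i) - e (g i)) :=
    Finset.sum_nonneg fun i _ => by nlinarith [Int.natCast_nonneg (e (g i))]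
  have hχeq : (2 : ℤ) * Curv2.euler k X (ClSub.quotMod (pt y₀)) = 2 + ∑ i ∈ S, ((e (g i) : ℤ) * e (g i) - e (g i)) := by
    have : ((2 * Curv2.euler k X (ClSub.quotMod (pt y₀)) : ℤ) : ℚ) =
        ((2 + ∑ i ∈ S, ((e (g i) : ℤ) * e (g i) - e (g i)) : ℤ) : ℚ) := by
      push_cast
      rw [Finset.sum_sub_distrib]
      linarith
    exact_mod_cast this
  have hz : ∑ i ∈ S, ((e (g i) : ℤ) * e (g i) - e (g i)) = 0 := by linarith
  have hone : ∀ i ∈ S, e (g i) = 1 := by
    intro i hi
    have h := (Finset.sum_eq_zero_iff_of_nonneg fun l _ => by nlinarith [Int.natCast_nonneg (e (g l))]).1 hz i hi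
    have h' : (e (g i) : ℤ) * ((e (g i) : ℤ) - 1) = 0 := by linarith
    rcases mul_eq_zero.1 h' with h'' | h''
    · exact absurd (by exact_mod_cast h'') (Finset.mem_filter.1 hi).2.2.2
    · omega
  refine ⟨y₀, S, fun i => e (g i), ⟨hT y₀ hy₀, by linarith, hy₀H, ?_⟩, hSj, hone, ?_, fun i hi => ?_⟩
  · have h := hbal y₀ hy₀
    rw [hy₀H] at h
    rw [eg j]
    linarith
  · rw [he, hprod (fun y => pt y)]
    congr 1
    exact Finset.prod_congr rfl fun i hi => by rw [hone i hi, pow_one, eg i]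
  · rw [eg i, ha i hi, hone i hi, Nat.cast_one]

include hP hσk hσ hdim hπ in
/-- Without three collinear centres a fibre has at most two components. -/
theorem fibre_shape [Surjective π]
    (hlin : ∀ (a b c : Fin r), a ≠ b → b ≠ c → a ≠ c → ∀ (hc : IsClosed ({P a, P b, P c} : Set (CohB1.ProjSpace 2 k))),
      Subsingleton (Coh.HH (CohB1.ProjSpace 2 k) (CohB1.tensorMod (Twist.twistProjSpace 2 k 1)
        (ClSub.idealMod (Scheme.IdealSheafData.vanishingIdeal ⟨{P a, P b, P c}, hc⟩))) 0))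
    {q : CohB1.ProjSpace 1 k} (hq : IsClosed ({q} : Set (CohB1.ProjSpace 1 k))) :
    ∃ y₀ : X, MainCurve k hPc j (σ := σ) y₀ ∧
      ((π.fiberι q).ker = pt y₀ ∨ ∃ i, i ≠ j ∧ (π.fiberι q).ker = pt y₀ * excI k σ hPc i ∧
        ii k (ClSub.idealMod (pt y₀)) (ClSub.idealMod (excI k σ hPc i)) = 1) := by
  classical
  obtain ⟨y₀, S, n, hy, hSj, -, hF, ha⟩ := fibre_numeric k hP hPc hσk hσ hdim j π hπ hq
  rcases S.eq_empty_or_nonempty with rfl | ⟨i, hi⟩
  · exact ⟨y₀, hy, Or.inl (by rw [hF, Finset.prod_empty, mul_one])⟩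
  suffices hS : S = {i} from ⟨y₀, hy, Or.inr ⟨i, hSj i hi, by rw [hF, hS, Finset.prod_singleton], ha i hi⟩⟩
  refine Finset.eq_singleton_iff_unique_mem.2 ⟨hi, fun l hl => ?_⟩
  by_contra hli
  have hd : topologicalKrullDim X = (2 : ℕ) := hdim.trans Nat.cast_ofNat.symm
  have hreg := Groth.L03.SurfAdj.reg_of_smooth k (X := X)
  haveI := Groth.L21.RR.isNoetherian_of_proper (X := X) k
  have hy0 := Groth.L03.BlowPt.inv_curve (k := k) hd hreg hy.dim
  choose g hg eg hmg hIg hχg hgH hgg using fun i => exc_facts k hP hPc hσk hσ hdim i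
  haveI := isIntegral_pt y₀
  -- the main curve meets each exceptional curve
  have hmeet : ∀ t, 0 < ii k (ClSub.idealMod (pt y₀)) (ClSub.idealMod (excI k σ hPc t)) →
      ∃ z ∈ closure ({y₀} : Set X), σ z = P t := by
    intro t ht
    by_contra hno
    push Not at hno
    have h : ii k (ClSub.idealMod (excI k σ hPc t)) (ClSub.idealMod (pt y₀)) = 0 := by
      rw [eg t]
      refine ii_eq_zero_of_disjoint k hd.le (hIg t) hy.dim hy0 fun z hz hzt => hno z hz ?_
      rw [Groth.L18.support_vanishingIdeal] at hzt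
      exact (hmg t z).1 hzt
    rw [ii_comm] at h
    linarith
  have hnot : ∀ t, σ y₀ ≠ P t := fun t h => by
    have hyt : y₀ = g t := (eq_of_specializes_top isClosed_closure (hg t).le hy.dim (subset_closure rfl)
      (specializes_iff_mem_closure.2 ((hmg t y₀).2 h))).symm
    have := hy.line
    rw [hyt, hgH t] at this
    norm_num at this
  -- a closed point of the main curve away from the exceptional curves
  let W : X.Opens := ⟨σ ⁻¹' (Set.range P)ᶜ, hZ.isOpen_compl.preimage σ.continuous⟩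
  haveI : JacobsonSpace X := LocallyOfFiniteType.jacobsonSpace (X ↘ Spec (CommRingCat.of k))
  obtain ⟨x₂, ⟨hx₂y, hx₂W⟩, hx₂c⟩ : ((closure ({y₀} : Set X) ∩ (W : Set X)) ∩ closedPoints X).Nonempty :=
    nonempty_inter_closedPoints ⟨y₀, subset_closure rfl, fun ⟨t, ht⟩ => hnot t ht.symm⟩
      (isClosed_closure.isLocallyClosed.inter W.2.isLocallyClosed)
  letI : (CohB1.ProjSpace 2 k).Over (Spec (CommRingCat.of k)) := ⟨CohB1.ProjSpace.toSpec 2 k⟩
  haveI : IsProper (CohB1.ProjSpace 2 k ↘ Spec (CommRingCat.of k)) := Groth.L16.ProjSpace.isProper_toSpec 2 k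
  haveI : IsIntegral (CohB1.ProjSpace 2 k) := Groth.L16.ProjSpace.isIntegral 2 k
  haveI := Groth.L21.RR.isNoetherian_of_proper (X := CohB1.ProjSpace 2 k) k
  haveI : IsProper σ := by
    haveI : IsProper (σ ≫ (CohB1.ProjSpace 2 k ↘ Spec (CommRingCat.of k))) := by
      show IsProper (σ ≫ CohB1.ProjSpace.toSpec 2 k); rw [hσk]; infer_instance
    haveI : IsSeparated (CohB1.ProjSpace 2 k ↘ Spec (CommRingCat.of k)) := inferInstance
    exact IsProper.of_comp σ (CohB1.ProjSpace 2 k ↘ Spec (CommRingCat.of k))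
  have hσx₂ : IsClosed ({σ x₂} : Set (CohB1.ProjSpace 2 k)) := by
    rw [← Set.image_singleton]; exact σ.isClosedMap _ hx₂c
  obtain ⟨s, hs0, hsj, hs2⟩ := exists_section_vanish_two k (hPc j) hσx₂
  have hO := Groth.L16.ProjTwist.isInvertible_twistProjSpace 2 k 1
  have hH : PicF.IsInvertible (Hl k σ) := Groth.L18.Ample.isInvertible_pullback σ hO
  let t : Coh.structureModule X ⟶ Hl k σ :=
    (Groth.L29.LocFree.pullbackUnitIso σ).symm.hom ≫ (Scheme.Modules.pullback σ).map s
  have ht : ∀ v, v ∈ CohB1.genLocus (Hl k σ) t ↔ σ v ∈ CohB1.genLocus _ s := fun v => by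
    rw [Groth.L18.Ample.genLocus_iso_pullback (u := σ) hO s (Groth.L29.LocFree.pullbackUnitIso σ).symm]
    exact Iff.rfl
  have hne : Scheme.IdealSheafData.vanishingIdeal (⟨Set.range P, hZ⟩ : Closeds (CohB1.ProjSpace 2 k)) ≠ ⊥ := by
    intro h
    have h1 := congrArg (fun I : (CohB1.ProjSpace 2 k).IdealSheafData => (I.support : Set (CohB1.ProjSpace 2 k))) h
    simp only [Groth.L18.support_vanishingIdeal, Scheme.IdealSheafData.support_bot, Closeds.coe_mk,
      Closeds.coe_top] at h1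
    exact hnot _ ((Set.eq_univ_iff_forall.1 h1 (σ y₀)).choose_spec.symm)
  obtain ⟨_, hση, _⟩ := Groth.L16.Blow.isIntegral_and_birational hσ hne
  have hη : genericPoint X ∈ CohB1.genLocus (Hl k σ) t := (ht _).2 (by
    rw [hση]; exact Groth.L22.CurveAmple.genericPoint_mem_genLocus hO hs0)
  obtain ⟨eD⟩ := Groth.L03.SurfAmple.nonempty_tensor_zeroScheme hH t hη
  let D := PicF2.zeroScheme (Hl k σ) t
  have hDc : BlowUp.IsEffCartierIdeal D := Groth.L03.SurfAmple.isEffCartierIdeal_zeroScheme hH t hη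
  have hDI := (Groth.Agent.L19.IdealInvertible.isEffCartier_iff D).2 hDc
  have hDmem : ∀ v, v ∈ (D.support : Set X) ↔ σ v ∉ CohB1.genLocus _ s := fun v => by
    rw [Groth.L22.ZeroScheme.support_zeroScheme hH t, Set.mem_compl_iff, SetLike.mem_coe, ht]
  have hDy : ii k (ClSub.idealMod D) (ClSub.idealMod (pt y₀)) = 1 := by
    have h := Gram.ii_inverse k hd.le hDI hH hy0 eD
    rw [ii_comm k (Hl k σ), hy.line] at h
    linarith
  -- the line contains the image of the main curve
  have hy₀D : y₀ ∈ (D.support : Set X) := by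
    by_contra hyD
    have hgD : g j ∈ (D.support : Set X) := (hDmem _).2 (by rw [(hmg j (g j)).1 (subset_closure rfl)]; exact hsj)
    have hfin := finite_curves k hd hreg hDc
    obtain ⟨e, he⟩ := exists_factor k hd hreg hDc (T := hfin.toFinset)
      (fun y hy => ((Set.Finite.mem_toFinset hfin).1 hy).2) (fun y hy h => (Set.Finite.mem_toFinset hfin).2 ⟨hy, h⟩)
    have hTd : ∀ y ∈ hfin.toFinset, topologicalKrullDim (closure ({y} : Set X)) = (1 : ℕ) :=
      fun y hy => ((Set.Finite.mem_toFinset hfin).1 hy).2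
    have hpos : ∀ y ∈ hfin.toFinset, 0 ≤ ii k (ClSub.idealMod (pt y)) (ClSub.idealMod (pt y₀)) := fun y hy' => by
      haveI := isIntegral_pt y
      refine Gram.curve_pair_nonneg k hd.le _ _ ?_ ?_ (Groth.L03.BlowPt.inv_curve (k := k) hd hreg (hTd y hy')) hy0 ?_
      · rw [Groth.L18.support_vanishingIdeal]; exact (hTd y hy').trans Nat.cast_one
      · rw [Groth.L18.support_vanishingIdeal]; exact hy.dim.trans Nat.cast_one
      · intro h
        have h' := congrArg (fun I : X.IdealSheafData => (I.support : Set X)) h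
        simp only [Groth.L18.support_vanishingIdeal] at h'
        refine hyD (closure_minimal (Set.singleton_subset_iff.2 ((Set.Finite.mem_toFinset hfin).1 hy').1)
          D.support.isClosed ?_)
        exact h'.ge (subset_closure rfl)
    obtain ⟨z, hz, hzD, hzg⟩ : ∃ z ∈ hfin.toFinset, x₂ ∈ closure ({z} : Set X) ∧ 1 ≤ e z := by
      have h2 : x₂ ∈ (D.support : Set X) := (hDmem _).2 hs2
      rw [he, mem_support_prod] at h2
      obtain ⟨z, hz, h2⟩ := h2
      have hez : e z ≠ 0 := fun h => by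
        rw [h, pow_zero, Scheme.IdealSheafData.one_eq_top] at h2
        simp at h2
      rw [Scheme.IdealSheafData.support_pow (pt z) (e z) hez, Groth.L18.support_vanishingIdeal] at h2
      exact ⟨z, hz, h2, Nat.one_le_iff_ne_zero.2 hez⟩
    have hgT : g j ∈ hfin.toFinset := (Set.Finite.mem_toFinset hfin).2 ⟨hgD, hg j⟩
    have heg : 1 ≤ e (g j) := by
      have h2 := hgD
      rw [he, mem_support_prod] at h2
      obtain ⟨w, hw, h2⟩ := h2
      have hew : e w ≠ 0 := fun h => by
        rw [h, pow_zero, Scheme.IdealSheafData.one_eq_top] at h2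
        simp at h2
      rw [Scheme.IdealSheafData.support_pow (pt w) (e w) hew, Groth.L18.support_vanishingIdeal] at h2
      have hwg : w = g j := eq_of_specializes_top isClosed_closure (hTd w hw).le (hg j) (subset_closure rfl)
        (specializes_iff_mem_closure.2 h2)
      exact hwg ▸ Nat.one_le_iff_ne_zero.2 hew
    have hzne : z ≠ g j := fun h => hx₂W ⟨j, ((hmg j x₂).1 (h ▸ hzD)).symm⟩
    have hzy : 0 < ii k (ClSub.idealMod (pt z)) (ClSub.idealMod (pt y₀)) := by
      refine ii_pos_of_meet k hd (Groth.L03.BlowPt.inv_curve (k := k) hd hreg (hTd z hz)) hy.dim hy0 ?_ hx₂y ?_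
      · rw [Groth.L18.support_vanishingIdeal]
        intro h
        exact hyD (closure_minimal (Set.singleton_subset_iff.2 ((Set.Finite.mem_toFinset hfin).1 hz).1)
          D.support.isClosed h)
      · rw [Groth.L18.support_vanishingIdeal]; exact hzD
    have hgy : ii k (ClSub.idealMod (pt (g j))) (ClSub.idealMod (pt y₀)) = 1 := by
      rw [ii_comm, ← eg j, hy.centre]
    rw [he, Groth.L03.SurfFib.Zariski.ii_prod_pt k hd hTd e hy0, ← Finset.add_sum_erase _ _ hgT,
      ← Finset.add_sum_erase _ _ (Finset.mem_erase.2 ⟨hzne, hz⟩), hgy] at hDy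
    have h3 : 0 ≤ ∑ y ∈ (hfin.toFinset.erase (g j)).erase z, (e y : ℚ) *
        ii k (ClSub.idealMod (pt y)) (ClSub.idealMod (pt y₀)) :=
      Finset.sum_nonneg fun y hy' => mul_nonneg (Nat.cast_nonneg _)
        (hpos y (Finset.mem_of_mem_erase (Finset.mem_of_mem_erase hy')))
    have h4 : (1 : ℚ) ≤ e (g j) := by exact_mod_cast heg
    have h5 : (1 : ℚ) ≤ e z := by exact_mod_cast hzg
    nlinarith
  -- so the three centres are collinear
  have hv : ∀ t, 0 < ii k (ClSub.idealMod (pt y₀)) (ClSub.idealMod (excI k σ hPc t)) →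
      P t ∉ CohB1.genLocus _ s := by
    intro t ht'
    obtain ⟨z, hz, hzt⟩ := hmeet t ht'
    rw [← hzt]
    exact (hDmem z).1 (closure_minimal (Set.singleton_subset_iff.2 hy₀D) D.support.isClosed hz)
  have hc : IsClosed ({P i, P l, P j} : Set (CohB1.ProjSpace 2 k)) :=
    (hPc i).union ((hPc l).union (hPc j))
  refine not_nontrivial_iff_subsingleton.2 (hlin i l j (Ne.symm hli) (hSj l hl) (hSj i hi) hc)
    (nontrivial_of_vanish k hc s hs0 ?_)
  rintro x (rfl | rfl | rfl)
  · exact hv i (by rw [ha i hi]; exact one_pos)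
  · exact hv l (by rw [ha l hl]; exact one_pos)
  · exact hsj

end Groth.L03.PlaneProj
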