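import Groth.Agent.L03.PlaneProj.Exc
import Groth.Agent.L03.SurfFib.FibreH1
import Groth.Agent.L03.SurfFib.H1Main
import Groth.Agent.L03.BlowPt.Contracted
import Groth.Agent.L03.BlowPt.ResEuler

/-!
# The resolved projection from one of the centres
-/

set_option autoImplicit false
set_option linter.style.haveILetI false
set_option backward.isDefEq.respectTransparency false
set_option linter.unusedSectionVars false

universe u

open CategoryTheory CategoryTheory.Limits AlgebraicGeometry TopologicalSpace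
open Groth.L22.Inter Groth.L22.Nef Groth.L22.Big Groth.L03.Euler Groth.L03.SurfNum Groth.L03.BlowPt
open Groth.L00.Tensor (tensorIso tensorComm tensorUnitLeft tensorUnitRight)

noncomputable section

namespace Groth.L03.PlaneProj

variable (k : Type u) [Field k] [IsAlgClosed k] {X : Scheme.{u}} [X.Over (Spec (CommRingCat.of k))]
  [IsIntegral X] [IsProper (X ↘ (Spec (CommRingCat.of k)))] [Smooth (X ↘ (Spec (CommRingCat.of k)))]
  {σ : X ⟶ CohB1.ProjSpace 2 k} {r : ℕ} {P : Fin r → CohB1.ProjSpace 2 k}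
  (hP : Function.Injective P) (hPc : ∀ i, IsClosed ({P i} : Set (CohB1.ProjSpace 2 k)))
  {hZ : IsClosed (Set.range P)}
  (hσk : σ ≫ CohB1.ProjSpace.toSpec 2 k = X ↘ (Spec (CommRingCat.of k)))
  (hσ : BlowUp.IsBlowUp σ (Scheme.IdealSheafData.vanishingIdeal ⟨Set.range P, hZ⟩))
  (hdim : topologicalKrullDim X = 2)
  (j : Fin r) (π : X ⟶ CohB1.ProjSpace 1 k) [π.IsOver (Spec (CommRingCat.of k))]
  (hπ : Nonempty (((Scheme.Modules.pullback π).obj (Twist.twistProjSpace 1 k 1)) ≅
    CohB1.tensorMod (Hl k σ) (ClSub.idealMod (excI k σ hPc j))))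

include hPc hσk hσ hdim in
/-- The square of a line. -/
theorem ii_line_line : ii k (Hl k σ) (Hl k σ) = 1 := by
  have hd : topologicalKrullDim X = (2 : ℕ) := hdim.trans Nat.cast_ofNat.symm
  haveI : SmoothOfRelativeDimension 2 (X ↘ Spec (CommRingCat.of k)) :=
    Groth.L16.SmoothSection.smoothOfRelativeDimension_dim _ 2 hd
  obtain ⟨W, hW, -⟩ := Groth.L22.Adjunction.exists_isExtPow
    (Groth.L02.Canon.isFinLocFreeOfRank_omega (f := X ↘ Spec (CommRingCat.of k)) 2)
  obtain ⟨h0, -⟩ := plane_invariants k hPc hσk hσ hdim hW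
  have h1 : Curv2.euler k X (Hl k σ) = 3 := euler_line k hPc hσk hσ 1
  obtain ⟨a⟩ := Groth.L22.Reg.nonempty_O_add (n := 2) (R := k) (show (1 : ℤ) + 1 = ((2 : ℕ) : ℤ) by norm_num)
  have h2 : Curv2.euler k X (CohB1.tensorMod (Hl k σ) (Hl k σ)) = 6 := by
    rw [euler_iso (Groth.L29.DC.PullTensor.pullTensor σ (Twist.twistProjSpace 2 k 1) (Twist.twistProjSpace 2 k 1) ≪≫
      (Scheme.Modules.pullback σ).mapIso a), euler_line k hPc hσk hσ 2]
    rfl
  have h := Groth.L03.BlowPt.euler_tensor_two k (A := Hl k σ) (B := Hl k σ)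
  rw [h0, h1, h2] at h
  push_cast at h
  linarith

include hP hσk hσ hdim hπ in
/-- The class of the pullback of a point of the line. -/
theorem ii_pull_one {A : X.Modules} (hA : PicF.IsInvertible A) :
    ii k ((Scheme.Modules.pullback π).obj (Twist.twistProjSpace 1 k 1)) A =
      ii k (Hl k σ) A + ii k (ClSub.idealMod (excI k σ hPc j)) A := by
  obtain ⟨e⟩ := hπ
  obtain ⟨y, -, ey, -, hIy, -⟩ := exc_facts k hP hPc hσk hσ hdim j
  rw [ii_congr k e, ii_tensor k (hdim.trans Nat.cast_ofNat.symm).le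
    (Groth.L18.Ample.isInvertible_pullback σ (Groth.L16.ProjTwist.isInvertible_twistProjSpace 2 k 1)) (ey ▸ hIy) hA]

include hP hσk hσ hdim hπ in
/-- The projection is surjective. -/
theorem surjective_proj : Surjective π := by
  letI : (CohB1.ProjSpace 1 k).Over (Spec (CommRingCat.of k)) := ⟨CohB1.ProjSpace.toSpec 1 k⟩
  haveI : IsProper (CohB1.ProjSpace 1 k ↘ Spec (CommRingCat.of k)) := Groth.L16.ProjSpace.isProper_toSpec 1 k
  haveI : (CohB1.ProjSpace 1 k).IsSeparated :=
    ⟨by rw [← terminal.comp_from (CohB1.ProjSpace 1 k ↘ Spec (CommRingCat.of k))]; infer_instance⟩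
  haveI : IsIntegral (CohB1.ProjSpace 1 k) := Groth.L16.ProjSpace.isIntegral 1 k
  haveI : IsProper π := by
    haveI : IsProper (π ≫ (CohB1.ProjSpace 1 k ↘ Spec (CommRingCat.of k))) := by rw [comp_over]; infer_instance
    exact IsProper.of_comp π (CohB1.ProjSpace 1 k ↘ Spec (CommRingCat.of k))
  have hdC : topologicalKrullDim (CohB1.ProjSpace 1 k) = (1 : ℕ) :=
    Groth.L16.ProjSpace.topologicalKrullDim_eq_of_field 1 k
  refine ⟨fun p => ?_⟩
  have hcl : IsClosed (Set.range π) := π.isClosedMap.isClosed_range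
  have hgen : Set.range π = closure {π (genericPoint X)} := by
    refine Set.Subset.antisymm ?_ (closure_minimal (Set.singleton_subset_iff.2 (Set.mem_range_self _)) hcl)
    rintro _ ⟨x, rfl⟩
    exact specializes_iff_mem_closure.1 ((genericPoint_specializes x).map π.continuous)
  by_cases hg : π (genericPoint X) = genericPoint (CohB1.ProjSpace 1 k)
  · rw [← Set.mem_range, hgen, hg, genericPoint_closure]
    trivial
  · exfalso
    have hc : IsClosed ({π (genericPoint X)} : Set (CohB1.ProjSpace 1 k)) := by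
      refine isClosed_of_closure_subset fun w hw => ?_
      rcases Groth.L21.RR.Top.spec_of_dim_le_one (X := (CohB1.ProjSpace 1 k).toTopCat)
        (hdC.le.trans Nat.cast_one.le) (genericPoint (CohB1.ProjSpace 1 k)) (π (genericPoint X)) w
        ((genericPoint_spec (CohB1.ProjSpace 1 k)).specializes trivial) (specializes_iff_mem_closure.2 hw) with e | e
      · exact absurd e.symm hg
      · exact e.symm
    have hconst : ∀ x, π x = π (genericPoint X) := fun x => by
      have h : π x ∈ Set.range π := ⟨x, rfl⟩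
      rw [hgen, hc.closure_eq] at h
      exact h
    have hO := Groth.L16.ProjTwist.isInvertible_twistProjSpace 1 k 1
    obtain ⟨e⟩ := nonempty_pullback_const π _ hconst hO
    have hH := Groth.L18.Ample.isInvertible_pullback σ (Groth.L16.ProjTwist.isInvertible_twistProjSpace 2 k 1)
    have h := ii_pull_one k hP hPc hσk hσ hdim j π hπ hH
    obtain ⟨y, -, ey, -, -, -, hyH, -⟩ := exc_facts k hP hPc hσk hσ hdim j
    rw [ii_congr k e, ii_line_line k hPc hσk hσ hdim, ey, hyH] at h
    have h1 : ii k (Coh.structureModule X) (Hl k σ) = 0 := altT_unit k _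
    rw [h1] at h
    norm_num at h

variable [Surjective π] {q : CohB1.ProjSpace 1 k} (hq : IsClosed ({q} : Set (CohB1.ProjSpace 1 k)))

include hq in
/-- Fibres as effective divisors. -/
theorem fibre_ideal_facts :
    PicF.IsInvertible (ClSub.idealMod (π.fiberι q).ker) ∧
      ((π.fiberι q).ker.support : Set X) = π ⁻¹' {q} ∧
      Nonempty (CohB1.tensorMod (ClSub.idealMod (π.fiberι q).ker)
        ((Scheme.Modules.pullback π).obj (Twist.twistProjSpace 1 k 1)) ≅ Coh.structureModule X) := by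
  haveI : IsIntegral (CohB1.ProjSpace 1 k) := Groth.L16.ProjSpace.isIntegral 1 k
  letI : (CohB1.ProjSpace 1 k).Over (Spec (CommRingCat.of k)) := ⟨CohB1.ProjSpace.toSpec 1 k⟩
  haveI : IsProper (CohB1.ProjSpace 1 k ↘ Spec (CommRingCat.of k)) := Groth.L16.ProjSpace.isProper_toSpec 1 k
  haveI : Smooth (CohB1.ProjSpace 1 k ↘ Spec (CommRingCat.of k)) :=
    inferInstanceAs (Smooth (CohB1.ProjSpace.toSpec 1 k))
  have hdC : topologicalKrullDim (CohB1.ProjSpace 1 k) = 1 :=
    (Groth.L16.ProjSpace.topologicalKrullDim_eq_of_field 1 k).trans Nat.cast_one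
  obtain ⟨hI, -, hsupp, ⟨α⟩⟩ := Groth.L03.SurfNum.fibre_ideal k hdC π hq
  haveI := Groth.L21.RR.isNoetherian_of_proper (X := CohB1.ProjSpace 1 k) k
  haveI : IsClosedImmersion ((CohB1.ProjSpace 1 k).fromSpecResidueField q) :=
    isClosed_singleton_iff_isClosedImmersion.mp hq
  have hker : ((CohB1.ProjSpace 1 k).fromSpecResidueField q).ker = Scheme.IdealSheafData.vanishingIdeal ⟨{q}, hq⟩ := by
    rw [Groth.L23.SchKer.ker_eq_vanishingIdeal]
    congr 1
    refine TopologicalSpace.Closeds.ext ?_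
    show closure (Set.range ((CohB1.ProjSpace 1 k).fromSpecResidueField q)) = {q}
    rw [Scheme.range_fromSpecResidueField, hq.closure_eq]
  rw [hker] at α
  obtain ⟨-, ⟨ei⟩⟩ := Groth.L03.SurfFib.nonempty_idealMod_point (k := k) hq
  obtain ⟨a⟩ := Groth.L22.Reg.nonempty_O_add (n := 1) (R := k) (show (-1 : ℤ) + 1 = 0 by norm_num)
  obtain ⟨b⟩ := Groth.L22.Reg.nonempty_O_zero 1 k
  exact ⟨hI, hsupp, ⟨tensorIso (α.symm ≪≫ (Scheme.Modules.pullback π).mapIso ei) (Iso.refl _) ≪≫
    Groth.L29.DC.PullTensor.pullTensor π _ _ ≪≫ (Scheme.Modules.pullback π).mapIso (a ≪≫ b) ≪≫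
    Groth.L29.LocFree.pullbackUnitIso π⟩⟩

include hP hσk hσ hdim hπ hq in
/-- The numerical class of a fibre. -/
theorem ii_fibre {A : X.Modules} (hA : PicF.IsInvertible A) :
    ii k (ClSub.idealMod (π.fiberι q).ker) A =
      -(ii k (Hl k σ) A + ii k (ClSub.idealMod (excI k σ hPc j)) A) := by
  obtain ⟨hI, -, ⟨e⟩⟩ := fibre_ideal_facts k π hq
  rw [← ii_pull_one k hP hPc hσk hσ hdim j π hπ hA, Gram.ii_inverse k (hdim.trans Nat.cast_ofNat.symm).le hI
    (Groth.L18.Ample.isInvertible_pullback π (Groth.L16.ProjTwist.isInvertible_twistProjSpace 1 k 1)) hA e, neg_neg]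

include hP hσk hσ hdim hπ in
/-- On vertical curves the line and the centre of projection have the same degree. -/
theorem vertical_balance {y : X} (hy : topologicalKrullDim (closure ({y} : Set X)) = (1 : ℕ))
    (hI : PicF.IsInvertible (ClSub.idealMod (pt y))) (hyq : ∀ w ∈ closure ({y} : Set X), π w = q) :
    ii k (ClSub.idealMod (pt y)) (Hl k σ) + ii k (ClSub.idealMod (pt y)) (ClSub.idealMod (excI k σ hPc j)) = 0 := by
  letI : (CohB1.ProjSpace 1 k).Over (Spec (CommRingCat.of k)) := ⟨CohB1.ProjSpace.toSpec 1 k⟩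
  haveI : IsProper (CohB1.ProjSpace 1 k ↘ Spec (CommRingCat.of k)) := Groth.L16.ProjSpace.isProper_toSpec 1 k
  haveI : IsIntegral (CohB1.ProjSpace 1 k) := Groth.L16.ProjSpace.isIntegral 1 k
  have h := ii_pullback_contracted k (hdim.trans Nat.cast_ofNat.symm) π
    (Groth.L16.ProjTwist.isInvertible_twistProjSpace 1 k 1) hy hI q hyq
  rw [ii_comm, ii_pull_one k hP hPc hσk hσ hdim j π hπ hI, ii_comm k (Hl k σ),
    ii_comm k (ClSub.idealMod (excI k σ hPc j))] at h
  exact h

end Groth.L03.PlaneProj
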