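import Groth.Agent.L03.PlaneProj.Fibre
import Groth.Agent.L03.SurfFib.FiberHIff
import Groth.Agent.L03.Ruled.Push

/-!
# Direct images along the resolved projection
-/

set_option autoImplicit false
set_option linter.style.haveILetI false
set_option backward.isDefEq.respectTransparency false
set_option linter.unusedSectionVars false

universe u

open CategoryTheory CategoryTheory.Limits AlgebraicGeometry TopologicalSpace
open Groth.L22.Inter Groth.L22.Nef Groth.L22.Big Groth.L03.Euler Groth.L03.SurfNum Groth.L03.BlowPt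
open Groth.L00.Tensor (tensorIso tensorComm tensorUnitLeft tensorUnitRight)

noncomputable section

namespace Groth.L03.PlaneProj

variable (k : Type u) [Field k] [IsAlgClosed k] {X : Scheme.{u}} [X.Over (Spec (CommRingCat.of k))]
  [IsIntegral X] [IsProper (X ↘ (Spec (CommRingCat.of k)))] [Smooth (X ↘ (Spec (CommRingCat.of k)))]
  {σ : X ⟶ CohB1.ProjSpace 2 k} {r : ℕ} {P : Fin r → CohB1.ProjSpace 2 k}
  (hP : Function.Injective P) (hPc : ∀ i, IsClosed ({P i} : Set (CohB1.ProjSpace 2 k)))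
  {hZ : IsClosed (Set.range P)}
  (hσk : σ ≫ CohB1.ProjSpace.toSpec 2 k = X ↘ (Spec (CommRingCat.of k)))
  (hσ : BlowUp.IsBlowUp σ (Scheme.IdealSheafData.vanishingIdeal ⟨Set.range P, hZ⟩))
  (hdim : topologicalKrullDim X = 2)
  (j : Fin r) (π : X ⟶ CohB1.ProjSpace 1 k) [π.IsOver (Spec (CommRingCat.of k))]
  (hπ : Nonempty (((Scheme.Modules.pullback π).obj (Twist.twistProjSpace 1 k 1)) ≅
    CohB1.tensorMod (Hl k σ) (ClSub.idealMod (excI k σ hPc j))))

include hP hσk hσ hdim in
/-- Degrees on exceptional curves through the structure sheaves of the curves. -/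
theorem degOn_exc {L : X.Modules} (hL : PicF.IsInvertible L) (i : Fin r) :
    ii k L (ClSub.idealMod (excI k σ hPc i)) = -(degOn k (excI k σ hPc i) L : ℚ) := by
  obtain ⟨y, -, ey, -, hI, -⟩ := exc_facts k hP hPc hσk hσ hdim i
  rw [ii_comm, degOn_cast k (ey ▸ hI) hL, neg_neg]

/-- The multiplicity hypotheses, numerically. -/
def GoodDeg (L : X.Modules) : Prop :=
  ∀ i : Fin r, degOn k (excI k σ hPc i) L + degOn k (excI k σ hPc j) L ≤
      FGA.intNum k X 2 ![L, Hl k σ] (Coh.structureModule X) ∧ -1 ≤ degOn k (excI k σ hPc i) L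

include hP hσk hσ hdim hπ in
/-- The Euler characteristic and the first cohomology of a module on a fibre. -/
theorem fibre_cohomology [Surjective π]
    (hlin : ∀ (a b c : Fin r), a ≠ b → b ≠ c → a ≠ c → ∀ (hc : IsClosed ({P a, P b, P c} : Set (CohB1.ProjSpace 2 k))),
      Subsingleton (Coh.HH (CohB1.ProjSpace 2 k) (CohB1.tensorMod (Twist.twistProjSpace 2 k 1)
        (ClSub.idealMod (Scheme.IdealSheafData.vanishingIdeal ⟨{P a, P b, P c}, hc⟩))) 0))
    {q : CohB1.ProjSpace 1 k} (hq : IsClosed ({q} : Set (CohB1.ProjSpace 1 k)))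
    {L : X.Modules} (hL : PicF.IsInvertible L) (hgood : GoodDeg k hPc j (σ := σ) L) :
    Subsingleton (Coh.HH X (CohB1.tensorMod L (ClSub.quotMod (π.fiberι q).ker)) 1) ∧
      (Module.finrank k (Coh.HH X (CohB1.tensorMod L (ClSub.quotMod (π.fiberι q).ker)) 0) : ℤ) =
        FGA.intNum k X 2 ![L, Hl k σ] (Coh.structureModule X) - degOn k (excI k σ hPc j) L + 1 := by
  have hd : topologicalKrullDim X = (2 : ℕ) := hdim.trans Nat.cast_ofNat.symm
  have hreg := Groth.L03.SurfAdj.reg_of_smooth k (X := X)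
  haveI := Groth.L21.RR.isNoetherian_of_proper (X := X) k
  haveI : SmoothOfRelativeDimension 2 (X ↘ Spec (CommRingCat.of k)) :=
    Groth.L16.SmoothSection.smoothOfRelativeDimension_dim _ 2 hd
  have hH : PicF.IsInvertible (Hl k σ) :=
    Groth.L18.Ample.isInvertible_pullback σ (Groth.L16.ProjTwist.isInvertible_twistProjSpace 2 k 1)
  obtain ⟨W, hW, -⟩ := Groth.L22.Adjunction.exists_isExtPow
    (Groth.L02.Canon.isFinLocFreeOfRank_omega (f := X ↘ Spec (CommRingCat.of k)) 2)
  obtain ⟨-, hWH⟩ := plane_invariants k hPc hσk hσ hdim hW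
  obtain ⟨hWi, -⟩ := Groth.L03.SurfAdj.canonical k hdim hreg hW
  obtain ⟨hIF, -, -⟩ := fibre_ideal_facts k π hq
  have hFc := (Groth.Agent.L19.IdealInvertible.isEffCartier_iff (π.fiberι q).ker).1 hIF
  obtain ⟨yj, hyjd, eyj, -, hIj, hχj, hjH, hjj⟩ := exc_facts k hP hPc hσk hσ hdim j
  have hadj := fun I hI => Groth.L03.SurfAdj.adj_num k hdim hreg hW I hI
  have hjW : ii k (ClSub.idealMod (pt yj)) W = 1 := by
    have h := hadj _ hIj
    rw [hχj, hjj] at h
    push_cast at h
    linarith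
  set D := FGA.intNum k X 2 ![L, Hl k σ] (Coh.structureModule X) - degOn k (excI k σ hPc j) L with hDdef
  have hFL : ii k (ClSub.idealMod (π.fiberι q).ker) L = -(D : ℚ) := by
    have h1 := degOn_exc k hP hPc hσk hσ hdim hL j
    rw [ii_fibre k hP hPc hσk hσ hdim j π hπ hq hL, ii_comm k (Hl k σ), ← intNum_eq_ii k hd.le,
      ii_comm k (ClSub.idealMod (excI k σ hPc j)), h1, hDdef]
    push_cast
    ring
  have hχF : Curv2.euler k X (ClSub.quotMod (π.fiberι q).ker) = 1 := by
    have h := hadj _ hIF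
    have hFW : ii k (ClSub.idealMod (π.fiberι q).ker) W = 2 := by
      rw [ii_fibre k hP hPc hσk hσ hdim j π hπ hq hWi, ii_comm k (Hl k σ), hWH, eyj, hjW]; norm_num
    have hFF : ii k (ClSub.idealMod (π.fiberι q).ker) (ClSub.idealMod (π.fiberι q).ker) = 0 := by
      have hjI : PicF.IsInvertible (ClSub.idealMod (excI k σ hPc j)) := eyj ▸ hIj
      have a1 := ii_fibre k hP hPc hσk hσ hdim j π hπ hq hIF
      have a2 := ii_fibre k hP hPc hσk hσ hdim j π hπ hq hH
      have a3 := ii_fibre k hP hPc hσk hσ hdim j π hπ hq hjI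
      rw [ii_comm k (Hl k σ) (ClSub.idealMod (π.fiberι q).ker),
        ii_comm k (ClSub.idealMod (excI k σ hPc j)) (ClSub.idealMod (π.fiberι q).ker), a2, a3] at a1
      rw [a1, ii_line_line k hPc hσk hσ hdim, ii_comm k (Hl k σ) (ClSub.idealMod (excI k σ hPc j)), eyj, hjH, hjj]
      norm_num
    rw [hFW, hFF] at h
    have h' : ((2 * Curv2.euler k X (ClSub.quotMod (π.fiberι q).ker) : ℤ) : ℚ) = ((2 : ℤ) : ℚ) := by
      push_cast; linarith
    have : 2 * Curv2.euler k X (ClSub.quotMod (π.fiberι q).ker) = 2 := by exact_mod_cast h'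
    omega
  have hdegF : degOn k (π.fiberι q).ker L = D := by
    have h : ((degOn k (π.fiberι q).ker L : ℤ) : ℚ) = (D : ℚ) := by rw [degOn_cast k hIF hL, hFL, neg_neg]
    exact_mod_cast h
  suffices h1 : Subsingleton (Coh.HH X (CohB1.tensorMod L (ClSub.quotMod (π.fiberι q).ker)) 1) by
    refine ⟨h1, ?_⟩
    have h := Groth.L03.BlowPt.Rational.euler_twist k hd hreg hFc hL
    rw [hχF, hdegF, Module.finrank_zero_of_subsingleton (M := Coh.HH X (CohB1.tensorMod L
      (ClSub.quotMod (π.fiberι q).ker)) 1)] at h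
    push_cast at h
    linarith
  obtain ⟨y₀, hy, hF⟩ := fibre_shape k hP hPc hσk hσ hdim j π hπ hlin hq
  have hy0I := Groth.L03.BlowPt.inv_curve (k := k) hd hreg hy.dim
  rcases hF with hF | ⟨i, hij, hF, hmeet⟩
  · rw [hF]
    refine Groth.L03.SurfFib.FibreH1.subsingleton_h1_curve k hdim hy.dim hL ?_
    rw [hy.euler, ← hF, hdegF]
    have := hgood j
    omega
  · obtain ⟨yi, hyid, eyi, -, hIi, hχi, -, -⟩ := exc_facts k hP hPc hσk hσ hdim i
    have hy0c := (Groth.Agent.L19.IdealInvertible.isEffCartier_iff (pt y₀)).1 hy0I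
    have hic := (Groth.Agent.L19.IdealInvertible.isEffCartier_iff (pt yi)).1 hIi
    rw [eyi] at hF hmeet
    have hg := hgood i
    rw [eyi] at hg
    rw [hF, mul_comm]
    refine Groth.L03.BlowPt.Rational.step k hd hreg hic hL ?_ ?_
    · refine Groth.L03.SurfFib.FibreH1.subsingleton_h1_curve k hdim hy.dim
        (Groth.L18.GenLoc.isInvertible_tensor hL hIi) ?_
      rw [hy.euler]
      have hsum : ii k (ClSub.idealMod (π.fiberι q).ker) L =
          ii k (ClSub.idealMod (pt y₀)) L + ii k (ClSub.idealMod (pt yi)) L := by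
        rw [hF]; exact Groth.L03.SurfAmple.ii_ideal_mul k hd.le hy0c hic hL
      have hc : ((degOn k (pt y₀) (CohB1.tensorMod L (ClSub.idealMod (pt yi))) : ℤ) : ℚ) =
          ((D - degOn k (pt yi) L - 1 : ℤ) : ℚ) := by
        rw [Groth.L03.BlowPt.Rational.degOn_eq k hd hreg hy0c hL hic, degOn_cast k hy0I hL,
          ii_comm k (ClSub.idealMod (pt yi)), hmeet]
        push_cast
        rw [degOn_cast k hIi hL]
        linarith
      have hc' : degOn k (pt y₀) (CohB1.tensorMod L (ClSub.idealMod (pt yi))) = D - degOn k (pt yi) L - 1 := by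
        exact_mod_cast hc
      rw [hc']
      omega
    · refine Groth.L03.SurfFib.FibreH1.subsingleton_h1_curve k hdim hyid hL ?_
      rw [hχi]
      omega

include hP hσk hσ hdim hπ in
/-- No higher direct image and a locally free direct image. -/
theorem push_facts [HasInjectiveResolutions X.Modules]
    (hlin : ∀ (a b c : Fin r), a ≠ b → b ≠ c → a ≠ c → ∀ (hc : IsClosed ({P a, P b, P c} : Set (CohB1.ProjSpace 2 k))),
      Subsingleton (Coh.HH (CohB1.ProjSpace 2 k) (CohB1.tensorMod (Twist.twistProjSpace 2 k 1)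
        (ClSub.idealMod (Scheme.IdealSheafData.vanishingIdeal ⟨{P a, P b, P c}, hc⟩))) 0))
    {L : X.Modules} (hL : PicF.IsInvertible L) (hgood : GoodDeg k hPc j (σ := σ) L) :
    IsZero ((Coh.Rpush π 1).obj L) ∧
      FlatMod.IsFinLocFreeOfRank
        (FGA.intNum k X 2 ![L, Hl k σ] (Coh.structureModule X) - degOn k (excI k σ hPc j) L + 1).toNat
        ((Coh.push π).obj L) := by
  haveI := surjective_proj k hP hPc hσk hσ hdim j π hπ
  letI : (CohB1.ProjSpace 1 k).Over (Spec (CommRingCat.of k)) := ⟨CohB1.ProjSpace.toSpec 1 k⟩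
  haveI : IsProper (CohB1.ProjSpace 1 k ↘ Spec (CommRingCat.of k)) := Groth.L16.ProjSpace.isProper_toSpec 1 k
  haveI : Smooth (CohB1.ProjSpace 1 k ↘ Spec (CommRingCat.of k)) :=
    inferInstanceAs (Smooth (CohB1.ProjSpace.toSpec 1 k))
  haveI : IsIntegral (CohB1.ProjSpace 1 k) := Groth.L16.ProjSpace.isIntegral 1 k
  haveI := Groth.L21.RR.isNoetherian_of_proper (X := X) k
  haveI := Groth.L21.RR.isNoetherian_of_proper (X := CohB1.ProjSpace 1 k) k
  haveI : (CohB1.ProjSpace 1 k).IsSeparated :=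
    ⟨by rw [← terminal.comp_from (CohB1.ProjSpace 1 k ↘ Spec (CommRingCat.of k))]; infer_instance⟩
  have hdC : topologicalKrullDim (CohB1.ProjSpace 1 k) = 1 :=
    (Groth.L16.ProjSpace.topologicalKrullDim_eq_of_field 1 k).trans Nat.cast_one
  haveI : IsProper π := by
    haveI : IsProper (π ≫ (CohB1.ProjSpace 1 k ↘ Spec (CommRingCat.of k))) := by rw [comp_over]; infer_instance
    exact IsProper.of_comp π (CohB1.ProjSpace 1 k ↘ Spec (CommRingCat.of k))
  haveI := Groth.L03.SurfNum.flat_of_surjective k hdC π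
  haveI : Coh.IsQCoh L := Groth.L21.Extend.isQCoh_of_isInvertible hL
  have hfp : CohB1.IsFP L := Groth.L18.LFP.isFP_of_isFinLocFree _ (Groth.L16.Existence.isFinLocFree_of_isInvertible hL)
  have hfl := Groth.Agent.Pic0.isFlatOver_of_isInvertible π hL
  have hcoh := fun (z : CohB1.ProjSpace 1 k) (hz : IsClosed ({z} : Set (CohB1.ProjSpace 1 k))) =>
    fibre_cohomology k hP hPc hσk hσ hdim j π hπ hlin hz hL hgood
  have hvan := fun (z : CohB1.ProjSpace 1 k) (hz : IsClosed ({z} : Set (CohB1.ProjSpace 1 k))) =>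
    (Groth.L03.SurfFib.Zariski.subsingleton_fiberH_iff k π hz hL 1).2 (hcoh z hz).1
  refine ⟨Groth.L21.Mod.isZero_of_restrict (fun _ : Unit => (⊤ : (CohB1.ProjSpace 1 k).Opens).ι)
    (fun x => ⟨(), ⟨x, trivial⟩, rfl⟩) _ fun _ => Groth.L17.BC.isZero_restrict_of_forall _ ⊤ fun y _ => ?_, fun y => ?_⟩
  · obtain ⟨z, hz, hyz⟩ := Groth.L21.RR.exists_closed_specialization y
    obtain ⟨U, hzU, hU⟩ := Groth.L17.BC.exists_isZero_of_vanishing π L hfp hfl z 1 (hvan z hz)
    exact ⟨U, hyz.mem_open U.2 hzU, hU⟩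
  · obtain ⟨z, hz, hyz⟩ := Groth.L21.RR.exists_closed_specialization y
    obtain ⟨U, hzU, ⟨e⟩⟩ := Groth.L17.BC.exists_free_of_vanishing π L hfp hfl z 0
      (fun q hq => absurd hq (Nat.succ_ne_zero q)) (hvan z hz)
    have hn' : CohIII.fiberRank π L 0 z =
        (FGA.intNum k X 2 ![L, Hl k σ] (Coh.structureModule X) - degOn k (excI k σ hPc j) L + 1).toNat := by
      rw [Groth.L03.SurfFib.Zariski.fiberRank_eq k π hz hL 0, ← (hcoh z hz).2, Int.toNat_natCast]
    rw [hn'] at e
    haveI := Groth.L17.PushQCoh.additive_push π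
    exact ⟨U, hyz.mem_open U.2 hzU,
      ⟨(Scheme.Modules.restrictFunctor U.ι).mapIso (((Coh.push π).rightDerivedZeroIsoSelf).app L).symm ≪≫ e⟩⟩

end Groth.L03.PlaneProj
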