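import Groth.Agent.L03.PlaneProj.Exc
import Groth.Agent.L03.BlowPt.Numeric
import Groth.Agent.L03.BlowPt.CurveProd
import Groth.Agent.L03.BlowPt.PullDiv
import Groth.Agent.L03.SurfAmple.Canonical
import Groth.Agent.L03.PlaneProj.Proj
import Groth.Agent.L20.PnPic.Main
import Groth.Agent.L22.Nef.NumTriv

/-!
# The numerical classes of the plane blown up at points are spanned by a line and the exceptional curves
-/

set_option autoImplicit false
set_option linter.style.haveILetI false
set_option backward.isDefEq.respectTransparency false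
set_option linter.unusedSectionVars false

universe u

open CategoryTheory CategoryTheory.Limits AlgebraicGeometry TopologicalSpace
open Groth.L22.Inter Groth.L22.Nef Groth.L22.Big Groth.L03.Euler Groth.L03.SurfNum Groth.L03.BlowPt
open Groth.L00.Tensor (tensorIso tensorComm tensorUnitLeft tensorUnitRight tensorAssoc)

noncomputable section

namespace Groth.L03.PlaneProj

variable (k : Type u) [Field k] [IsAlgClosed k] {X : Scheme.{u}} [X.Over (Spec (CommRingCat.of k))]
  [IsIntegral X] [IsProper (X ↘ (Spec (CommRingCat.of k)))] [Smooth (X ↘ (Spec (CommRingCat.of k)))]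
  {σ : X ⟶ CohB1.ProjSpace 2 k} {r : ℕ} {P : Fin r → CohB1.ProjSpace 2 k}
  (hP : Function.Injective P) (hPc : ∀ i, IsClosed ({P i} : Set (CohB1.ProjSpace 2 k)))
  {hZ : IsClosed (Set.range P)}
  (hσk : σ ≫ CohB1.ProjSpace.toSpec 2 k = X ↘ (Spec (CommRingCat.of k)))
  (hσ : BlowUp.IsBlowUp σ (Scheme.IdealSheafData.vanishingIdeal ⟨Set.range P, hZ⟩))
  (hdim : topologicalKrullDim X = 2)

include hσ in
/-- Off the centres the blow-up is injective. -/
theorem injective_off {a b : X} (h : σ a = σ b) (ha : σ a ∉ Set.range P) : a = b := by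
  let U : (CohB1.ProjSpace 2 k).Opens := (Scheme.IdealSheafData.vanishingIdeal ⟨Set.range P, hZ⟩).support.compl
  haveI : IsIso (σ ∣_ U) := Groth.L22.Ideals.isIso_restrict_compl hσ
  have hU : σ a ∈ U := by
    show σ a ∉ ((Scheme.IdealSheafData.vanishingIdeal ⟨Set.range P, hZ⟩).support : Set _)
    rw [Groth.L18.support_vanishingIdeal]; exact ha
  have hU' : σ b ∈ U := h ▸ hU
  exact congrArg Subtype.val ((σ ∣_ U).homeomorph.injective (a₁ := ⟨a, hU⟩) (a₂ := ⟨b, hU'⟩)
    (Subtype.ext (by simpa [morphismRestrict_base_coe] using h)))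

include hσk hσ hdim in
/-- Off the centres curves go to curves. -/
theorem dim_image {y : X} (hy : topologicalKrullDim (closure ({y} : Set X)) = (1 : ℕ)) (hyP : σ y ∉ Set.range P) :
    topologicalKrullDim (closure ({σ y} : Set (CohB1.ProjSpace 2 k))) = (1 : ℕ) := by
  letI : (CohB1.ProjSpace 2 k).Over (Spec (CommRingCat.of k)) := ⟨CohB1.ProjSpace.toSpec 2 k⟩
  haveI : IsProper (CohB1.ProjSpace 2 k ↘ Spec (CommRingCat.of k)) := Groth.L16.ProjSpace.isProper_toSpec 2 k
  haveI : IsIntegral (CohB1.ProjSpace 2 k) := Groth.L16.ProjSpace.isIntegral 2 k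
  have hd' : topologicalKrullDim (CohB1.ProjSpace 2 k) = (2 : ℕ) := Groth.L16.ProjSpace.topologicalKrullDim_eq_of_field 2 k
  have hd : topologicalKrullDim X = (2 : ℕ) := hdim.trans Nat.cast_ofNat.symm
  obtain ⟨a, c, ha, hc, hac⟩ := dim_closure_add k hd y
  have ha1 : a = 1 := by exact_mod_cast ha.symm.trans hy
  obtain ⟨a', c', ha', hc', hac'⟩ := dim_closure_add k hd' (σ y)
  haveI := Groth.L22.Ideals.isIso_stalkMap hσ y (fun h => hyP (by
    have h' : σ y ∈ ((Scheme.IdealSheafData.vanishingIdeal ⟨Set.range P, hZ⟩).support : Set _) := h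
    rwa [Groth.L18.support_vanishingIdeal] at h'))
  have hcc : c = c' := by
    have := ringKrullDim_eq_of_ringEquiv (asIso (σ.stalkMap y)).commRingCatIsoToRingEquiv
    rw [hc, hc'] at this
    exact_mod_cast this.symm
  rw [ha', show a' = 1 by omega]

include hσk hdim in
/-- Pulled back twists, numerically. -/
theorem ii_pull_twist {A : X.Modules} (hA : PicF.IsInvertible A) (c : ℤ) :
    ii k ((Scheme.Modules.pullback σ).obj (Twist.twistProjSpace 2 k c)) A = (c : ℚ) * ii k (Hl k σ) A := by
  have hd : topologicalKrullDim X = (2 : ℕ) := hdim.trans Nat.cast_ofNat.symm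
  haveI := Groth.L21.RR.isNoetherian_of_proper (X := X) k
  have hO := fun c : ℤ => Groth.L18.Ample.isInvertible_pullback σ (Groth.L16.ProjTwist.isInvertible_twistProjSpace 2 k c)
  have hstep : ∀ c : ℤ, ii k ((Scheme.Modules.pullback σ).obj (Twist.twistProjSpace 2 k (c + 1))) A =
      ii k ((Scheme.Modules.pullback σ).obj (Twist.twistProjSpace 2 k c)) A + ii k (Hl k σ) A := fun c => by
    obtain ⟨a⟩ := Groth.L22.Reg.nonempty_O_add (n := 2) (R := k) (show c + 1 = c + 1 from rfl)
    have e := Groth.L29.DC.PullTensor.pullTensor σ (Twist.twistProjSpace 2 k c) (Twist.twistProjSpace 2 k 1) ≪≫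
      (Scheme.Modules.pullback σ).mapIso a
    rw [← ii_congr k e A, ii_tensor k hd.le (hO c) (hO 1) hA]
  induction c using Int.induction_on with
  | zero =>
    obtain ⟨z⟩ := Groth.L22.Reg.nonempty_O_zero 2 k
    let e : (Scheme.Modules.pullback σ).obj (Twist.twistProjSpace 2 k 0) ≅ Coh.structureModule X :=
      (Scheme.Modules.pullback σ).mapIso z ≪≫ Groth.L29.LocFree.pullbackUnitIso σ
    rw [ii_congr k e A, Int.cast_zero, zero_mul]
    exact altT_unit k _
  | succ n ih => rw [hstep, ih]; push_cast; ring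
  | pred n ih =>
    have h := hstep (-(n : ℤ) - 1)
    rw [sub_add_cancel, ih] at h
    push_cast at h ⊢
    linarith

/-- The defect of a class from its expansion in a line and the exceptional curves. -/
def defect (σ : X ⟶ CohB1.ProjSpace 2 k) (hPc : ∀ i, IsClosed ({P i} : Set (CohB1.ProjSpace 2 k)))
    (D A : X.Modules) : ℚ :=
  ii k D A - ii k D (Hl k σ) * ii k (Hl k σ) A +
    ∑ l, ii k D (ClSub.idealMod (excI k σ hPc l)) * ii k (ClSub.idealMod (excI k σ hPc l)) A

include hP hσk hσ hdim

theorem inv_exc (l : Fin r) : PicF.IsInvertible (ClSub.idealMod (excI k σ hPc l)) := by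
  obtain ⟨y, -, ey, -, hI, -⟩ := exc_facts k hP hPc hσk hσ hdim l
  exact ey ▸ hI

theorem defect_tensor {D A B : X.Modules} (hD : PicF.IsInvertible D) (hA : PicF.IsInvertible A)
    (hB : PicF.IsInvertible B) :
    defect k σ hPc D (CohB1.tensorMod A B) = defect k σ hPc D A + defect k σ hPc D B := by
  have hd : topologicalKrullDim X ≤ (2 : ℕ) := (hdim.trans Nat.cast_ofNat.symm).le
  have hH : PicF.IsInvertible (Hl k σ) :=
    Groth.L18.Ample.isInvertible_pullback σ (Groth.L16.ProjTwist.isInvertible_twistProjSpace 2 k 1)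
  have hI := inv_exc k hP hPc hσk hσ hdim
  simp only [defect, ii_tensor_right k hd hD hA hB, ii_tensor_right k hd hH hA hB,
    fun l => ii_tensor_right k hd (hI l) hA hB, mul_add, Finset.sum_add_distrib]
  ring

/-- The defect vanishes on a line. -/
theorem defect_line (D : X.Modules) : defect k σ hPc D (Hl k σ) = 0 := by
  have hz : ∀ l, ii k (ClSub.idealMod (excI k σ hPc l)) (Hl k σ) = 0 := fun l => by
    obtain ⟨y, -, ey, -, -, -, hH, -⟩ := exc_facts k hP hPc hσk hσ hdim l
    rw [ey]; exact hH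
  simp only [defect, ii_line_line k hPc hσk hσ hdim, hz, mul_zero, Finset.sum_const_zero, mul_one, sub_self,
    add_zero]

/-- The defect vanishes on exceptional curves. -/
theorem defect_exc (D : X.Modules) (i : Fin r) : defect k σ hPc D (ClSub.idealMod (excI k σ hPc i)) = 0 := by
  obtain ⟨y, -, ey, -, -, -, hH, hii⟩ := exc_facts k hP hPc hσk hσ hdim i
  rw [defect, Finset.sum_eq_single i (fun l _ hl => by rw [exc_disjoint k hP hPc hσk hσ hdim hl, mul_zero])
    (fun h => absurd (Finset.mem_univ i) h), ii_comm k (Hl k σ), ey, hH, hii]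
  ring

/-- The defect vanishes on curves. -/
theorem defect_curve {D : X.Modules} (hD : PicF.IsInvertible D) {y : X}
    (hy : topologicalKrullDim (closure ({y} : Set X)) = (1 : ℕ)) :
    defect k σ hPc D (ClSub.idealMod (pt y)) = 0 := by
  classical
  letI : (CohB1.ProjSpace 2 k).Over (Spec (CommRingCat.of k)) := ⟨CohB1.ProjSpace.toSpec 2 k⟩
  haveI : IsProper (CohB1.ProjSpace 2 k ↘ Spec (CommRingCat.of k)) := Groth.L16.ProjSpace.isProper_toSpec 2 k
  haveI : Smooth (CohB1.ProjSpace 2 k ↘ Spec (CommRingCat.of k)) := Groth.L16.ProjSpace.smooth_toSpec 2 k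
  haveI : IsIntegral (CohB1.ProjSpace 2 k) := Groth.L16.ProjSpace.isIntegral 2 k
  haveI := Groth.L21.RR.isNoetherian_of_proper (X := X) k
  have hd : topologicalKrullDim X = (2 : ℕ) := hdim.trans Nat.cast_ofNat.symm
  have hd' : topologicalKrullDim (CohB1.ProjSpace 2 k) = (2 : ℕ) := Groth.L16.ProjSpace.topologicalKrullDim_eq_of_field 2 k
  have hreg := Groth.L03.SurfAdj.reg_of_smooth k (X := X)
  have hexc : ∀ w : X, topologicalKrullDim (closure ({w} : Set X)) = (1 : ℕ) → σ w ∈ Set.range P →
      defect k σ hPc D (ClSub.idealMod (pt w)) = 0 := by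
    rintro w hw ⟨i, hi⟩
    obtain ⟨z, hz, ez, hmz, -⟩ := exc_facts k hP hPc hσk hσ hdim i
    have hwz : z = w := eq_of_specializes_top isClosed_closure hz.le hw (subset_closure (Set.mem_singleton z))
      (specializes_iff_mem_closure.2 ((hmz w).2 hi.symm))
    rw [← hwz, ← ez]
    exact defect_exc k hP hPc hσk hσ hdim D i
  by_cases hyP : σ y ∈ Set.range P
  · exact hexc y hy hyP
  have hz := dim_image k hσk hσ hdim hy hyP
  have hJi := Groth.L03.BlowPt.inv_curve (k := k) hd' (Groth.L03.SurfAdj.reg_of_smooth k) hz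
  have hJ := (Groth.Agent.L19.IdealInvertible.isEffCartier_iff (pt (σ y))).1 hJi
  have hη : σ (genericPoint X) ∉ ((pt (σ y)).support : Set (CohB1.ProjSpace 2 k)) := fun h => by
    rw [Groth.L18.support_vanishingIdeal] at h
    have h1 : σ y ⤳ σ (genericPoint X) := specializes_iff_mem_closure.2 h
    have h2 := injective_off k hσ (h1.antisymm ((genericPoint_specializes y).map σ.continuous)).eq hyP
    rw [h2, genericPoint_closure, (Homeomorph.Set.univ X).isHomeomorph.topologicalKrullDim_eq] at hy
    rw [hd] at hy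
    norm_num at hy
  obtain ⟨hC, ⟨eC⟩⟩ := nonempty_pullback_idealMod σ hJ hη
  obtain ⟨c, ⟨ec⟩⟩ := Groth.L20.PnPic.exists_iso_twist (n := 2) (R := k) _ hJi
  let T : Finset X := (finite_curves k hd hreg hC).toFinset
  have hT : ∀ w ∈ T, topologicalKrullDim (closure ({w} : Set X)) = (1 : ℕ) :=
    fun w hw => ((Set.Finite.mem_toFinset _).1 hw).2
  obtain ⟨e, he⟩ := exists_factor k hd hreg hC hT fun w h1 h2 => (Set.Finite.mem_toFinset _).2 ⟨h1, h2⟩
  have hTy : ∀ w ∈ T, w = y ∨ σ w ∈ Set.range P := fun w hw => by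
    refine or_iff_not_imp_right.2 fun hwP => ?_
    have h := ((Set.Finite.mem_toFinset _).1 hw).1
    rw [Scheme.IdealSheafData.support_comap] at h
    have h' : σ w ∈ ((pt (σ y)).support : Set (CohB1.ProjSpace 2 k)) := h
    rw [Groth.L18.support_vanishingIdeal] at h'
    have h2 : σ y = σ w := eq_of_specializes_top isClosed_closure hz.le (dim_image k hσk hσ hdim (hT w hw) hwP)
      (subset_closure (Set.mem_singleton _)) (specializes_iff_mem_closure.2 h')
    exact injective_off k hσ h2.symm hwP
  have hsum : ∀ (S : Finset X), S ⊆ T → BlowUp.IsEffCartierIdeal (∏ w ∈ S, pt w ^ e w) ∧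
      defect k σ hPc D (ClSub.idealMod (∏ w ∈ S, pt w ^ e w)) =
        ∑ w ∈ S, (e w : ℚ) * defect k σ hPc D (ClSub.idealMod (pt w)) := by
    intro S hS
    have hpw : ∀ w ∈ T, BlowUp.IsEffCartierIdeal (pt w) := fun w hw =>
      (Groth.Agent.L19.IdealInvertible.isEffCartier_iff _).1 (Groth.L03.BlowPt.inv_curve (k := k) hd hreg (hT w hw))
    induction S using Finset.induction_on with
    | empty =>
      simp only [Finset.prod_empty, Finset.sum_empty]
      refine ⟨Groth.L22.Ideals.isEffCartier_top, ?_⟩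
      obtain ⟨u⟩ := Groth.L03.BlowPt.nonempty_idealMod_one (X := X)
      have h0 : ∀ A : X.Modules, ii k A (ClSub.idealMod (1 : X.IdealSheafData)) = 0 := fun A => by
        rw [ii_comm, ii_congr k u A]; exact altT_unit k _
      simp only [defect, h0, mul_zero, Finset.sum_const_zero, sub_self, add_zero]
    | insert w S hw ih =>
      obtain ⟨h1, h2⟩ := ih fun x hx => hS (Finset.mem_insert_of_mem hx)
      have hwT := hS (Finset.mem_insert_self w S)
      have hp := Groth.L03.BlowPt.isEffCartier_pow (hpw w hwT) (e w)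
      rw [Finset.prod_insert hw, Finset.sum_insert hw]
      refine ⟨Groth.L22.Ideals.isEffCartier_mul hp h1, ?_⟩
      obtain ⟨m⟩ := Groth.L03.BlowPt.nonempty_idealMod_mul hp h1
      have hpi := fun n => (Groth.Agent.L19.IdealInvertible.isEffCartier_iff _).2
        (Groth.L03.BlowPt.isEffCartier_pow (hpw w hwT) n)
      have hcongr : ∀ {A B : X.Modules}, (A ≅ B) → defect k σ hPc D A = defect k σ hPc D B := fun {A B} i => by
        simp only [defect, ii_comm k D A, ii_comm k D B, ii_comm k (Hl k σ) A, ii_comm k (Hl k σ) B,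
          fun l => ii_comm k (ClSub.idealMod (excI k σ hPc l)) A,
          fun l => ii_comm k (ClSub.idealMod (excI k σ hPc l)) B, ii_congr k i]
      rw [hcongr m, defect_tensor k hP hPc hσk hσ hdim hD ((Groth.Agent.L19.IdealInvertible.isEffCartier_iff _).2 hp)
        ((Groth.Agent.L19.IdealInvertible.isEffCartier_iff _).2 h1), h2]
      congr 1
      simp only [defect, ii_comm k D (ClSub.idealMod (pt w ^ e w)), ii_comm k (Hl k σ) (ClSub.idealMod (pt w ^ e w)),
        fun l => ii_comm k (ClSub.idealMod (excI k σ hPc l)) (ClSub.idealMod (pt w ^ e w))]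
      have hHi : PicF.IsInvertible (Hl k σ) :=
        Groth.L18.Ample.isInvertible_pullback σ (Groth.L16.ProjTwist.isInvertible_twistProjSpace 2 k 1)
      have hIl := inv_exc k hP hPc hσk hσ hdim
      simp only [ii_idealMod_pow k hd.le (hpw w hwT) hD, ii_idealMod_pow k hd.le (hpw w hwT) hHi,
        fun l => ii_idealMod_pow k hd.le (hpw w hwT) (hIl l) (e w), ii_comm k (ClSub.idealMod (pt w)),
        mul_add, mul_sub, Finset.mul_sum]
      congr 1
      · ring
      · exact Finset.sum_congr rfl fun l _ => by ring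
  have htot : defect k σ hPc D (ClSub.idealMod (∏ w ∈ T, pt w ^ e w)) = 0 := by
    have i : ClSub.idealMod (∏ w ∈ T, pt w ^ e w) ≅ (Scheme.Modules.pullback σ).obj (Twist.twistProjSpace 2 k c) :=
      eqToIso (by rw [← he]) ≪≫ eC.symm ≪≫ (Scheme.Modules.pullback σ).mapIso ec
    have hA := (Groth.Agent.L19.IdealInvertible.isEffCartier_iff _).2 (hsum T subset_rfl).1
    have h0 := defect_line k hP hPc hσk hσ hdim D
    simp only [defect] at h0 ⊢
    have hk : ∀ B : X.Modules, PicF.IsInvertible B → ii k B (ClSub.idealMod (∏ w ∈ T, pt w ^ e w)) =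
        (c : ℚ) * ii k B (Hl k σ) := fun B hB => by
      rw [ii_comm, ii_congr k i B, ii_pull_twist k hσk hdim hB, ii_comm]
    have hHi : PicF.IsInvertible (Hl k σ) :=
      Groth.L18.Ample.isInvertible_pullback σ (Groth.L16.ProjTwist.isInvertible_twistProjSpace 2 k 1)
    rw [hk D hD, hk _ hHi, Finset.sum_congr rfl fun l _ => by
      rw [hk _ (inv_exc k hP hPc hσk hσ hdim l), mul_left_comm], ← Finset.mul_sum]
    linear_combination (c : ℚ) * h0
  rw [(hsum T subset_rfl).2] at htot
  have hyC : y ∈ ((∏ w ∈ T, pt w ^ e w).support : Set X) := by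
    rw [← he, Scheme.IdealSheafData.support_comap]
    show σ y ∈ ((pt (σ y)).support : Set _)
    rw [Groth.L18.support_vanishingIdeal]
    exact subset_closure (Set.mem_singleton _)
  obtain ⟨w, hwT, hyw⟩ := (Groth.L03.BlowPt.mem_support_prod _ _ _).1 hyC
  have he0 : e w ≠ 0 := fun h => by
    rw [h, pow_zero, Scheme.IdealSheafData.one_eq_top] at hyw
    simp at hyw
  have hyw' : y ∈ ((pt w).support : Set X) := by
    rw [Scheme.IdealSheafData.support_pow _ _ he0] at hyw
    exact hyw
  rw [Groth.L18.support_vanishingIdeal] at hyw'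
  have hwy : w = y := eq_of_specializes_top isClosed_closure (hT w hwT).le hy (subset_closure (Set.mem_singleton w))
    (specializes_iff_mem_closure.2 hyw')
  rw [Finset.sum_eq_single w (fun x hx hxw => by
    rcases hTy x hx with h | h
    · exact absurd (h.trans hwy.symm) hxw
    · rw [hexc x (hT x hx) h, mul_zero]) (fun h => absurd hwT h)] at htot
  rcases mul_eq_zero.1 htot with h | h
  · exact absurd (Nat.cast_eq_zero.1 h) he0
  · rwa [hwy] at h

/-- Intersection numbers of a module from its degrees on a line and on the exceptional curves. -/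
theorem ii_span {D A : X.Modules} (hD : PicF.IsInvertible D) (hA : PicF.IsInvertible A) :
    ii k D A = ii k D (Hl k σ) * ii k (Hl k σ) A -
      ∑ l, ii k D (ClSub.idealMod (excI k σ hPc l)) * ii k (ClSub.idealMod (excI k σ hPc l)) A := by
  have hd : topologicalKrullDim X = (2 : ℕ) := hdim.trans Nat.cast_ofNat.symm
  have hreg := Groth.L03.SurfAdj.reg_of_smooth k (X := X)
  haveI := Groth.L21.RR.isNoetherian_of_proper (X := X) k
  suffices h : defect k σ hPc D A = 0 by simp only [defect] at h; linarith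
  have hHi : PicF.IsInvertible (Hl k σ) :=
    Groth.L18.Ample.isInvertible_pullback σ (Groth.L16.ProjTwist.isInvertible_twistProjSpace 2 k 1)
  have hamp : ∀ M : X.Modules, CohB1.IsAmple M → defect k σ hPc D M = 0 := by
    intro M hM
    obtain ⟨n, s, hs, -⟩ := hM.2.2 (genericPoint X)
    have hN := Groth.L18.Ample.isInvertible_tensorPow hM.1 (n + 1)
    obtain ⟨T, hT1, hT⟩ := ii_eq_sum_len k hd.le hN s hs
    have key : ∀ B : X.Modules, PicF.IsInvertible B → ((n + 1 : ℕ) : ℚ) * ii k B M =
        ∑ y ∈ T, (-((Groth.L16.CohSupport.len y (cokernel s)).toNat : ℚ)) * ii k B (ClSub.idealMod (pt y)) := by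
      intro B hB
      rw [ii_comm k B M, ← ii_pow k hd.le hM.1 hB, hT T subset_rfl hT1 B hB]
      refine Finset.sum_congr rfl fun y hy => ?_
      rw [altT_quotMod_eq k hB (pt y) (Groth.L03.BlowPt.inv_curve (k := k) hd hreg (hT1 y hy)), ii_comm k B]
      ring
    have h2 : ((n + 1 : ℕ) : ℚ) * defect k σ hPc D M =
        ∑ y ∈ T, (-((Groth.L16.CohSupport.len y (cokernel s)).toNat : ℚ)) * defect k σ hPc D (ClSub.idealMod (pt y)) := by
      have kI : ∀ l, ((n + 1 : ℕ) : ℚ) * ii k (ClSub.idealMod (excI k σ hPc l)) M = _ := fun l => by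
        obtain ⟨z, -, ez, -, hI, -⟩ := exc_facts k hP hPc hσk hσ hdim l
        exact key _ (ez ▸ hI)
      simp only [defect, mul_add, mul_sub, Finset.mul_sum, Finset.sum_add_distrib, Finset.sum_sub_distrib]
      rw [key D hD, Finset.sum_congr rfl fun l _ => show ((n + 1 : ℕ) : ℚ) *
          (ii k D (ClSub.idealMod (excI k σ hPc l)) * ii k (ClSub.idealMod (excI k σ hPc l)) M) =
          ∑ y ∈ T, ii k D (ClSub.idealMod (excI k σ hPc l)) *
            ((-((Groth.L16.CohSupport.len y (cokernel s)).toNat : ℚ)) *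
              ii k (ClSub.idealMod (excI k σ hPc l)) (ClSub.idealMod (pt y))) by
          rw [mul_left_comm, kI l, Finset.mul_sum],
        mul_left_comm, key _ hHi, Finset.mul_sum, Finset.sum_comm (s := Finset.univ) (t := T)]
      congr 1
      · congr 1
        exact Finset.sum_congr rfl fun y _ => by ring
      · exact Finset.sum_congr rfl fun y _ => Finset.sum_congr rfl fun l _ => by ring
    rw [Finset.sum_eq_zero fun y hy => by rw [defect_curve k hP hPc hσk hσ hdim hD (hT1 y hy), mul_zero]] at h2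
    exact (mul_eq_zero.1 h2).resolve_left (Nat.cast_ne_zero.2 n.succ_ne_zero)
  obtain ⟨A₀, hA₀⟩ := Groth.L03.SurfAmple.exists_ample k X hd hreg
  obtain ⟨n, hn⟩ := Groth.L22.Nef.exists_ample_twist (k := k) hA₀ hA
  have hpow : ∀ m : ℕ, defect k σ hPc D (CohB1.tensorPow A₀ m) = 0 := fun m => by
    have kk : ∀ B : X.Modules, PicF.IsInvertible B → ii k B (CohB1.tensorPow A₀ m) = (m : ℚ) * ii k B A₀ :=
      fun B hB => by rw [ii_comm, ii_pow k hd.le hA₀.1 hB, ii_comm]
    have h0 := hamp A₀ hA₀
    simp only [defect] at h0 ⊢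
    rw [kk D hD, kk _ hHi, Finset.sum_congr rfl fun l _ => by
      rw [kk _ (inv_exc k hP hPc hσk hσ hdim l), mul_left_comm], ← Finset.mul_sum]
    linear_combination (m : ℚ) * h0
  have h := hamp _ hn
  have hm := Groth.L18.Ample.isInvertible_tensorPow hA₀.1 n
  rw [defect_tensor k hP hPc hσk hσ hdim hD hA₀.1 (Groth.L18.GenLoc.isInvertible_tensor hA hm),
    defect_tensor k hP hPc hσk hσ hdim hD hA hm, hamp A₀ hA₀, hpow n] at h
  linarith

end Groth.L03.PlaneProj
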