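import Groth.Agent.L03.PlaneProj.Span
import Groth.Agent.L03.PlaneProj.Push
import Groth.Agent.L03.PlaneProj.Vertical
import Groth.Agent.L03.PlaneProj.Contain

/-!
# Sections on the plane blown up at two points
-/

set_option autoImplicit false
set_option linter.style.haveILetI false
set_option backward.isDefEq.respectTransparency false
set_option linter.unusedSectionVars false

universe u

open CategoryTheory CategoryTheory.Limits AlgebraicGeometry TopologicalSpace
open Groth.L22.Inter Groth.L22.Nef Groth.L22.Big Groth.L03.Euler Groth.L03.SurfNum Groth.L03.BlowPt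
open Groth.L00.Tensor (tensorIso tensorComm tensorUnitLeft tensorUnitRight tensorAssoc)

noncomputable section

namespace Groth.L03.PlaneProj

variable (k : Type u) [Field k] [IsAlgClosed k] {X : Scheme.{u}} [X.Over (Spec (CommRingCat.of k))]
  [IsIntegral X] [IsProper (X ↘ (Spec (CommRingCat.of k)))] [Smooth (X ↘ (Spec (CommRingCat.of k)))]
  {σ : X ⟶ CohB1.ProjSpace 2 k}

section RR

variable {r : ℕ} {P : Fin r → CohB1.ProjSpace 2 k}
  (hP : Function.Injective P) (hPc : ∀ i, IsClosed ({P i} : Set (CohB1.ProjSpace 2 k)))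
  {hZ : IsClosed (Set.range P)}
  (hσk : σ ≫ CohB1.ProjSpace.toSpec 2 k = X ↘ (Spec (CommRingCat.of k)))
  (hσ : BlowUp.IsBlowUp σ (Scheme.IdealSheafData.vanishingIdeal ⟨Set.range P, hZ⟩))
  (hdim : topologicalKrullDim X = 2)

include hP hσk hσ hdim

/-- Riemann–Roch from the degrees on a line and on the exceptional curves. -/
theorem euler_eq {D : X.Modules} (hD : PicF.IsInvertible D) {h : ℚ} {c : Fin r → ℚ}
    (hh : ii k D (Hl k σ) = h) (hc : ∀ l, ii k D (ClSub.idealMod (excI k σ hPc l)) = -c l) :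
    2 * (Curv2.euler k X D : ℚ) = h ^ 2 + 3 * h - ∑ l, (c l ^ 2 + c l) + 2 := by
  have hd : topologicalKrullDim X = (2 : ℕ) := hdim.trans Nat.cast_ofNat.symm
  have hreg := Groth.L03.SurfAdj.reg_of_smooth k (X := X)
  haveI := Groth.L21.RR.isNoetherian_of_proper (X := X) k
  haveI : SmoothOfRelativeDimension 2 (X ↘ Spec (CommRingCat.of k)) :=
    Groth.L16.SmoothSection.smoothOfRelativeDimension_dim _ 2 hd
  obtain ⟨W, hW, -⟩ := Groth.L22.Adjunction.exists_isExtPow
    (Groth.L02.Canon.isFinLocFreeOfRank_omega (f := X ↘ Spec (CommRingCat.of k)) 2)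
  obtain ⟨hχ, hWH⟩ := plane_invariants k hPc hσk hσ hdim hW
  obtain ⟨hWi, -, -, hRR⟩ := Groth.L03.SurfAdj.canonical k hdim hreg hW
  have hIW : ∀ l, ii k (ClSub.idealMod (excI k σ hPc l)) W = 1 := fun l => by
    obtain ⟨y, -, ey, -, hI, hχl, -, hyy⟩ := exc_facts k hP hPc hσk hσ hdim l
    have h := Groth.L03.SurfAdj.adj_num k hdim hreg hW _ hI
    rw [hχl, hyy] at h
    push_cast at h
    rw [ey]
    linarith
  have h1 := ii_span k hP hPc hσk hσ hdim hD hD
  have h2 := ii_span k hP hPc hσk hσ hdim hD hWi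
  rw [hh, ii_comm k (Hl k σ) D, hh, Finset.sum_congr rfl fun l _ => by
    rw [ii_comm k (ClSub.idealMod (excI k σ hPc l)) D, hc l]] at h1
  rw [hh, ii_comm k (Hl k σ) W, hWH, Finset.sum_congr rfl fun l _ => by rw [hIW l, hc l]] at h2
  rw [hRR D hD, h1, h2, hχ]
  simp only [neg_mul_neg, mul_one, Finset.sum_neg_distrib, Finset.sum_add_distrib, pow_two]
  push_cast
  ring

end RR

variable {P : Fin 2 → CohB1.ProjSpace 2 k}
  (hP : Function.Injective P) (hPc : ∀ i, IsClosed ({P i} : Set (CohB1.ProjSpace 2 k)))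
  {hZ : IsClosed (Set.range P)}
  (hσk : σ ≫ CohB1.ProjSpace.toSpec 2 k = X ↘ (Spec (CommRingCat.of k)))
  (hσ : BlowUp.IsBlowUp σ (Scheme.IdealSheafData.vanishingIdeal ⟨Set.range P, hZ⟩))
  (hdim : topologicalKrullDim X = 2)
  (j i : Fin 2) (hij : i ≠ j) (π : X ⟶ CohB1.ProjSpace 1 k) [π.IsOver (Spec (CommRingCat.of k))]
  [Surjective π]
  (hπ : Nonempty (((Scheme.Modules.pullback π).obj (Twist.twistProjSpace 1 k 1)) ≅
    CohB1.tensorMod (Hl k σ) (ClSub.idealMod (excI k σ hPc j))))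

omit [IsAlgClosed k] in
/-- Three of two points are never distinct. -/
theorem no_three (a b c : Fin 2) (h : a ≠ b) (h' : b ≠ c) (h'' : a ≠ c) : False := by
  omega

/-- Numbers of a module on the two points' blow-up. -/
def HasNum (σ : X ⟶ CohB1.ProjSpace 2 k) (hPc : ∀ i, IsClosed ({P i} : Set (CohB1.ProjSpace 2 k)))
    (i j : Fin 2) (D : X.Modules) (h ci cj : ℚ) : Prop :=
  PicF.IsInvertible D ∧ ii k D (Hl k σ) = h ∧ ii k D (ClSub.idealMod (excI k σ hPc i)) = -ci ∧
    ii k D (ClSub.idealMod (excI k σ hPc j)) = -cj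

include hP hσk hσ hdim hij

/-- The exceptional curves among themselves. -/
theorem exc_table :
    PicF.IsInvertible (ClSub.idealMod (excI k σ hPc i)) ∧ PicF.IsInvertible (ClSub.idealMod (excI k σ hPc j)) ∧
      ii k (ClSub.idealMod (excI k σ hPc i)) (Hl k σ) = 0 ∧ ii k (ClSub.idealMod (excI k σ hPc j)) (Hl k σ) = 0 ∧
      ii k (ClSub.idealMod (excI k σ hPc i)) (ClSub.idealMod (excI k σ hPc i)) = -1 ∧
      ii k (ClSub.idealMod (excI k σ hPc j)) (ClSub.idealMod (excI k σ hPc j)) = -1 ∧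
      ii k (ClSub.idealMod (excI k σ hPc i)) (ClSub.idealMod (excI k σ hPc j)) = 0 ∧
      ii k (ClSub.idealMod (excI k σ hPc j)) (ClSub.idealMod (excI k σ hPc i)) = 0 := by
  obtain ⟨a, -, ea, -, ha, -, haH, haa⟩ := exc_facts k hP hPc hσk hσ hdim i
  obtain ⟨b, -, eb, -, hb, -, hbH, hbb⟩ := exc_facts k hP hPc hσk hσ hdim j
  exact ⟨ea ▸ ha, eb ▸ hb, ea ▸ haH, eb ▸ hbH, ea ▸ haa, eb ▸ hbb,
    exc_disjoint k hP hPc hσk hσ hdim hij, exc_disjoint k hP hPc hσk hσ hdim hij.symm⟩

omit hP hσk hσ hdim in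
/-- The two indices exhaust the type. -/
theorem sum_two (f : Fin 2 → ℚ) : ∑ l, f l = f i + f j := by
  rw [Fin.sum_univ_two]
  fin_cases i <;> fin_cases j <;> simp_all [add_comm]

/-- Riemann–Roch for the two points. -/
theorem euler_num {D : X.Modules} {h ci cj : ℚ} (hD : HasNum k σ hPc i j D h ci cj) :
    2 * (Curv2.euler k X D : ℚ) = h ^ 2 + 3 * h - (ci ^ 2 + ci) - (cj ^ 2 + cj) + 2 := by
  obtain ⟨hDi, hh, hci, hcj⟩ := hD
  have h1 := euler_eq k hP hPc hσk hσ hdim hDi (c := fun l => -ii k D (ClSub.idealMod (excI k σ hPc l))) hh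
    fun l => (neg_neg _).symm
  rw [h1, sum_two j i hij, hci, hcj]
  ring

/-- No sections against a line of negative degree. -/
theorem h0_eq_zero_of_neg {D : X.Modules} {h ci cj : ℚ} (hD : HasNum k σ hPc i j D h ci cj) (hneg : h < 0) :
    Module.finrank k (Coh.HH X D 0) = 0 := by
  haveI : Subsingleton (Coh.HH X D 0) := not_nontrivial_iff_subsingleton.1 fun hn => by
    have h1 := ii_line_nonneg k (σ := σ) (hdim.trans Nat.cast_ofNat.symm).le hD.1 hn
    have h2 := hD.2.1
    linarith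
  exact Module.finrank_zero_of_subsingleton

/-- Restriction to the centre of projection. -/
theorem step_centre {D : X.Modules} {h ci cj : ℚ} (hD : HasNum k σ hPc i j D h ci cj) (hcj : cj < 0) :
    HasNum k σ hPc i j (CohB1.tensorMod D (ClSub.idealMod (excI k σ hPc j))) h ci (cj + 1) ∧
      Module.finrank k (Coh.HH X (CohB1.tensorMod D (ClSub.idealMod (excI k σ hPc j))) 0) =
        Module.finrank k (Coh.HH X D 0) := by
  have hd : topologicalKrullDim X = (2 : ℕ) := hdim.trans Nat.cast_ofNat.symm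
  obtain ⟨hDi, hh, hci, hcjD⟩ := hD
  obtain ⟨hi, hj, hiH, hjH, hii, hjj, hoij, hoji⟩ := exc_table k hP hPc hσk hσ hdim j i hij
  refine ⟨⟨Groth.L18.GenLoc.isInvertible_tensor hDi hj, ?_, ?_, ?_⟩, ?_⟩
  · rw [ii_tensor k hd.le hDi hj (Groth.L18.Ample.isInvertible_pullback σ
      (Groth.L16.ProjTwist.isInvertible_twistProjSpace 2 k 1)), hh, hjH, add_zero]
  · rw [ii_tensor k hd.le hDi hj hi, hci, hoji, add_zero]
  · rw [ii_tensor k hd.le hDi hj hj, hcjD, hjj]; ring
  · obtain ⟨y, hy, ey, -⟩ := exc_facts k hP hPc hσk hσ hdim j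
    rw [ey] at hcjD hj ⊢
    haveI := isIntegral_pt y
    refine finrank_h0_restrict k (pt y) (by rw [Groth.L18.support_vanishingIdeal]; exact hy.trans Nat.cast_one) hDi ?_
    have h1 := degOn_cast k hj hDi
    rw [ii_comm, hcjD, neg_neg] at h1
    exact_mod_cast (show ((degOn k (pt y) D : ℤ) : ℚ) < ((0 : ℤ) : ℚ) by rw [h1]; exact_mod_cast hcj)

include hπ

/-- The strict transform of the line through the two points. -/
theorem exists_joining_line :
    ∃ y : X, topologicalKrullDim (closure ({y} : Set X)) = (1 : ℕ) ∧ PicF.IsInvertible (ClSub.idealMod (pt y)) ∧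
      Curv2.euler k X (ClSub.quotMod (pt y)) = 1 ∧
      ii k (ClSub.idealMod (pt y)) (Hl k σ) = -1 ∧
      ii k (ClSub.idealMod (pt y)) (ClSub.idealMod (excI k σ hPc i)) = 1 ∧
      ii k (ClSub.idealMod (pt y)) (ClSub.idealMod (excI k σ hPc j)) = 1 := by
  have hd : topologicalKrullDim X = (2 : ℕ) := hdim.trans Nat.cast_ofNat.symm
  have hreg := Groth.L03.SurfAdj.reg_of_smooth k (X := X)
  haveI := Groth.L21.RR.isNoetherian_of_proper (X := X) k
  letI : (CohB1.ProjSpace 1 k).Over (Spec (CommRingCat.of k)) := ⟨CohB1.ProjSpace.toSpec 1 k⟩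
  haveI : IsProper (CohB1.ProjSpace 1 k ↘ Spec (CommRingCat.of k)) := Groth.L16.ProjSpace.isProper_toSpec 1 k
  haveI : IsIntegral (CohB1.ProjSpace 1 k) := Groth.L16.ProjSpace.isIntegral 1 k
  haveI : (CohB1.ProjSpace 1 k).IsSeparated :=
    ⟨by rw [← terminal.comp_from (CohB1.ProjSpace 1 k ↘ Spec (CommRingCat.of k))]; infer_instance⟩
  haveI : IsProper π := by
    haveI : IsProper (π ≫ (CohB1.ProjSpace 1 k ↘ Spec (CommRingCat.of k))) := by rw [comp_over]; infer_instance
    exact IsProper.of_comp π (CohB1.ProjSpace 1 k ↘ Spec (CommRingCat.of k))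
  obtain ⟨z, hz, ez, -, hzI, -, hzH, -⟩ := exc_facts k hP hPc hσk hσ hdim i
  have hA : CohB1.IsAmple (Twist.twistProjSpace 1 k 1) :=
    (Groth.L16.ProjSpace.isAmple_twistProjSpace_iff (n := 1) (R := k) le_rfl 1).2 one_pos
  obtain ⟨hi, -, hiH, -, -, -, hoij, hoji⟩ := exc_table k hP hPc hσk hσ hdim j i hij
  have hq : IsClosed ({π z} : Set (CohB1.ProjSpace 1 k)) := by
    refine (degree_ample_pullback k π hd hA hz hzI).2 ?_
    rw [ii_comm, ii_pull_one k hP hPc hσk hσ hdim j π hπ hzI, ii_comm k (Hl k σ), hzH, ← ez, hoji, add_zero]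
  obtain ⟨y₀, hy, hF⟩ := fibre_shape k hP hPc hσk hσ hdim j π hπ (fun a b c h h' h'' => (no_three a b c h h' h'').elim) hq
  have hyI := Groth.L03.BlowPt.inv_curve (k := k) hd hreg hy.dim
  have hH : PicF.IsInvertible (Hl k σ) :=
    Groth.L18.Ample.isInvertible_pullback σ (Groth.L16.ProjTwist.isInvertible_twistProjSpace 2 k 1)
  refine ⟨y₀, hy.dim, hyI, hy.euler, hy.line, ?_, hy.centre⟩
  rcases hF with hF | ⟨l, hlj, -, hl⟩
  · exfalso
    have h1 : z ∈ ((pt y₀).support : Set X) := by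
      rw [← hF, (fibre_ideal_facts k π hq).2.1]; rfl
    rw [Groth.L18.support_vanishingIdeal] at h1
    have h2 : y₀ = z := eq_of_specializes_top isClosed_closure hy.dim.le hz (subset_closure (Set.mem_singleton y₀))
      (specializes_iff_mem_closure.2 h1)
    have h3 := hy.line
    rw [h2, hzH] at h3
    norm_num at h3
  · rwa [show l = i by omega] at hl

/-- Restriction to the joining line. -/
theorem step_line {D : X.Modules} {h ci cj : ℚ} (hD : HasNum k σ hPc i j D h ci cj) :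
    ∃ y : X, topologicalKrullDim (closure ({y} : Set X)) = (1 : ℕ) ∧ Curv2.euler k X (ClSub.quotMod (pt y)) = 1 ∧
      HasNum k σ hPc i j (CohB1.tensorMod D (ClSub.idealMod (pt y))) (h - 1) (ci - 1) (cj - 1) ∧
      (degOn k (pt y) D : ℚ) = h - ci - cj := by
  have hd : topologicalKrullDim X = (2 : ℕ) := hdim.trans Nat.cast_ofNat.symm
  obtain ⟨y, hy, hyI, hyχ, hyH, hyi, hyj⟩ := exists_joining_line k hP hPc hσk hσ hdim j i hij π hπ
  obtain ⟨hDi, hh, hci, hcj⟩ := hD
  obtain ⟨hi, hj, -⟩ := exc_table k hP hPc hσk hσ hdim j i hij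
  have hH : PicF.IsInvertible (Hl k σ) :=
    Groth.L18.Ample.isInvertible_pullback σ (Groth.L16.ProjTwist.isInvertible_twistProjSpace 2 k 1)
  refine ⟨y, hy, hyχ, ⟨Groth.L18.GenLoc.isInvertible_tensor hDi hyI, ?_, ?_, ?_⟩, ?_⟩
  · rw [ii_tensor k hd.le hDi hyI hH, hh, hyH]; ring
  · rw [ii_tensor k hd.le hDi hyI hi, hci, hyi]; ring
  · rw [ii_tensor k hd.le hDi hyI hj, hcj, hyj]; ring
  · rw [degOn_cast k hyI hDi, ii_comm, ii_span k hP hPc hσk hσ hdim hDi hyI, sum_two j i hij, hh, hci, hcj,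
      ii_comm k (Hl k σ), hyH, ii_comm k (ClSub.idealMod (excI k σ hPc i)), hyi,
      ii_comm k (ClSub.idealMod (excI k σ hPc j)), hyj]
    ring

/-- Classes of degree `m - 1` with multiplicity `m` at a point have no sections. -/
theorem h0_eq_zero_mult : ∀ (m : ℕ) {D : X.Modules}, HasNum k σ hPc i j D ((m : ℚ) - 1) m (-1) →
    Module.finrank k (Coh.HH X D 0) = 0
  | 0, D, hD => h0_eq_zero_of_neg k hP hPc hσk hσ hdim j i hij hD (by norm_num)
  | m + 1, D, hD => by
    obtain ⟨hD', e⟩ := step_centre k hP hPc hσk hσ hdim j i hij hD (by norm_num)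
    obtain ⟨y, hy, -, hD'', hdeg⟩ := step_line k hP hPc hσk hσ hdim j i hij π hπ hD'
    haveI := isIntegral_pt y
    rw [← e, ← finrank_h0_restrict k (pt y) (by rw [Groth.L18.support_vanishingIdeal]; exact hy.trans Nat.cast_one)
      hD'.1 (by
        have : ((degOn k (pt y) (CohB1.tensorMod D (ClSub.idealMod (excI k σ hPc j))) : ℤ) : ℚ) < ((0 : ℤ) : ℚ) := by
          rw [hdeg]; push_cast; linarith
        exact_mod_cast this)]
    refine h0_eq_zero_mult m ?_
    push_cast at hD''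
    simpa [add_sub_cancel_right] using hD''

/-- Those classes have no first cohomology either. -/
theorem h1_zero_mult {m : ℕ} {D : X.Modules} (hD : HasNum k σ hPc i j D ((m : ℚ) - 1) m (-1)) :
    Subsingleton (Coh.HH X D 1) := by
  have hd : topologicalKrullDim X = (2 : ℕ) := hdim.trans Nat.cast_ofNat.symm
  have h0 := h0_eq_zero_mult k hP hPc hσk hσ hdim j i hij π hπ m hD
  have hm : (0 : ℚ) ≤ m := Nat.cast_nonneg m
  haveI h2 := h2_zero k hPc hσk hσ hdim hD.1 (by rw [hD.2.1]; linarith)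
  have hχ := euler_num k hP hPc hσk hσ hdim j i hij hD
  have h3 := Groth.L03.SurfAdj.euler_three k hd D
  rw [h0, Module.finrank_zero_of_subsingleton (M := Coh.HH X D 2)] at h3
  rw [h3] at hχ
  push_cast at hχ
  haveI := Groth.L21.RR.isNoetherian_of_proper (X := X) k
  haveI := Groth.L16.ProperFinite.finite_HH k (Groth.L18.Ample.isCoh_of_isInvertible hD.1) 1
  have h4 : ((Module.finrank k (Coh.HH X D 1) : ℕ) : ℚ) = ((0 : ℕ) : ℚ) := by push_cast; linarith
  exact Module.finrank_zero_iff.1 (Nat.cast_inj.1 h4)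

end Groth.L03.PlaneProj
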