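import Groth.Agent.L03.PlaneProj.TwoPoints
import Groth.Agent.L03.PlaneProj.Line
import Groth.Agent.L03.SurfLeray.Twists
import Groth.Agent.L03.SurfLeray.EulerTwist
import Mathlib.Data.Fin.Tuple.Sort

/-!
# Direct images on the plane blown up at two points
-/

set_option autoImplicit false
set_option linter.style.haveILetI false
set_option backward.isDefEq.respectTransparency false
set_option linter.unusedSectionVars false

universe u v w

open CategoryTheory CategoryTheory.Limits AlgebraicGeometry TopologicalSpace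
open Groth.L22.Inter Groth.L22.Nef Groth.L22.Big Groth.L03.Euler Groth.L03.SurfNum Groth.L03.BlowPt
open Groth.L00.Tensor (tensorIso tensorComm tensorUnitLeft tensorUnitRight tensorAssoc)
open Groth.L21.P1 (sumO h_sumO h_O)
open Groth.L21.RR (h)
open Groth.L22.Reg (O')

noncomputable section

namespace Groth.L03.PlaneProj

attribute [local instance] preservesBinaryBiproducts_of_preservesBinaryCoproducts

/-- A finite sum with its last two summands apart. -/
def splitTwo {C : Type w} [Category.{v} C] [HasZeroMorphisms C] {n : ℕ} (F : Fin (n + 2) → C) [HasBiproduct F]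
    (G : Fin n → C) [HasColimitsOfShape (Discrete (Fin n)) C] [HasBinaryCoproducts C] {A B : C}
    (a : F (Fin.last (n + 1)) ≅ A) (b : F (Fin.last n).castSucc ≅ B)
    (c : ∀ i : Fin n, F i.castSucc.castSucc ≅ G i) :
    (⨁ F) ≅ (∐ G) ⨿ (B ⨿ A) where
  hom := biproduct.desc (Fin.lastCases (motive := fun l => F l ⟶ (∐ G) ⨿ (B ⨿ A)) (a.hom ≫ coprod.inr ≫ coprod.inr)
    (Fin.lastCases (motive := fun l : Fin (n + 1) => F l.castSucc ⟶ (∐ G) ⨿ (B ⨿ A))
      (b.hom ≫ coprod.inl ≫ coprod.inr) (fun i => (c i).hom ≫ Sigma.ι G i ≫ coprod.inl)))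
  inv := coprod.desc (Sigma.desc fun i => (c i).inv ≫ biproduct.ι F i.castSucc.castSucc)
    (coprod.desc (b.inv ≫ biproduct.ι F (Fin.last n).castSucc) (a.inv ≫ biproduct.ι F (Fin.last (n + 1))))
  hom_inv_id := by
    refine biproduct.hom_ext' _ _ fun l => ?_
    rw [biproduct.ι_desc_assoc, Category.comp_id]
    refine Fin.lastCases ?_ (fun l' => Fin.lastCases ?_ (fun i => ?_) l') l
    · simp
    · simp
    · simp
  inv_hom_id := by
    refine coprod.hom_ext (Sigma.hom_ext _ _ fun i => ?_) (coprod.hom_ext ?_ ?_)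
    · simp
    · simp
    · simp

/-- A monotone sequence is determined by how many entries reach each level. -/
theorem degrees_eq {n : ℕ} (g : Fin (n + 2) → ℤ) (hg : Monotone g)
    (hN : ∀ t : ℕ, 1 ≤ t → (Finset.univ.filter fun x => (t : ℤ) ≤ g x).card = if t ≤ n + 1 then n + 2 - t + 1 else 0)
    (x : Fin (n + 2)) : g x = if (x : ℕ) ≤ n then ((x : ℕ) : ℤ) + 1 else ((n + 1 : ℕ) : ℤ) := by
  have hup : ∀ t : ℕ, 1 ≤ t → t ≤ n + 1 → ((t : ℤ) ≤ g x ↔ t - 1 ≤ (x : ℕ)) := by
    intro t ht ht'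
    have h := hN t ht
    rw [if_pos ht'] at h
    constructor
    · intro hx
      have hsub : Finset.Ici x ⊆ Finset.univ.filter fun y => (t : ℤ) ≤ g y := fun y hy =>
        Finset.mem_filter.2 ⟨Finset.mem_univ y, hx.trans (hg (Finset.mem_Ici.1 hy))⟩
      have := Finset.card_le_card hsub
      rw [h, Fin.card_Ici] at this
      omega
    · intro hx
      by_contra hlt
      have hsub : (Finset.univ.filter fun y => (t : ℤ) ≤ g y) ⊆ Finset.Ioi x := fun y hy =>
        Finset.mem_Ioi.2 (lt_of_not_ge fun hle => hlt ((Finset.mem_filter.1 hy).2.trans (hg hle)))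
      have := Finset.card_le_card hsub
      rw [h, Fin.card_Ioi] at this
      omega
  have htop : ¬ ((n + 2 : ℕ) : ℤ) ≤ g x := fun hle => by
    have h := hN (n + 2) (by omega)
    rw [if_neg (by omega)] at h
    exact Finset.notMem_empty x (Finset.card_eq_zero.1 h ▸ Finset.mem_filter.2 ⟨Finset.mem_univ x, hle⟩)
  have hx := x.isLt
  split_ifs with hxn
  · have h1 := (hup (x + 1) (by omega) (by omega)).2 (by omega)
    push_cast at h1
    by_cases hxe : (x : ℕ) = n
    · push_cast at htop; omega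
    · have h2 := hup (x + 2) (by omega) (by omega)
      push_cast at h2
      omega
  · have h1 := (hup (n + 1) (by omega) le_rfl).2 (by omega)
    push_cast at h1 htop ⊢
    omega

/-- Counting a level from the sections of two twists. -/
theorem card_level {r : ℕ} (d : Fin r → ℤ) (t : ℕ) :
    ((Finset.univ.filter fun l => (t : ℤ) ≤ d l).card : ℤ) =
      ((∑ l, (d l - t + 1).toNat : ℕ) : ℤ) - ((∑ l, (d l - (t + 1 : ℕ) + 1).toNat : ℕ) : ℤ) := by
  rw [Finset.card_filter]
  push_cast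
  rw [← Finset.sum_sub_distrib]
  exact Finset.sum_congr rfl fun l _ => by split_ifs with h <;> omega

variable (k : Type u) [Field k] [IsAlgClosed k] {X : Scheme.{u}} [X.Over (Spec (CommRingCat.of k))]
  [IsIntegral X] [IsProper (X ↘ (Spec (CommRingCat.of k)))] [Smooth (X ↘ (Spec (CommRingCat.of k)))]
  [HasInjectiveResolutions X.Modules]
  {σ : X ⟶ CohB1.ProjSpace 2 k} {P : Fin 2 → CohB1.ProjSpace 2 k}
  (hP : Function.Injective P) (hPc : ∀ i, IsClosed ({P i} : Set (CohB1.ProjSpace 2 k)))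
  {hZ : IsClosed (Set.range P)}
  (hσk : σ ≫ CohB1.ProjSpace.toSpec 2 k = X ↘ (Spec (CommRingCat.of k)))
  (hσ : BlowUp.IsBlowUp σ (Scheme.IdealSheafData.vanishingIdeal ⟨Set.range P, hZ⟩))
  (hdim : topologicalKrullDim X = 2)
  (j i : Fin 2) (hij : i ≠ j) (π : X ⟶ CohB1.ProjSpace 1 k) [π.IsOver (Spec (CommRingCat.of k))]
  [Surjective π]
  (hπ : Nonempty (((Scheme.Modules.pullback π).obj (Twist.twistProjSpace 1 k 1)) ≅
    CohB1.tensorMod (Hl k σ) (ClSub.idealMod (excI k σ hPc j))))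

include hdim in
/-- Pulled back twists from the line, numerically. -/
theorem ii_pi_twist {A : X.Modules} (hA : PicF.IsInvertible A) (c : ℤ) :
    ii k ((Scheme.Modules.pullback π).obj (Twist.twistProjSpace 1 k c)) A =
      (c : ℚ) * ii k ((Scheme.Modules.pullback π).obj (Twist.twistProjSpace 1 k 1)) A := by
  have hd : topologicalKrullDim X = (2 : ℕ) := hdim.trans Nat.cast_ofNat.symm
  have hO := fun c : ℤ => Groth.L18.Ample.isInvertible_pullback π (Groth.L16.ProjTwist.isInvertible_twistProjSpace 1 k c)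
  have hstep : ∀ c : ℤ, ii k ((Scheme.Modules.pullback π).obj (Twist.twistProjSpace 1 k (c + 1))) A =
      ii k ((Scheme.Modules.pullback π).obj (Twist.twistProjSpace 1 k c)) A +
        ii k ((Scheme.Modules.pullback π).obj (Twist.twistProjSpace 1 k 1)) A := fun c => by
    obtain ⟨a⟩ := Groth.L22.Reg.nonempty_O_add (n := 1) (R := k) (show c + 1 = c + 1 from rfl)
    have e := Groth.L29.DC.PullTensor.pullTensor π (Twist.twistProjSpace 1 k c) (Twist.twistProjSpace 1 k 1) ≪≫
      (Scheme.Modules.pullback π).mapIso a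
    rw [← ii_congr k e A, ii_tensor k hd.le (hO c) (hO 1) hA]
  induction c using Int.induction_on with
  | zero =>
    obtain ⟨z⟩ := Groth.L22.Reg.nonempty_O_zero 1 k
    let e : (Scheme.Modules.pullback π).obj (Twist.twistProjSpace 1 k 0) ≅ Coh.structureModule X :=
      (Scheme.Modules.pullback π).mapIso z ≪≫ Groth.L29.LocFree.pullbackUnitIso π
    rw [ii_congr k e A, Int.cast_zero, zero_mul]
    exact altT_unit k _
  | succ n ih => rw [hstep, ih]; push_cast; ring
  | pred n ih =>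
    have h := hstep (-(n : ℤ) - 1)
    rw [sub_add_cancel, ih] at h
    push_cast at h ⊢
    linarith

include hP hσk hσ hdim hij hπ

/-- Twisting by a multiple of the fibre class. -/
theorem hasNum_twist {D : X.Modules} {h ci cj : ℚ} (hD : HasNum k σ hPc i j D h ci cj) (c : ℤ) :
    HasNum k σ hPc i j (CohB1.tensorMod D ((Scheme.Modules.pullback π).obj (Twist.twistProjSpace 1 k c)))
      (h + c) ci (cj + c) := by
  have hd : topologicalKrullDim X = (2 : ℕ) := hdim.trans Nat.cast_ofNat.symm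
  obtain ⟨hDi, hh, hci, hcj⟩ := hD
  obtain ⟨hi, hj, hiH, hjH, -, hjj, -, hoji⟩ := exc_table k hP hPc hσk hσ hdim j i hij
  have hH : PicF.IsInvertible (Hl k σ) :=
    Groth.L18.Ample.isInvertible_pullback σ (Groth.L16.ProjTwist.isInvertible_twistProjSpace 2 k 1)
  have hc := Groth.L18.Ample.isInvertible_pullback π (Groth.L16.ProjTwist.isInvertible_twistProjSpace 1 k c)
  refine ⟨Groth.L18.GenLoc.isInvertible_tensor hDi hc, ?_, ?_, ?_⟩
  · rw [ii_tensor k hd.le hDi hc hH, hh, ii_pi_twist k hdim π hH, ii_pull_one k hP hPc hσk hσ hdim j π hπ hH,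
      ii_line_line k hPc hσk hσ hdim, hjH]
    ring
  · rw [ii_tensor k hd.le hDi hc hi, hci, ii_pi_twist k hdim π hi, ii_pull_one k hP hPc hσk hσ hdim j π hπ hi,
      ii_comm k (Hl k σ), hiH, hoji]
    ring
  · rw [ii_tensor k hd.le hDi hc hj, hcj, ii_pi_twist k hdim π hj, ii_pull_one k hP hPc hσk hσ hdim j π hπ hj,
      ii_comm k (Hl k σ), hjH, hjj]
    ring

/-- The good-degree condition from the numbers. -/
theorem goodDeg {D : X.Modules} {h ci cj : ℤ} (hD : HasNum k σ hPc i j D h ci cj) (h1 : ci + cj ≤ h)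
    (h2 : 2 * cj ≤ h) (h3 : -1 ≤ ci) (h4 : -1 ≤ cj) :
    GoodDeg k hPc j (σ := σ) D ∧ FGA.intNum k X 2 ![D, Hl k σ] (Coh.structureModule X) = h ∧
      degOn k (excI k σ hPc j) D = cj := by
  have hd : topologicalKrullDim X = (2 : ℕ) := hdim.trans Nat.cast_ofNat.symm
  obtain ⟨hDi, hh, hci, hcj⟩ := hD
  have hH : FGA.intNum k X 2 ![D, Hl k σ] (Coh.structureModule X) = h := by
    have : ((FGA.intNum k X 2 ![D, Hl k σ] (Coh.structureModule X) : ℤ) : ℚ) = ((h : ℤ) : ℚ) := by
      rw [intNum_eq_ii k hd.le, hh]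
    exact_mod_cast this
  have hdi : degOn k (excI k σ hPc i) D = ci := by
    have := degOn_exc k hP hPc hσk hσ hdim hDi i
    rw [hci] at this
    exact_mod_cast (neg_inj.1 this).symm
  have hdj : degOn k (excI k σ hPc j) D = cj := by
    have := degOn_exc k hP hPc hσk hσ hdim hDi j
    rw [hcj] at this
    exact_mod_cast (neg_inj.1 this).symm
  refine ⟨fun l => ?_, hH, hdj⟩
  rcases (show l = i ∨ l = j by omega) with rfl | rfl
  · rw [hdi, hdj, hH]; omega
  · rw [hdj, hH]; omega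

/-- Numbers with degree equal to the sum of the two multiplicities. -/
theorem push_of_balanced {L : X.Modules} {m n : ℕ} (hL : HasNum k σ hPc i j L ((m : ℚ) + n) m n) :
    Nonempty ((Coh.push π).obj L ≅ ∐ fun _ : Fin (m + 1) => Twist.twistProjSpace 1 k (n : ℤ)) := by
  classical
  have hd : topologicalKrullDim X = (2 : ℕ) := hdim.trans Nat.cast_ofNat.symm
  haveI := Groth.L21.RR.isNoetherian_of_proper (X := X) k
  letI : (CohB1.ProjSpace 1 k).Over (Spec (CommRingCat.of k)) := ⟨CohB1.ProjSpace.toSpec 1 k⟩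
  haveI : IsProper (CohB1.ProjSpace 1 k ↘ Spec (CommRingCat.of k)) := Groth.L16.ProjSpace.isProper_toSpec 1 k
  haveI : Smooth (CohB1.ProjSpace 1 k ↘ Spec (CommRingCat.of k)) :=
    inferInstanceAs (Smooth (CohB1.ProjSpace.toSpec 1 k))
  haveI : IsIntegral (CohB1.ProjSpace 1 k) := Groth.L16.ProjSpace.isIntegral 1 k
  have hdC : topologicalKrullDim (CohB1.ProjSpace 1 k) = 1 :=
    (Groth.L16.ProjSpace.topologicalKrullDim_eq_of_field 1 k).trans Nat.cast_one
  set c : ℤ := -((n : ℤ) + 1) with hc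
  set D := CohB1.tensorMod L ((Scheme.Modules.pullback π).obj (Twist.twistProjSpace 1 k c))
  have hD : HasNum k σ hPc i j D ((m : ℚ) - 1) m (-1) := by
    have := hasNum_twist k hP hPc hσk hσ hdim j i hij π hπ hL c
    have e1 : (m : ℚ) + n + (c : ℚ) = m - 1 := by rw [hc]; push_cast; ring
    have e2 : (n : ℚ) + (c : ℚ) = -1 := by rw [hc]; push_cast; ring
    rwa [e1, e2] at this
  obtain ⟨hgood, hH, hdj⟩ := goodDeg k hP hPc hσk hσ hdim j i hij π hπ (h := (m : ℤ) - 1) (ci := m) (cj := -1)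
    (by simpa using hD) (by omega) (by omega) (by omega) le_rfl
  obtain ⟨-, hfree⟩ := push_facts k hP hPc hσk hσ hdim j π hπ
    (fun a b c h h' h'' => (no_three a b c h h' h'').elim) hD.1 hgood
  rw [hH, hdj, show ((m : ℤ) - 1 - -1 + 1).toNat = m + 1 by omega] at hfree
  have h0 : h k 0 ((Coh.push π).obj D) = 0 := by
    obtain ⟨q⟩ := Groth.L03.SurfFib.RelCanRank.nonempty_h0_push k π D
    exact q.finrank_eq.trans (h0_eq_zero_mult k hP hPc hσk hσ hdim j i hij π hπ m hD)
  have h1 : h k 1 ((Coh.push π).obj D) = 0 := by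
    have h := Groth.L03.SurfLeray.h1_eq k hdC π hD.1
    haveI := h1_zero_mult k hP hPc hσk hσ hdim j i hij π hπ hD
    rw [Module.finrank_zero_of_subsingleton (M := Coh.HH X D 1)] at h
    show Module.finrank k (Coh.HH (CohB1.ProjSpace 1 k) ((Scheme.Modules.pushforward π).obj D) 1) = 0
    omega
  obtain ⟨d, hd1, ⟨e⟩, e0, -⟩ := exists_degrees hfree h1
  have hall : ∀ l, d l = -1 := fun l => by
    rw [h0] at e0
    have := (Finset.sum_eq_zero_iff_of_nonneg fun x _ => by have := hd1 x; omega).1 e0.symm l (Finset.mem_univ l)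
    omega
  obtain ⟨eS⟩ := Groth.L03.SurfFib.nonempty_sumO_tensor (k := k) d ((n : ℤ) + 1)
  obtain ⟨ep⟩ := Groth.L03.SurfLeray.nonempty_push_twist k hdC π D
    (Groth.L16.ProjTwist.isInvertible_twistProjSpace 1 k ((n : ℤ) + 1))
  obtain ⟨a⟩ := Groth.L22.Reg.nonempty_O_add (n := 1) (R := k) (show c + ((n : ℤ) + 1) = 0 by rw [hc]; ring)
  obtain ⟨z⟩ := Groth.L22.Reg.nonempty_O_zero 1 k
  let eL : CohB1.tensorMod D ((Scheme.Modules.pullback π).obj (Twist.twistProjSpace 1 k ((n : ℤ) + 1))) ≅ L :=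
    tensorAssoc _ _ _ ≪≫ tensorIso (Iso.refl L) (Groth.L29.DC.PullTensor.pullTensor π _ _ ≪≫
      (Scheme.Modules.pullback π).mapIso (a ≪≫ z) ≪≫ Groth.L29.LocFree.pullbackUnitIso π) ≪≫ tensorUnitRight L
  exact ⟨(Scheme.Modules.pushforward π).mapIso eL.symm ≪≫ ep.symm ≪≫ tensorIso e.symm (Iso.refl _) ≪≫ eS ≪≫
    biproduct.mapIso (fun l => eqToIso (congrArg (Twist.twistProjSpace 1 k)
      (show d l + ((n : ℤ) + 1) = (n : ℤ) by rw [hall]; ring))) ≪≫
    biproduct.isoCoproduct _⟩

/-- A module containing one without first cohomology, the quotient living on a rational curve in good degree. -/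
theorem h1_extend {D : X.Modules} (hD : PicF.IsInvertible D) {y : X}
    (hy : topologicalKrullDim (closure ({y} : Set X)) = (1 : ℕ)) (hχ : Curv2.euler k X (ClSub.quotMod (pt y)) = 1)
    (hdeg : -1 ≤ degOn k (pt y) D) (h1 : Subsingleton (Coh.HH X (CohB1.tensorMod D (ClSub.idealMod (pt y))) 1)) :
    Subsingleton (Coh.HH X D 1) := by
  haveI := Groth.L21.RR.isNoetherian_of_proper (X := X) k
  obtain ⟨f, g, w, hS⟩ := shortExact_restrict (pt y) hD
  exact (seq_step k hS (Groth.L18.Ample.isCoh_of_isInvertible hD) h1).2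
    (Groth.L03.SurfFib.FibreH1.subsingleton_h1_curve k hdim hy hD (by rw [hχ]; omega))

omit hπ in
/-- Degree on an exceptional curve from the numbers. -/
theorem degOn_num {D : X.Modules} {h ci cj : ℚ} (hD : HasNum k σ hPc i j D h ci cj) {y : X} (l : Fin 2)
    (ey : excI k σ hPc l = pt y) : (degOn k (pt y) D : ℚ) = -ii k D (ClSub.idealMod (excI k σ hPc l)) := by
  have := degOn_exc k hP hPc hσk hσ hdim hD.1 l
  rw [ey] at this ⊢
  linarith

/-- Conics through a point: no first cohomology. -/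
theorem h1_conic : ∀ (e : ℕ) {D : X.Modules}, HasNum k σ hPc i j D e 1 0 → Subsingleton (Coh.HH X D 1)
  | 0, D, hD => by
    rw [Nat.cast_zero] at hD
    have hd : topologicalKrullDim X = (2 : ℕ) := hdim.trans Nat.cast_ofNat.symm
    have hreg := Groth.L03.SurfAdj.reg_of_smooth k (X := X)
    haveI := Groth.L21.RR.isNoetherian_of_proper (X := X) k
    obtain ⟨A, hA⟩ := Groth.L03.SurfAmple.exists_ample k X hd hreg
    obtain ⟨z, hz, ez, -, hzI, -⟩ := exc_facts k hP hPc hσk hσ hdim i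
    have h0 : Module.finrank k (Coh.HH X D 0) = 0 := by
      haveI : Subsingleton (Coh.HH X D 0) := not_nontrivial_iff_subsingleton.1 fun hn => by
        have h := (Groth.L03.SurfAdj.section_facts k hd hD.1 hA hn).1
        obtain ⟨h2, h3⟩ := degree_ample_pullback k (𝟙 X) hd hA hz hzI
        rw [ii_comm, ii_congr k ((Scheme.Modules.pullbackId X).app A), ii_comm] at h2 h3
        simp only [Functor.id_obj] at h2 h3
        rw [ii_span k hP hPc hσk hσ hdim hD.1 hA.1, sum_two j i hij, hD.2.1, hD.2.2.1, hD.2.2.2, ez] at h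
        have hc := h3 (le_antisymm h2 (by linarith))
        rw [show (𝟙 X : X ⟶ X) z = z from rfl] at hc
        rw [hc.closure_eq] at hz
        have h4 := topologicalKrullDim_zero_of_discreteTopology ({z} : Set X)
        rw [hz] at h4
        norm_num at h4
      exact Module.finrank_zero_of_subsingleton
    haveI h2 := h2_zero k hPc hσk hσ hdim hD.1 (by rw [hD.2.1]; norm_num)
    have hχ := euler_num k hP hPc hσk hσ hdim j i hij hD
    have h3 := Groth.L03.SurfAdj.euler_three k hd D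
    rw [h0, Module.finrank_zero_of_subsingleton (M := Coh.HH X D 2)] at h3
    rw [h3] at hχ
    push_cast at hχ
    haveI := Groth.L16.ProperFinite.finite_HH k (Groth.L18.Ample.isCoh_of_isInvertible hD.1) 1
    have h4 : ((Module.finrank k (Coh.HH X D 1) : ℕ) : ℚ) = ((0 : ℕ) : ℚ) := by push_cast; linarith
    exact Module.finrank_zero_iff.1 (Nat.cast_inj.1 h4)
  | e + 1, D, hD => by
    have hd : topologicalKrullDim X = (2 : ℕ) := hdim.trans Nat.cast_ofNat.symm
    push_cast at hD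
    obtain ⟨y, hy, hyχ, hD₁, hdeg⟩ := step_line k hP hPc hσk hσ hdim j i hij π hπ hD
    set D₁ := CohB1.tensorMod D (ClSub.idealMod (pt y)) with hD₁def
    obtain ⟨hi, hj, hiH, -, hii, -, hoij, hoji⟩ := exc_table k hP hPc hσk hσ hdim j i hij
    obtain ⟨z, hz, ez, -, hzI, hzχ, -, -⟩ := exc_facts k hP hPc hσk hσ hdim i
    obtain ⟨v, hv, ev, -, hvI, hvχ, -, -⟩ := exc_facts k hP hPc hσk hσ hdim j
    have hD₂ : HasNum k σ hPc i j (CohB1.tensorMod D₁ (ClSub.idealMod (excI k σ hPc i))) e 1 (-1) := by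
      have hH : PicF.IsInvertible (Hl k σ) :=
        Groth.L18.Ample.isInvertible_pullback σ (Groth.L16.ProjTwist.isInvertible_twistProjSpace 2 k 1)
      refine ⟨Groth.L18.GenLoc.isInvertible_tensor hD₁.1 hi, ?_, ?_, ?_⟩
      · rw [ii_tensor k hd.le hD₁.1 hi hH, hD₁.2.1, hiH]; ring
      · rw [ii_tensor k hd.le hD₁.1 hi hi, hD₁.2.2.1, hii]; ring
      · rw [ii_tensor k hd.le hD₁.1 hi hj, hD₁.2.2.2, hoij]; ring
    obtain ⟨hD₃, -⟩ := step_centre k hP hPc hσk hσ hdim j i hij hD₂ (by norm_num)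
    have hD₃' : HasNum k σ hPc i j (CohB1.tensorMod (CohB1.tensorMod D₁ (ClSub.idealMod (excI k σ hPc i)))
        (ClSub.idealMod (excI k σ hPc j))) e 1 0 := by simpa using hD₃
    have h3 := h1_conic e hD₃'
    rw [ev] at h3
    have h2 := h1_extend k hP hPc hσk hσ hdim j i hij π hπ hD₂.1 hv hvχ (by
      have := degOn_num k hP hPc hσk hσ hdim j i hij hD₂ j ev
      rw [hD₂.2.2.2] at this
      exact (Int.cast_le (R := ℚ)).1 (by rw [this]; norm_num)) h3
    rw [ez] at h2
    have h1 := h1_extend k hP hPc hσk hσ hdim j i hij π hπ hD₁.1 hz hzχ (by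
      have := degOn_num k hP hPc hσk hσ hdim j i hij hD₁ i ez
      rw [hD₁.2.2.1] at this
      exact (Int.cast_le (R := ℚ)).1 (by rw [this]; norm_num)) h2
    refine h1_extend k hP hPc hσk hσ hdim j i hij π hπ hD.1 hy hyχ ?_ h1
    exact (Int.cast_le (R := ℚ)).1 (by
      rw [hdeg]; push_cast; linarith [(Nat.cast_nonneg e : (0 : ℚ) ≤ e)])

/-- Conics through a point: sections, whatever the fixed multiple of the centre. -/
theorem h0_conic (e : ℕ) : ∀ (s : ℕ) {D : X.Modules}, HasNum k σ hPc i j D e 1 (-(s : ℚ)) →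
    2 * (Module.finrank k (Coh.HH X D 0) : ℤ) = (e : ℤ) ^ 2 + 3 * e
  | 0, D, hD => by
    rw [Nat.cast_zero, neg_zero] at hD
    have hd : topologicalKrullDim X = (2 : ℕ) := hdim.trans Nat.cast_ofNat.symm
    haveI := h1_conic k hP hPc hσk hσ hdim j i hij π hπ e hD
    haveI h2 := h2_zero k hPc hσk hσ hdim hD.1 (by rw [hD.2.1]; linarith [(Nat.cast_nonneg e : (0 : ℚ) ≤ e)])
    have hχ := euler_num k hP hPc hσk hσ hdim j i hij hD
    have h3 := Groth.L03.SurfAdj.euler_three k hd D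
    rw [Module.finrank_zero_of_subsingleton (M := Coh.HH X D 1),
      Module.finrank_zero_of_subsingleton (M := Coh.HH X D 2)] at h3
    rw [h3] at hχ
    push_cast at hχ
    have h4 : ((2 * (Module.finrank k (Coh.HH X D 0) : ℤ) : ℤ) : ℚ) = (((e : ℤ) ^ 2 + 3 * e : ℤ) : ℚ) := by
      push_cast; linarith
    exact_mod_cast h4
  | s + 1, D, hD => by
    obtain ⟨hD', e'⟩ := step_centre k hP hPc hσk hσ hdim j i hij hD (by
      push_cast; linarith [(Nat.cast_nonneg s : (0 : ℚ) ≤ s)])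
    rw [← e']
    refine h0_conic e s ?_
    rwa [show (-((s + 1 : ℕ) : ℚ) + 1) = -(s : ℚ) by push_cast; ring] at hD'

/-- Numbers with both multiplicities one. -/
theorem push_of_simple {L : X.Modules} {n : ℕ} (hL : HasNum k σ hPc i j L ((n : ℚ) + 2) 1 1) :
    Nonempty ((Coh.push π).obj L ≅ (∐ fun t : Fin n => Twist.twistProjSpace 1 k ((t : ℕ) + 1 : ℤ)) ⨿
      (Twist.twistProjSpace 1 k ((n : ℤ) + 1) ⨿ Twist.twistProjSpace 1 k ((n : ℤ) + 1))) := by
  classical
  haveI := Groth.L21.RR.isNoetherian_of_proper (X := X) k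
  letI : (CohB1.ProjSpace 1 k).Over (Spec (CommRingCat.of k)) := ⟨CohB1.ProjSpace.toSpec 1 k⟩
  haveI : IsProper (CohB1.ProjSpace 1 k ↘ Spec (CommRingCat.of k)) := Groth.L16.ProjSpace.isProper_toSpec 1 k
  haveI : Smooth (CohB1.ProjSpace 1 k ↘ Spec (CommRingCat.of k)) :=
    inferInstanceAs (Smooth (CohB1.ProjSpace.toSpec 1 k))
  haveI : IsIntegral (CohB1.ProjSpace 1 k) := Groth.L16.ProjSpace.isIntegral 1 k
  have hdC : topologicalKrullDim (CohB1.ProjSpace 1 k) = 1 :=
    (Groth.L16.ProjSpace.topologicalKrullDim_eq_of_field 1 k).trans Nat.cast_one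
  obtain ⟨hgood, hH, hdj⟩ := goodDeg k hP hPc hσk hσ hdim j i hij π hπ (h := (n : ℤ) + 2) (ci := 1) (cj := 1)
    (by simpa using hL) (by omega) (by omega) (by omega) (by omega)
  obtain ⟨-, hfree⟩ := push_facts k hP hPc hσk hσ hdim j π hπ
    (fun a b c h h' h'' => (no_three a b c h h' h'').elim) hL.1 hgood
  rw [hH, hdj, show ((n : ℤ) + 2 - 1 + 1).toNat = n + 2 by omega] at hfree
  obtain ⟨d, -, ⟨e⟩⟩ := Groth.L21.P1.exists_splitting k hfree
  let F : ℕ → ℕ := fun t => ∑ l, (d l - t + 1).toNat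
  have hF : ∀ t : ℕ, h k 0 (CohB1.tensorMod ((Coh.push π).obj L) (O' 1 k (-(t : ℤ)))) = F t := fun t => by
    obtain ⟨e'⟩ := Groth.L03.SurfFib.nonempty_sumO_tensor (k := k) d (-(t : ℤ))
    rw [Groth.L03.SurfFib.finrank_line_iso (k := k) (tensorIso e.symm (Iso.refl _) ≪≫ e') 0, h_sumO]
    exact Finset.sum_congr rfl fun l _ => by rw [(h_O k _).1, sub_eq_add_neg]
  have hval : ∀ t : ℕ, 1 ≤ t → (t ≤ n + 2 → 2 * (F t : ℤ) =
      ((n : ℤ) + 2 - t) ^ 2 + 3 * ((n : ℤ) + 2 - t)) ∧ (n + 2 < t → F t = 0) := by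
    intro t ht
    have hN := hasNum_twist k hP hPc hσk hσ hdim j i hij π hπ hL (-(t : ℤ))
    have h0 := Groth.L03.SurfLeray.h0_twist k hdC π L (Groth.L16.ProjTwist.isInvertible_twistProjSpace 1 k (-(t : ℤ)))
    have hFt : F t = Module.finrank k (Coh.HH X (CohB1.tensorMod L
        ((Scheme.Modules.pullback π).obj (Twist.twistProjSpace 1 k (-(t : ℤ))))) 0) := (hF t).symm.trans h0.symm
    refine ⟨fun ht' => ?_, fun ht' => ?_⟩
    · obtain ⟨q, hq⟩ : ∃ q : ℕ, n + 2 = t + q := ⟨_, (Nat.add_sub_cancel' ht').symm⟩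
      have hq' : ((n : ℤ) + 2 - t) = q := by omega
      rw [hFt, hq']
      refine h0_conic k hP hPc hσk hσ hdim j i hij π hπ q (t - 1) ?_
      have hqQ : (n : ℚ) + 2 = (t : ℚ) + q := by exact_mod_cast hq
      convert hN using 1
      · push_cast; linarith
      · rw [Nat.cast_sub ht]; push_cast; ring
    · rw [hFt]
      refine h0_eq_zero_of_neg k hP hPc hσk hσ hdim j i hij hN ?_
      have : (n : ℚ) + 2 < (t : ℚ) := by exact_mod_cast ht'
      push_cast
      linarith
  have hcard : ∀ t : ℕ, 1 ≤ t →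
      (Finset.univ.filter fun l => (t : ℤ) ≤ d l).card = if t ≤ n + 1 then n + 2 - t + 1 else 0 := by
    intro t ht
    have h := card_level d t
    change _ = (F t : ℤ) - (F (t + 1) : ℤ) at h
    obtain ⟨a1, a2⟩ := hval t ht
    obtain ⟨b1, b2⟩ := hval (t + 1) (by omega)
    split_ifs with hsplit
    · have ha := a1 (by omega)
      have hb := b1 (by omega)
      push_cast at hb
      have hsimp : (((n : ℤ) + 2 - t) ^ 2 + 3 * ((n : ℤ) + 2 - t)) -
          (((n : ℤ) + 2 - ((t : ℤ) + 1)) ^ 2 + 3 * ((n : ℤ) + 2 - ((t : ℤ) + 1))) = 2 * ((n : ℤ) + 2 - t) + 2 := by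
        ring
      omega
    · by_cases ht2 : t = n + 2
      · have ha := a1 (by omega)
        have hb := b2 (by omega)
        subst ht2
        push_cast at ha
        simp at ha
        omega
      · rw [a2 (by omega), b2 (by omega)] at h
        omega
  let τ := Tuple.sort d
  have hg : ∀ x, d (τ x) = if (x : ℕ) ≤ n then ((x : ℕ) : ℤ) + 1 else ((n + 1 : ℕ) : ℤ) := by
    refine degrees_eq (d ∘ τ) (Tuple.monotone_sort d) fun t ht => ?_
    rw [← hcard t ht]
    refine Finset.card_bij (fun x _ => τ x) (fun x hx => ?_) (fun a _ b _ hab => τ.injective hab) fun b hb => ?_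
    · simpa using hx
    · exact ⟨τ.symm b, by simpa using hb, τ.apply_symm_apply b⟩
  refine ⟨e.symm ≪≫ (biproduct.whiskerEquiv τ (fun x => Iso.refl _)).symm ≪≫
    splitTwo (fun x => Groth.L21.P1.O k (d (τ x))) _ (eqToIso ?_) (eqToIso ?_) fun t => eqToIso ?_⟩
  · rw [hg, if_neg (by simp)]; push_cast; rfl
  · rw [hg, if_pos (by simp)]; simp <;> rfl
  · rw [hg, if_pos (by simp)]; simp <;> rfl

end Groth.L03.PlaneProj
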